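import Groth.Agent.AVTheta.Cart
import Groth.Agent.H23.KLBasic
import Groth.Agent.H23.TrivBasic
import Groth.Agent.H23.CubeField
import Groth.Agent.GrpSchLib.AntiAffine
import Groth.Agent.AVTorsLib.Count

/-!
Points of theta groups: base change, scalars, commutators, lifts.
-/

noncomputable section

set_option autoImplicit false
set_option linter.style.haveILetI false
set_option linter.unusedSectionVars false
set_option backward.isDefEq.respectTransparency false
set_option backward.isDefEq.respectTransparency.types false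
set_option maxHeartbeats 1000000
set_option synthInstance.maxHeartbeats 400000

universe u

open CategoryTheory CategoryTheory.Limits AlgebraicGeometry MonoidalCategory CartesianMonoidalCategory TopologicalSpace
  Pseudofunctor Bicategory
open scoped MonObj Groth.Agent.H23.PicMul

namespace Groth.Agent.AVTheta

open ThetaGrp

/-- an isomorphism has an invertible module part -/
theorem isCart_iso {a b : SM.{u}} (e : a ≅ b) : IsCart e.hom := by
  have key : ∀ {a b : SM.{u}} (p : a ⟶ b) (φ : b ⟶ a), p ≫ φ = 𝟙 a → IsSplitMono p.fiber ∧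
      IsSplitEpi ((ThetaGrp.modPF.map p.base.op.toLoc).toFunctor.map φ.fiber ≫
        (ThetaGrp.modPF.mapComp φ.base.op.toLoc p.base.op.toLoc).inv.toNatTrans.app a.fiber) := by
    intro a b p φ h
    obtain ⟨hb, hf⟩ := (CoGrothendieck.Hom.ext_iff _ _).1 h
    rw [CoGrothendieck.categoryStruct_comp_fiber] at hf
    haveI : IsIso (CoGrothendieck.Hom.fiber (𝟙 a : a ⟶ a)) := isCart_id a
    haveI : IsIso (p.fiber ≫ (ThetaGrp.modPF.map p.base.op.toLoc).toFunctor.map φ.fiber ≫
        (ThetaGrp.modPF.mapComp φ.base.op.toLoc p.base.op.toLoc).inv.toNatTrans.app a.fiber) := by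
      rw [hf]; infer_instance
    let E' := (ThetaGrp.modPF.map p.base.op.toLoc).toFunctor.map φ.fiber ≫
      (ThetaGrp.modPF.mapComp φ.base.op.toLoc p.base.op.toLoc).inv.toNatTrans.app a.fiber
    haveI : IsIso (p.fiber ≫ E') := ‹_›
    refine ⟨IsSplitMono.mk' ⟨E' ≫ inv (p.fiber ≫ E'), ?_⟩, IsSplitEpi.mk' ⟨inv (p.fiber ≫ E') ≫ p.fiber, ?_⟩⟩
    · rw [← Category.assoc, IsIso.hom_inv_id]
    · rw [Category.assoc, IsIso.inv_hom_id]
  obtain ⟨h1, h2⟩ := key e.hom e.inv e.hom_inv_id
  obtain ⟨h3, -⟩ := key e.inv e.hom e.inv_hom_id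
  haveI := h1
  haveI := h2
  haveI := h3
  let E := (ThetaGrp.modPF.map e.hom.base.op.toLoc).toFunctor.map e.inv.fiber ≫
    (ThetaGrp.modPF.mapComp e.inv.base.op.toLoc e.hom.base.op.toLoc).inv.toNatTrans.app a.fiber
  haveI : Mono E := mono_comp _ _
  haveI : IsIso E := isIso_of_mono_of_isSplitEpi E
  show IsIso e.hom.fiber
  obtain ⟨hb, hf⟩ := (CoGrothendieck.Hom.ext_iff _ _).1 e.hom_inv_id
  rw [CoGrothendieck.categoryStruct_comp_fiber] at hf
  haveI : IsIso (CoGrothendieck.Hom.fiber (𝟙 a : a ⟶ a)) := isCart_id a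
  haveI : IsIso (e.hom.fiber ≫ E) := by
    show IsIso (e.hom.fiber ≫ _ ≫ _)
    rw [hf]; infer_instance
  exact IsIso.of_isIso_comp_right e.hom.fiber E

variable {S : Scheme.{u}} {A : Over S} [GrpObj A] {L : A.left.Modules}

/-- the Mumford translations determine the point -/
theorem transl_injective {T : Over S} {x y : T ⟶ A} (h : (transl A x).left = (transl A y).left) : x = y := by
  have h' := congrArg (fun f => lift (1 : T ⟶ A) (𝟙 T) ≫ f ≫ fst A T) (Over.OverMorphism.ext h : transl A x = transl A y)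
  simpa [transl, MonObj.comp_mul] using h'

/-- the base change morphisms are cartesian -/
theorem isCart_bcLift {T G : Over S} (g : T ⟶ G) : IsCart (bcLift A L g) := by
  show IsIso ((Scheme.Modules.pullbackCongr _).hom.app L ≫ (Scheme.Modules.pullbackComp _ _).inv.app L)
  infer_instance

theorem isCart_pts {T : Over S} (β : thetaPts A L T) : IsCart β.1.hom := isCart_iso β.1

theorem exists_pt {T : Over S} (β : thetaPts A L T) : ∃ x : T ⟶ A, IsOverPt β x := β.2

theorem pt_unique {T : Over S} {β : thetaPts A L T} {x y : T ⟶ A} (hx : IsOverPt β x) (hy : IsOverPt β y) : x = y :=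
  transl_injective (hx.symm.trans hy)

theorem isOverPt_mul {T : Over S} {β ζ : thetaPts A L T} {x y : T ⟶ A} (hx : IsOverPt β x) (hy : IsOverPt ζ y) :
    IsOverPt (β * ζ) (y * x) := by
  show (ζ.1.hom ≫ β.1.hom).base = _
  rw [CoGrothendieck.categoryStruct_comp_base, show ζ.1.hom.base = _ from hy, show β.1.hom.base = _ from hx,
    transl_mul, Over.comp_left]

theorem isOverPt_one {T : Over S} : IsOverPt (1 : thetaPts A L T) 1 := by
  show (𝟙 (thetaObj A L T) : thetaObj A L T ⟶ thetaObj A L T).base = _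
  rw [transl_one]
  rfl

theorem pts_ext {T : Over S} {β ζ : thetaPts A L T} (h : β.1.hom = ζ.1.hom) : β = ζ := Subtype.ext (Aut.ext h)

/-- a cartesian endomorphism over a translation is a point -/
theorem exists_pts_of_cart {T : Over S} (x : T ⟶ A) (φ : thetaObj A L T ⟶ thetaObj A L T) (hφ : IsCart φ)
    (hb : φ.base = (transl A x).left) : ∃ β : thetaPts A L T, β.1.hom = φ ∧ IsOverPt β x := by
  obtain ⟨ψ, h1, h2, -⟩ := exists_inv hφ (transl A x⁻¹).left
    (by rw [hb, ← Over.comp_left, ← transl_mul, inv_mul_cancel, transl_one]; rfl)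
    (by rw [hb, ← Over.comp_left, ← transl_mul, mul_inv_cancel, transl_one]; rfl)
  exact ⟨⟨⟨φ, ψ, h1, h2⟩, x, hb⟩, rfl, hb⟩

theorem transl_bc {T T' : Over S} (g : T' ⟶ T) (x : T ⟶ A) :
    transl A (g ≫ x) ≫ (A ◁ g) = (A ◁ g) ≫ transl A x := by
  apply CartesianMonoidalCategory.hom_ext
  · simp [transl, MonObj.comp_mul]
  · simp [transl]

/-- points of the theta group can be changed of base uniquely -/
theorem existsUnique_bc {T T' : Over S} (g : T' ⟶ T) (β : thetaPts A L T) :
    ∃! β' : thetaPts A L T', IsBaseChange β' g β := by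
  obtain ⟨x, hx⟩ := exists_pt β
  have hb : (transl A (g ≫ x)).left ≫ (bcLift A L g).base = (bcLift A L g ≫ β.1.hom).base := by
    rw [CoGrothendieck.categoryStruct_comp_base, show β.1.hom.base = _ from hx]
    show (transl A (g ≫ x)).left ≫ (A ◁ g).left = (A ◁ g).left ≫ (transl A x).left
    rw [← Over.comp_left, transl_bc, Over.comp_left]
  obtain ⟨φ, ⟨hφb, hφ⟩, huniq⟩ := existsUnique_lift (isCart_bcLift g) (bcLift A L g ≫ β.1.hom) _ hb
  obtain ⟨β', hβ', hβ'x⟩ := exists_pts_of_cart (g ≫ x) φ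
    (isCart_of_comp (isCart_bcLift g) (by rw [hφ]; exact isCart_comp (isCart_bcLift g) (isCart_pts β))) hφb
  refine ⟨β', ?_, fun ζ hζ => pts_ext ?_⟩
  · show β'.1.hom ≫ _ = _
    rw [hβ', hφ]
  · obtain ⟨y, hy⟩ := exists_pt ζ
    have h1 := congrArg CoGrothendieck.Hom.base (show ζ.1.hom ≫ bcLift A L g = bcLift A L g ≫ β.1.hom from hζ)
    rw [CoGrothendieck.categoryStruct_comp_base, CoGrothendieck.categoryStruct_comp_base,
      show ζ.1.hom.base = _ from hy, show β.1.hom.base = _ from hx] at h1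
    have h2 : transl A y ≫ (A ◁ g) = transl A (g ≫ x) ≫ (A ◁ g) :=
      Over.OverMorphism.ext (by rw [Over.comp_left, Over.comp_left]; exact h1.trans (by
        show (A ◁ g).left ≫ (transl A x).left = _
        rw [← Over.comp_left, ← transl_bc, Over.comp_left]))
    have hyx : y = g ≫ x := by
      have h3 := congrArg (fun f => lift (1 : T' ⟶ A) (𝟙 T') ≫ f ≫ fst A T) h2
      simpa [transl, MonObj.comp_mul] using h3
    subst hyx
    exact hβ' ▸ (huniq ζ.1.hom ⟨hy, hζ⟩)

theorem isBaseChange_mul {T T' : Over S} {g : T' ⟶ T} {β ζ : thetaPts A L T} {β' ζ' : thetaPts A L T'}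
    (hβ : IsBaseChange β' g β) (hζ : IsBaseChange ζ' g ζ) : IsBaseChange (β' * ζ') g (β * ζ) := by
  show (ζ'.1.hom ≫ β'.1.hom) ≫ bcLift A L g = bcLift A L g ≫ ζ.1.hom ≫ β.1.hom
  rw [Category.assoc, show β'.1.hom ≫ _ = _ from hβ, reassoc_of% (show ζ'.1.hom ≫ _ = _ from hζ)]

theorem isOverPt_bc {T T' : Over S} {g : T' ⟶ T} {β : thetaPts A L T} {β' : thetaPts A L T'} {x : T ⟶ A}
    (hβ : IsBaseChange β' g β) (hx : IsOverPt β x) : IsOverPt β' (g ≫ x) := by
  have hb : (transl A (g ≫ x)).left ≫ (bcLift A L g).base = (bcLift A L g ≫ β.1.hom).base := by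
    rw [CoGrothendieck.categoryStruct_comp_base, show β.1.hom.base = _ from hx]
    show (transl A (g ≫ x)).left ≫ (A ◁ g).left = (A ◁ g).left ≫ (transl A x).left
    rw [← Over.comp_left, transl_bc, Over.comp_left]
  obtain ⟨y, hy⟩ := exists_pt β'
  have h1 := congrArg CoGrothendieck.Hom.base (show β'.1.hom ≫ bcLift A L g = bcLift A L g ≫ β.1.hom from hβ)
  rw [← hb, CoGrothendieck.categoryStruct_comp_base, show β'.1.hom.base = _ from hy] at h1
  have h2 : transl A y ≫ (A ◁ g) = transl A (g ≫ x) ≫ (A ◁ g) := Over.OverMorphism.ext h1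
  have hyx : y = g ≫ x := by
    have h3 := congrArg (fun f => lift (1 : T' ⟶ A) (𝟙 T') ≫ f ≫ fst A T) h2
    simpa [transl, MonObj.comp_mul] using h3
  exact hyx ▸ hy

theorem isInvertible_obj (hL : PicF.IsInvertible L) (T : Over S) :
    PicF.IsInvertible (Y := (thetaObj A L T).base) (thetaObj A L T).fiber :=
  PicClLib.isInvertible_pullback (fst A T).left hL

/-- scalars coming from the base -/
def bsc (A : Over S) [GrpObj A] (L : A.left.Modules) {T : Over S} (c : Γ(T.left, ⊤)) :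
    thetaObj A L T ⟶ thetaObj A L T :=
  sc (thetaObj A L T) ((snd A T).left.appTop c)

theorem bsc_comm {T : Over S} (β : thetaPts A L T) (c : Γ(T.left, ⊤)) :
    bsc A L c ≫ β.1.hom = β.1.hom ≫ bsc A L c := by
  obtain ⟨x, hx⟩ := exists_pt β
  have h := sc_comp_eq β.1.hom (show Γ((thetaObj A L T).base, ⊤) from (snd A T).left.appTop c)
  rw [show β.1.hom.base = _ from hx] at h
  refine Eq.trans ?_ h
  show sc _ _ ≫ _ = sc _ _ ≫ _
  congr 2
  rw [← ConcreteCategory.comp_apply, ← Scheme.Hom.comp_appTop, ← Over.comp_left, transl_snd]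

theorem bsc_bc {T T' : Over S} (g : T' ⟶ T) (c : Γ(T.left, ⊤)) :
    bsc A L (g.left.appTop c) ≫ bcLift A L g = bcLift A L g ≫ bsc A L c := by
  refine Eq.trans ?_ (sc_comp_eq (bcLift A L g) (show Γ((thetaObj A L T).base, ⊤) from (snd A T).left.appTop c))
  show sc _ _ ≫ _ = sc _ _ ≫ _
  congr 2
  show (snd A T').left.appTop (g.left.appTop c) = (A ◁ g).left.appTop ((snd A T).left.appTop c)
  rw [← ConcreteCategory.comp_apply, ← Scheme.Hom.comp_appTop, ← ConcreteCategory.comp_apply,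
    ← Scheme.Hom.comp_appTop, ← Over.comp_left, ← Over.comp_left, whiskerLeft_snd]

theorem bsc_one {T : Over S} : bsc A L (1 : Γ(T.left, ⊤)) = 𝟙 _ := by
  rw [bsc, map_one]
  exact sc_one _

theorem bsc_mul {T : Over S} (c d : Γ(T.left, ⊤)) : bsc A L c ≫ bsc A L d = bsc A L (d * c) := by
  rw [bsc, bsc, sc_mul, bsc, map_mul]

/-- `c` is the commutator of two points -/
def IsComm {T : Over S} (β₁ β₂ : thetaPts A L T) (c : Γ(T.left, ⊤)) : Prop :=
  (β₁ * β₂).1.hom = bsc A L c ≫ (β₂ * β₁).1.hom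

theorem isComm_one_iff {T : Over S} (β₁ β₂ : thetaPts A L T) : IsComm β₁ β₂ 1 ↔ β₁ * β₂ = β₂ * β₁ := by
  rw [IsComm, bsc_one, Category.id_comp]
  exact ⟨pts_ext, fun h => by rw [h]⟩

theorem isComm_bc {T T' : Over S} {g : T' ⟶ T} {β₁ β₂ : thetaPts A L T} {ζ₁ ζ₂ : thetaPts A L T'}
    (h₁ : IsBaseChange ζ₁ g β₁) (h₂ : IsBaseChange ζ₂ g β₂) {c : Γ(T.left, ⊤)} (h : IsComm β₁ β₂ c) :
    IsComm ζ₁ ζ₂ (g.left.appTop c) := by
  obtain ⟨x, hx⟩ := exists_pt (ζ₁ * ζ₂)
  refine cancel_cart (isCart_bcLift g) ?_ ?_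
  · rw [CoGrothendieck.categoryStruct_comp_base, bsc, sc_base]
    have h0 := congrArg CoGrothendieck.Hom.base (show (β₁ * β₂).1.hom = _ from h)
    rw [CoGrothendieck.categoryStruct_comp_base, bsc, sc_base, Category.id_comp] at h0
    obtain ⟨a, ha⟩ := exists_pt (β₁ * β₂)
    obtain ⟨b, hb⟩ := exists_pt (β₂ * β₁)
    obtain rfl : a = b := transl_injective (ha.symm.trans (h0.trans hb))
    rw [show (ζ₁ * ζ₂).1.hom.base = _ from isOverPt_bc (isBaseChange_mul h₁ h₂) ha,
      show (ζ₂ * ζ₁).1.hom.base = _ from isOverPt_bc (isBaseChange_mul h₂ h₁) hb, Category.id_comp]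
  · rw [Category.assoc, show (ζ₂ * ζ₁).1.hom ≫ _ = _ from isBaseChange_mul h₂ h₁, ← Category.assoc, bsc_bc,
      Category.assoc, ← h, show (ζ₁ * ζ₂).1.hom ≫ _ = _ from isBaseChange_mul h₁ h₂]

/-- changing the points by scalars does not change the commutator -/
theorem isComm_congr {T : Over S} {β₁ β₂ ζ₁ ζ₂ : thetaPts A L T} {d₁ d₂ c : Γ(T.left, ⊤)}
    (h₁ : ζ₁.1.hom = bsc A L d₁ ≫ β₁.1.hom) (h₂ : ζ₂.1.hom = bsc A L d₂ ≫ β₂.1.hom) (h : IsComm β₁ β₂ c) :
    IsComm ζ₁ ζ₂ c := by
  have h' : β₂.1.hom ≫ β₁.1.hom = bsc A L c ≫ β₁.1.hom ≫ β₂.1.hom := h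
  show ζ₂.1.hom ≫ ζ₁.1.hom = bsc A L c ≫ ζ₁.1.hom ≫ ζ₂.1.hom
  rw [h₁, h₂]
  simp only [Category.assoc]
  rw [← reassoc_of% (bsc_comm β₂ d₁), ← reassoc_of% (bsc_comm β₁ d₂), h']
  simp only [← Category.assoc, bsc_mul]
  congr 3
  ring

section field

variable {k : Type u} [Field k] {A : Over (Spec (CommRingCat.of k))} [GrpObj A] [IsProper A.hom]
  [GeometricallyIntegral A.hom] {L : A.left.Modules}

variable (A) in
theorem bijective_snd (T : Over (Spec (CommRingCat.of k))) : Function.Bijective (snd A T).left.appTop := by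
  haveI : GeometricallyConnected A.hom := AVTorsLib.geometricallyConnected_of_geometricallyIntegral A.hom
  exact GrpSchLib.AntiAffine.bijective_appTop_snd (H23.CubeField.bijective_appTop_of_connected A) T.hom

theorem bsc_injective (hL : PicF.IsInvertible L) {T : Over (Spec (CommRingCat.of k))} {c d : Γ(T.left, ⊤)}
    (h : bsc A L c = bsc A L d) : c = d :=
  (bijective_snd A T).1 (sc_injective (isInvertible_obj hL T) h)

/-- vertical endomorphisms are scalars -/
theorem exists_eq_bsc (hL : PicF.IsInvertible L) {T : Over (Spec (CommRingCat.of k))}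
    (p : thetaObj A L T ⟶ thetaObj A L T) (hp : p.base = 𝟙 _) : ∃ c, p = bsc A L c := by
  obtain ⟨d, rfl⟩ := exists_eq_sc (isInvertible_obj hL T) p hp
  obtain ⟨c, hc⟩ := (bijective_snd A T).2 (show Γ((A ⊗ T).left, ⊤) from d)
  exact ⟨c, by rw [bsc, hc]⟩

/-- two points over the same translation differ by a scalar -/
theorem exists_scalar (hL : PicF.IsInvertible L) {T : Over (Spec (CommRingCat.of k))} {β ζ : thetaPts A L T}
    {x : T ⟶ A} (hβ : IsOverPt β x) (hζ : IsOverPt ζ x) : ∃ c, ζ.1.hom = bsc A L c ≫ β.1.hom := by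
  obtain ⟨c, hc⟩ := exists_eq_bsc hL (ζ.1.hom ≫ β.1.inv) (by
    have h1 := congrArg CoGrothendieck.Hom.base β.1.hom_inv_id
    rw [CoGrothendieck.categoryStruct_comp_base, show β.1.hom.base = _ from hβ] at h1
    rw [CoGrothendieck.categoryStruct_comp_base, show ζ.1.hom.base = _ from hζ]
    exact h1)
  exact ⟨c, by rw [← hc, Category.assoc, Iso.inv_hom_id, Category.comp_id]⟩

theorem existsUnique_comm [IsCommMonObj A] (hL : PicF.IsInvertible L) {T : Over (Spec (CommRingCat.of k))}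
    (β₁ β₂ : thetaPts A L T) : ∃! c, IsComm β₁ β₂ c := by
  obtain ⟨x, hx⟩ := exists_pt β₁
  obtain ⟨y, hy⟩ := exists_pt β₂
  obtain ⟨c, hc⟩ := exists_scalar hL (isOverPt_mul hy hx) (mul_comm y x ▸ isOverPt_mul hx hy)
  refine ⟨c, hc, fun d hd => bsc_injective hL ?_⟩
  exact (cancel_mono (β₂ * β₁).1.hom).1 (hd.symm.trans hc)

theorem isComm_unique (hL : PicF.IsInvertible L) {T : Over (Spec (CommRingCat.of k))} {β₁ β₂ : thetaPts A L T}
    {c d : Γ(T.left, ⊤)} (hc : IsComm β₁ β₂ c) (hd : IsComm β₁ β₂ d) : c = d :=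
  bsc_injective hL ((cancel_mono (β₂ * β₁).1.hom).1 (hc.symm.trans hd))

/-- the open subscheme over the base -/
abbrev ovOpen (T : Over (Spec (CommRingCat.of k))) (U : T.left.Opens) : Over (Spec (CommRingCat.of k)) :=
  Over.mk (U.ι ≫ T.hom)

/-- the inclusion of an open subscheme -/
abbrev ovIncl (T : Over (Spec (CommRingCat.of k))) (U : T.left.Opens) : ovOpen T U ⟶ T := Over.homMk U.ι rfl

/-- a point is lifted by an isomorphism of modules -/
theorem exists_pts_of_cl {T : Over (Spec (CommRingCat.of k))} (x : T ⟶ A)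
    (h : PicF.pullCl (transl A x ≫ fst A T).left (PicF.cl L) = PicF.pullCl (fst A T).left (PicF.cl L)) :
    ∃ β : thetaPts A L T, IsOverPt β x := by
  obtain ⟨e⟩ := (PicGrp.cl_eq_cl_iff _ _).1
    (show PicF.cl ((Scheme.Modules.pullback (transl A x ≫ fst A T).left).obj L) =
      PicF.cl ((Scheme.Modules.pullback (fst A T).left).obj L) from h)
  let h' : (Scheme.Modules.pullback (fst A T).left).obj L ⟶
      (Scheme.Modules.pullback (transl A x).left).obj ((Scheme.Modules.pullback (fst A T).left).obj L) :=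
    e.inv ≫ (Scheme.Modules.pullbackCongr (show (transl A x ≫ fst A T).left = (transl A x).left ≫ (fst A T).left from rfl)).hom.app L ≫
      (Scheme.Modules.pullbackComp (transl A x).left (fst A T).left).inv.app L
  obtain ⟨β, -, hβ⟩ := exists_pts_of_cart x (mkHom (transl A x).left h') (isCart_mkHom _ _) rfl
  exact ⟨β, hβ⟩

/-- a point in `K(L)` lifts locally to the theta group -/
theorem exists_local_pts (hL : PicF.IsInvertible L) {T : Over (Spec (CommRingCat.of k))} (x : T ⟶ A)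
    (hx : IsMumfordTriv A L x) (t : T.left) :
    ∃ U : T.left.Opens, t ∈ U ∧ ∃ β : thetaPts A L (ovOpen T U), IsOverPt β (ovIncl T U ≫ x) := by
  haveI : Subsingleton ↥(Spec (CommRingCat.of k)) := inferInstanceAs (Subsingleton (PrimeSpectrum k))
  haveI : Nonempty ↥(Spec (CommRingCat.of k)) := inferInstanceAs (Nonempty (PrimeSpectrum k))
  have h := (H23.KLBasic.iff_eq_pull hL x).1 hx
  obtain ⟨U, htU, e, he⟩ := InvX.exists_frame (PicClLib.isInvertible_pullback x.left hL) t
  refine ⟨U, htU, exists_pts_of_cl _ ?_⟩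
  have h1 : PicF.pullCl U.ι (PicF.pullCl x.left (PicF.cl L)) = 1 := by
    refine (PicGrp.cl_eq_cl_iff _ _).2 ?_
    have hf := InvX.isFrame_pullElt U.ι he
    have hU : (⊤ : U.toScheme.Opens) ≤ U.ι ⁻¹ᵁ U := fun z _ => z.2
    exact H23.TrivBasic.triv_of_frame (hf.res hU)
  have h' := congrArg (PicF.pullCl (A ◁ ovIncl T U).left) h
  rw [PicClLib.pullCl_comp, H23.PicMul.pullCl_mul, PicClLib.pullCl_comp, PicClLib.pullCl_comp, ← Over.comp_left,
    ← Over.comp_left, ← Over.comp_left, whiskerLeft_fst, whiskerLeft_snd, ← Category.assoc, ← transl_bc,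
    Category.assoc, whiskerLeft_fst] at h'
  rw [h', Over.comp_left, ← PicClLib.pullCl_comp (snd A (ovOpen T U)).left (ovIncl T U).left,
    show (ovIncl T U).left = U.ι from rfl, h1, H23.PicMul.pullCl_one, _root_.mul_one]

end field

end Groth.Agent.AVTheta

end
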