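import Groth.Agent.AVTheta.SeesawScheme
import Groth.Agent.AVTheta.Basic

/-!
The closed subgroup `K(L)` exists.
-/

noncomputable section

set_option autoImplicit false
set_option linter.style.haveILetI false
set_option linter.unusedSectionVars false
set_option backward.isDefEq.respectTransparency false
set_option backward.isDefEq.respectTransparency.types false
set_option maxHeartbeats 1000000
set_option synthInstance.maxHeartbeats 400000

universe u

open CategoryTheory CategoryTheory.Limits AlgebraicGeometry MonoidalCategory CartesianMonoidalCategory TopologicalSpace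
open scoped MonObj Groth.Agent.H23.PicMul

namespace Groth.Agent.AVTheta.KLExist

open Groth.Agent.H23 TrivBasic ThetaGrp

variable {k : Type u} [Field k] (A : Over (Spec (CommRingCat.of k))) [GrpObj A]

/-- a representative of the Mumford bundle -/
theorem exists_mumford (L : A.left.Modules) (hL : PicF.IsInvertible L) :
    ∃ E : (A ⊗ A).left.Modules, PicF.IsInvertible E ∧
      ∀ {T : Over (Spec (CommRingCat.of k))} (w : T ⟶ A ⊗ A),
        Triv ((Scheme.Modules.pullback w.left).obj E) ↔
          PicF.pullCl (w ≫ μ[A]).left (PicF.cl L) =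
            PicF.pullCl (w ≫ fst A A).left (PicF.cl L) * PicF.pullCl (w ≫ snd A A).left (PicF.cl L) := by
  obtain ⟨D₁, hD₁, e₁⟩ := PicInv.exists_inverse (PicClLib.isInvertible_pullback (fst A A).left hL)
  obtain ⟨D₂, hD₂, e₂⟩ := PicInv.exists_inverse (PicClLib.isInvertible_pullback (snd A A).left hL)
  let M₀ := (Scheme.Modules.pullback μ[A].left).obj L
  refine ⟨CohB1.tensorMod (CohB1.tensorMod M₀ D₁) D₂,
    PicMul.isInvertible_tensor (PicMul.isInvertible_tensor (PicClLib.isInvertible_pullback μ[A].left hL) hD₁) hD₂,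
    fun {T} w => ?_⟩
  have hc : ∀ (v : A ⊗ A ⟶ A), PicF.pullCl w.left (PicF.cl ((Scheme.Modules.pullback v.left).obj L)) =
      PicF.pullCl (w ≫ v).left (PicF.cl L) := fun v => by
    show PicF.pullCl w.left (PicF.pullCl v.left (PicF.cl L)) = _
    rw [PicClLib.pullCl_comp, Over.comp_left]
  have h₁ := congrArg (PicF.pullCl w.left) ((PicGrp.cl_eq_cl_iff _ _).2 e₁)
  have h₂ := congrArg (PicF.pullCl w.left) ((PicGrp.cl_eq_cl_iff _ _).2 e₂)
  rw [PicMul.cl_tensor, ← PicMul.one_def, PicMul.pullCl_mul, PicMul.pullCl_one, hc] at h₁ h₂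
  refine (PicGrp.cl_eq_cl_iff ((Scheme.Modules.pullback w.left).obj _) _).symm.trans ?_
  show PicF.pullCl w.left (PicF.cl (CohB1.tensorMod (CohB1.tensorMod M₀ D₁) D₂)) = 1 ↔ _
  rw [PicMul.cl_tensor, PicMul.cl_tensor, PicMul.pullCl_mul, PicMul.pullCl_mul, hc]
  constructor <;> intro h
  · calc _ = PicF.pullCl (w ≫ μ[A]).left (PicF.cl L) *
          (PicF.pullCl (w ≫ fst A A).left (PicF.cl L) * PicF.pullCl w.left (PicF.cl D₁)) *
          (PicF.pullCl (w ≫ snd A A).left (PicF.cl L) * PicF.pullCl w.left (PicF.cl D₂)) := by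
            rw [h₁, h₂, _root_.mul_one, _root_.mul_one]
      _ = (PicF.pullCl (w ≫ μ[A]).left (PicF.cl L) * PicF.pullCl w.left (PicF.cl D₁) *
            PicF.pullCl w.left (PicF.cl D₂)) *
          (PicF.pullCl (w ≫ fst A A).left (PicF.cl L) * PicF.pullCl (w ≫ snd A A).left (PicF.cl L)) := by ac_rfl
      _ = _ := by rw [h, _root_.one_mul]
  · rw [h]
    calc _ = (PicF.pullCl (w ≫ fst A A).left (PicF.cl L) * PicF.pullCl w.left (PicF.cl D₁)) *
          (PicF.pullCl (w ≫ snd A A).left (PicF.cl L) * PicF.pullCl w.left (PicF.cl D₂)) := by ac_rfl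
      _ = _ := by rw [h₁, h₂, _root_.mul_one]

/-- the subgroup `K(L)` exists -/
theorem exists_isKL [IsProper A.hom] [GeometricallyIntegral A.hom] (L : A.left.Modules) (hL : PicF.IsInvertible L) :
    ∃ (K : Over (Spec (CommRingCat.of k))) (i : K ⟶ A), IsKL A L i := by
  haveI : Subsingleton ↥(Spec (CommRingCat.of k)) := inferInstanceAs (Subsingleton (PrimeSpectrum k))
  haveI : Nonempty ↥(Spec (CommRingCat.of k)) := inferInstanceAs (Nonempty (PrimeSpectrum k))
  obtain ⟨E, hE, hiff⟩ := exists_mumford A L hL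
  let f := (snd A A).left
  haveI : IsLocallyNoetherian A.left := LocallyOfFiniteType.isLocallyNoetherian A.hom
  haveI : IsProper f := inferInstanceAs (IsProper (pullback.snd A.hom A.hom))
  haveI : Flat f := inferInstanceAs (Flat (pullback.snd A.hom A.hom))
  haveI : GeometricallyIntegral f := inferInstanceAs (GeometricallyIntegral (pullback.snd A.hom A.hom))
  have hinj : SeesawScheme.UnivInj f := fun {T} g => by
    show Function.Injective (pullback.snd (pullback.snd A.hom A.hom) g).appTop
    rw [← pullbackLeftPullbackSndIso_hom_snd A.hom A.hom g, Scheme.Hom.comp_appTop]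
    exact (SeesawGlobal.bijective_appTop_iso (pullbackLeftPullbackSndIso A.hom A.hom g)).1.comp
      (Rigid.bijective_app_snd A.hom (g ≫ A.hom) ⊤).1
  obtain ⟨Z, j, hj, hZ⟩ := SeesawScheme.exists_closed_seesaw hinj hE
  refine ⟨Over.mk (j ≫ A.hom), Over.homMk j rfl, hj, fun T z => ?_⟩
  have hloc : SeesawScheme.LocTrivOn f E z.left ↔ Triv ((Scheme.Modules.pullback (A ◁ z).left).obj E) := by
    constructor
    · intro h
      let σ : T ⟶ A ⊗ T := lift 1 (𝟙 T)
      refine SeesawGlobal.triv_of_section (f := (snd A T).left)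
        (fun V => Rigid.bijective_app_snd A.hom T.hom V) σ.left
        (by rw [← Over.comp_left, lift_snd]; rfl) ?_ fun y => ?_
      · refine (triv_comp_iff σ.left (A ◁ z).left).2 ?_
        rw [← Over.comp_left, show σ ≫ (A ◁ z) = lift (1 : T ⟶ A) z by simp [σ]]
        refine (hiff (lift (1 : T ⟶ A) z)).2 ?_
        rw [lift_fst, lift_snd, KLBasic.pull_one hL, _root_.one_mul,
          show lift (1 : T ⟶ A) z ≫ μ[A] = 1 * z from rfl, _root_.one_mul]
      · obtain ⟨V, hyV, hV⟩ := h y
        let W := (snd A T).left ⁻¹ᵁ V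
        have hw : (W.ι ≫ (A ◁ z).left) ≫ f = ((snd A T).left ∣_ V) ≫ V.ι ≫ z.left := by
          rw [morphismRestrict_ι_assoc, Category.assoc, ← Over.comp_left, whiskerLeft_snd, Over.comp_left]
        have hW : Triv ((Scheme.Modules.pullback W.ι).obj ((Scheme.Modules.pullback (A ◁ z).left).obj E)) :=
          (triv_comp_iff W.ι _).2 (SeesawGlobal.triv_of_factor
            (pullback.lift (W.ι ≫ (A ◁ z).left) ((snd A T).left ∣_ V) hw) (pullback.lift_fst _ _ _) hV)
        have hs := SeesawGlobal.exists_frame_of_triv W.ι hW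
        rw [Scheme.Opens.opensRange_ι] at hs
        exact ⟨V, hyV, hs⟩
    · intro h t
      refine ⟨⊤, trivial, ?_⟩
      refine SeesawScheme.TrivOn.comp (g := z.left) (⊤ : T.left.Opens).ι rfl ?_
      refine SeesawGlobal.triv_of_factor
        (pullback.lift (pullback.fst f z.left ≫ (fst A A).left) (pullback.snd f z.left) ?_ :
          pullback f z.left ⟶ (A ⊗ T).left) ?_ h
      · rw [← Over.w z, ← Category.assoc (pullback.snd f z.left), ← pullback.condition, Category.assoc,
          Category.assoc, Over.w (fst A A), Over.w (snd A A)]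
      · apply pullback.hom_ext
        · show (_ ≫ (A ◁ z).left) ≫ (fst A A).left = _
          rw [Category.assoc, ← Over.comp_left, whiskerLeft_fst]
          exact pullback.lift_fst _ _ _
        · show (_ ≫ (A ◁ z).left) ≫ (snd A A).left = _
          rw [Category.assoc, ← Over.comp_left, whiskerLeft_snd, Over.comp_left, ← Category.assoc]
          exact (congrArg (· ≫ z.left) (pullback.lift_snd _ _ _)).trans pullback.condition.symm
  rw [KLBasic.iff_eq_pull hL z]
  refine Iff.trans ?_ (((hiff (A ◁ z)).symm.trans hloc.symm).trans ((hZ z.left).trans ?_))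
  · rw [KLBasic.Eq, PicClLib.pullCl_comp, ← Over.comp_left, whiskerLeft_fst, whiskerLeft_snd, KLBasic.transl_fst_eq]
  · exact ⟨fun ⟨w, hw⟩ => ⟨Over.homMk w (by rw [← Over.w z, ← hw, Category.assoc]; rfl), Over.OverMorphism.ext hw⟩,
      fun ⟨w, hw⟩ => ⟨w.left, congrArg CommaMorphism.left hw⟩⟩

end Groth.Agent.AVTheta.KLExist

end
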