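import Groth.Agent.AVTheta.Local

/-!
Theta points and homomorphisms.
-/

noncomputable section

set_option autoImplicit false
set_option linter.style.haveILetI false
set_option linter.unusedSectionVars false
set_option backward.isDefEq.respectTransparency false
set_option backward.isDefEq.respectTransparency.types false
set_option maxHeartbeats 1000000
set_option synthInstance.maxHeartbeats 400000

universe u

open CategoryTheory CategoryTheory.Limits AlgebraicGeometry MonoidalCategory CartesianMonoidalCategory TopologicalSpace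
  Pseudofunctor Bicategory
open scoped MonObj Groth.Agent.H23.PicMul

namespace Groth.Agent.AVTheta

open ThetaGrp

variable {S : Scheme.{u}} (A : Over S) [GrpObj A] (L : A.left.Modules)

theorem cancel_aux {C : Type*} [Category C] {X Y Z : C} (a : X ⟶ Y) (b : Y ⟶ Z) (i : Z ⟶ Z) (c : Z ⟶ Y)
    (hi : i = 𝟙 Z) (hbc : b ≫ c = 𝟙 Y) : (a ≫ b) ≫ i ≫ c = a := by
  rw [hi, Category.id_comp, Category.assoc, hbc, Category.comp_id]

/-- the projection to the module on the group -/
def projObj (T : Over S) : thetaObj A L T ⟶ (⟨A.left, L⟩ : SM.{u}) :=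
  mkHom (fst A T).left (𝟙 _)

theorem projObj_base (T : Over S) : (projObj A L T).base = (fst A T).left := rfl

theorem isCart_projObj (T : Over S) : IsCart (projObj A L T) := isCart_mkHom _ _

theorem bcLift_proj {T T' : Over S} (g : T' ⟶ T) : bcLift A L g ≫ projObj A L T = projObj A L T' := by
  refine hom_ext_fiber ?_ ?_
  · show (A ◁ g).left ≫ (fst A T).left = (fst A T').left
    rw [← Over.comp_left, whiskerLeft_fst]
  · rw [CoGrothendieck.categoryStruct_comp_fiber]
    show ((Scheme.Modules.pullbackCongr _).hom.app L ≫ (Scheme.Modules.pullbackComp _ _).inv.app L) ≫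
        (Scheme.Modules.pullback (A ◁ g).left).map (𝟙 _) ≫
          (Scheme.Modules.pullbackComp (A ◁ g).left (fst A T).left).hom.app L =
      𝟙 _ ≫ _
    refine (cancel_aux _ _ _ _ ((Scheme.Modules.pullback (A ◁ g).left).map_id _)
      ((Scheme.Modules.pullbackComp (A ◁ g).left (fst A T).left).inv_hom_id_app L)).trans ?_
    refine Eq.trans ?_ (Category.id_comp _).symm
    simp [Scheme.Modules.pullbackCongr]

theorem bcLift_comp {T T' T'' : Over S} (g : T'' ⟶ T') (g' : T' ⟶ T) :
    bcLift A L g ≫ bcLift A L g' = bcLift A L (g ≫ g') := by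
  refine cancel_cart (isCart_projObj A L T) ?_ ?_
  · show (A ◁ g).left ≫ (A ◁ g').left = (A ◁ (g ≫ g')).left
    rw [← Over.comp_left, ← MonoidalCategory.whiskerLeft_comp]
  · rw [Category.assoc, bcLift_proj, bcLift_proj, bcLift_proj]

variable {A L}

theorem isBaseChange_comp {T T' T'' : Over S} {g : T'' ⟶ T'} {g' : T' ⟶ T} {β : thetaPts A L T}
    {β' : thetaPts A L T'} {β'' : thetaPts A L T''} (h : IsBaseChange β' g' β) (h' : IsBaseChange β'' g β') :
    IsBaseChange β'' (g ≫ g') β := by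
  show β''.1.hom ≫ bcLift A L (g ≫ g') = bcLift A L (g ≫ g') ≫ β.1.hom
  rw [← bcLift_comp, ← Category.assoc, show β''.1.hom ≫ _ = _ from h', Category.assoc,
    show β'.1.hom ≫ _ = _ from h, Category.assoc]

section hom

variable {B : Over S} [GrpObj B] (f : A ⟶ B) [IsMonHom f]

/-- translations along a homomorphism -/
theorem transl_whiskerRight {T : Over S} (x : T ⟶ A) :
    transl A x ≫ (f ▷ T) = (f ▷ T) ≫ transl B (x ≫ f) := by
  apply CartesianMonoidalCategory.hom_ext
  · simp [transl, MonObj.comp_mul, MonObj.mul_comp]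
  · simp [transl]

variable {M : B.left.Modules}

/-- the morphism of theta objects along a homomorphism -/
theorem exists_pullMap (e : L ≅ (Scheme.Modules.pullback f.left).obj M) (T : Over S) :
    ∃ F : thetaObj A L T ⟶ thetaObj B M T, IsCart F ∧ F.base = (f ▷ T).left := by
  have hb : (f ▷ T).left ≫ (projObj B M T).base = (projObj A L T ≫ mkHom f.left e.hom).base := by
    rw [CoGrothendieck.categoryStruct_comp_base]
    show (f ▷ T).left ≫ (fst B T).left = (fst A T).left ≫ f.left
    rw [← Over.comp_left, ← Over.comp_left, whiskerRight_fst]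
  obtain ⟨F, ⟨hFb, hF⟩, -⟩ := existsUnique_lift (isCart_projObj B M T) (projObj A L T ≫ mkHom f.left e.hom) _ hb
  exact ⟨F, isCart_of_comp (isCart_projObj B M T)
    (by rw [hF]; exact isCart_comp (isCart_projObj A L T) (isCart_mkHom _ _)), hFb⟩

/-- lifting points along a homomorphism -/
theorem exists_pull_pts {T : Over S} {F : thetaObj A L T ⟶ thetaObj B M T} (hF : IsCart F)
    (hFb : F.base = (f ▷ T).left) (x : T ⟶ A) (β : thetaPts B M T) (hβ : IsOverPt β (x ≫ f)) :
    ∃ β' : thetaPts A L T, IsOverPt β' x ∧ β'.1.hom ≫ F = F ≫ β.1.hom := by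
  have hb : (transl A x).left ≫ F.base = (F ≫ β.1.hom).base := by
    rw [CoGrothendieck.categoryStruct_comp_base, hFb, show β.1.hom.base = _ from hβ]
    show (transl A x).left ≫ (f ▷ T).left = (f ▷ T).left ≫ (transl B (x ≫ f)).left
    rw [← Over.comp_left, transl_whiskerRight, Over.comp_left]
  obtain ⟨p, ⟨hpb, hp⟩, -⟩ := existsUnique_lift hF (F ≫ β.1.hom) _ hb
  obtain ⟨β', hβ', hβ'x⟩ := exists_pts_of_cart x p
    (isCart_of_comp hF (by rw [hp]; exact isCart_comp hF (isCart_pts β))) hpb
  exact ⟨β', hβ'x, by rw [hβ', hp]⟩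

/-- commutators along a homomorphism -/
theorem isComm_pull {T : Over S} {F : thetaObj A L T ⟶ thetaObj B M T} (hF : IsCart F)
    (hFb : F.base = (f ▷ T).left) {β₁ β₂ : thetaPts B M T} {ζ₁ ζ₂ : thetaPts A L T}
    (hb : (ζ₁ * ζ₂).1.hom.base = (ζ₂ * ζ₁).1.hom.base) (h₁ : ζ₁.1.hom ≫ F = F ≫ β₁.1.hom)
    (h₂ : ζ₂.1.hom ≫ F = F ≫ β₂.1.hom) {c : Γ(T.left, ⊤)} (hc : IsComm β₁ β₂ c) : IsComm ζ₁ ζ₂ c := by
  have hs : bsc A L c ≫ F = F ≫ bsc B M c := by
    refine Eq.trans ?_ (sc_comp_eq F (show Γ((thetaObj B M T).base, ⊤) from (snd B T).left.appTop c))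
    show sc _ _ ≫ _ = sc _ _ ≫ _
    congr 2
    rw [hFb, ← ConcreteCategory.comp_apply, ← Scheme.Hom.comp_appTop, ← Over.comp_left, whiskerRight_snd]
  refine cancel_cart hF ?_ ?_
  · rw [CoGrothendieck.categoryStruct_comp_base, bsc, sc_base, Category.id_comp]
    exact hb
  · show (ζ₂.1.hom ≫ ζ₁.1.hom) ≫ F = (bsc A L c ≫ ζ₁.1.hom ≫ ζ₂.1.hom) ≫ F
    rw [Category.assoc, h₁, reassoc_of% h₂, show β₂.1.hom ≫ β₁.1.hom = _ from hc]
    simp only [Category.assoc]
    rw [h₂, reassoc_of% h₁, reassoc_of% hs]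
    rfl

end hom

end Groth.Agent.AVTheta

end
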