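import Groth.Agent.AVTheta.Effective
import Groth.Agent.AVTheta.Pull
import Groth.Agent.IsogLib.Kernel
import Groth.Agent.GrpSchLib.ImageFlat
import Groth.Agent.AVRosati.Factor

/-!
Descent of an invertible module along a surjective homomorphism from an action of the kernel.
-/

noncomputable section

set_option autoImplicit false
set_option linter.style.haveILetI false
set_option linter.unusedSectionVars false
set_option backward.isDefEq.respectTransparency false
set_option backward.isDefEq.respectTransparency.types false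
set_option maxHeartbeats 1000000
set_option synthInstance.maxHeartbeats 400000

universe u

open CategoryTheory CategoryTheory.Limits AlgebraicGeometry MonoidalCategory CartesianMonoidalCategory TopologicalSpace
  Pseudofunctor Bicategory
open scoped MonObj

namespace Groth.Agent.AVTheta

open ThetaGrp

section datum

variable {S : Scheme.{u}} {A B N : Over S} [GrpObj A] [GrpObj B] [GrpObj N] {L : A.left.Modules}
  (f : A ⟶ B) [IsMonHom f] (i : N ⟶ A)

/-- the graph of a point -/
abbrev gr {T : Over S} (a : T ⟶ A) : T.left ⟶ (A ⊗ T).left := (lift a (𝟙 T)).left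

theorem gr_transl {T : Over S} (a x : T ⟶ A) : gr a ≫ (transl A x).left = gr (a * x) := by
  rw [gr, gr, ← Over.comp_left]
  congr 1
  apply CartesianMonoidalCategory.hom_ext
  · rw [Category.assoc, transl_fst, MonObj.comp_mul, lift_fst, lift_fst, ← Category.assoc, lift_snd,
      Category.id_comp]
  · rw [Category.assoc, transl_snd, lift_snd, lift_snd]

theorem gr_proj {T : Over S} (a : T ⟶ A) : gr a ≫ (projObj A L T).base = a.left := by
  rw [gr, projObj_base, ← Over.comp_left, lift_fst]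

theorem gr_bc {T T' : Over S} (g : T' ⟶ T) (a : T ⟶ A) : gr (g ≫ a) ≫ (A ◁ g).left = g.left ≫ gr a := by
  rw [gr, gr, ← Over.comp_left, ← Over.comp_left]
  congr 1
  apply CartesianMonoidalCategory.hom_ext <;> simp

variable (Bn : ∀ {T : Over S}, (T ⟶ N) → thetaPts A L T)

/-- the relation given by an action of the kernel -/
def KerRel {T : Scheme.{u}} {M : T.Modules} (φ ψ : (⟨T, M⟩ : SM.{u}) ⟶ ⟨A.left, L⟩) : Prop :=
  ∃ (t : T ⟶ S) (a : Over.mk t ⟶ A) (n : Over.mk t ⟶ N) (χ : (⟨T, M⟩ : SM.{u}) ⟶ thetaObj A L (Over.mk t)),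
    a.left = φ.base ∧ χ.base = gr a ∧ χ ≫ projObj A L (Over.mk t) = φ ∧
      ψ = χ ≫ (Bn n).1.hom ≫ projObj A L (Over.mk t)

variable (hover : ∀ {T : Over S} (n : T ⟶ N), IsOverPt (Bn n) (n ≫ i))

include hover in
theorem base_of_rel {T : Scheme.{u}} {M : T.Modules} {t : T ⟶ S} (a : Over.mk t ⟶ A) (n : Over.mk t ⟶ N)
    {χ : (⟨T, M⟩ : SM.{u}) ⟶ thetaObj A L (Over.mk t)} (hχ : χ.base = gr a) :
    (χ ≫ (Bn n).1.hom).base = gr (a * (n ≫ i)) := by
  rw [CoGrothendieck.categoryStruct_comp_base, hχ, show (Bn n).1.hom.base = _ from hover n]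
  exact gr_transl a (n ≫ i)

include hover in
theorem proj_of_rel {T : Scheme.{u}} {M : T.Modules} {t : T ⟶ S} (a : Over.mk t ⟶ A) (n : Over.mk t ⟶ N)
    {χ : (⟨T, M⟩ : SM.{u}) ⟶ thetaObj A L (Over.mk t)} (hχ : χ.base = gr a) :
    (χ ≫ (Bn n).1.hom ≫ projObj A L (Over.mk t)).base = (a * (n ≫ i)).left := by
  rw [← Category.assoc, CoGrothendieck.categoryStruct_comp_base, base_of_rel i Bn hover a n hχ]
  exact gr_proj _

variable [IsMonHom i] [Mono i] (hN : AlgGrp.IsKernel i f)
  (hnat : ∀ {T T' : Over S} (g : T' ⟶ T) (n : T ⟶ N), IsBaseChange (Bn (g ≫ n)) g (Bn n))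
  (hmul : ∀ {T : Over S} (n m : T ⟶ N), Bn n * Bn m = Bn (n * m))

/-- the descent datum given by an action of the kernel -/
def kerDatum [IsCommMonObj N] : Effective.Datum f.left L where
  R := KerRel Bn
  base_eq := by
    rintro T M φ ψ ⟨t, a, n, χ, ha, hχ, -, rfl⟩
    rw [proj_of_rel i Bn hover a n hχ, ← ha, ← Over.comp_left, ← Over.comp_left, MonObj.mul_comp, Category.assoc,
      IsogLib.kernel_comp f hN, MonObj.comp_one, _root_.mul_one]
  cart := by
    rintro T M φ ψ ⟨t, a, n, χ, -, -, hφ, rfl⟩ hc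
    exact isCart_comp (isCart_of_comp (isCart_projObj A L _) (by rw [hφ]; exact hc))
      (isCart_comp (isCart_pts _) (isCart_projObj A L _))
  exists_unique := by
    intro T M φ hφ b hb
    let T₀ : Over S := Over.mk (φ.base ≫ A.hom)
    let a : T₀ ⟶ A := Over.homMk φ.base rfl
    let b' : T₀ ⟶ A := Over.homMk b (by
      show b ≫ A.hom = φ.base ≫ A.hom
      rw [← Over.w f, ← Category.assoc, ← hb, Category.assoc])
    have hab : a ≫ f = b' ≫ f := Over.OverMorphism.ext hb
    obtain ⟨n, hn⟩ := IsogLib.exists_kernel_lift f hN (a⁻¹ * b') (by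
      rw [MonObj.mul_comp, GrpObj.inv_comp, hab, inv_mul_cancel])
    obtain ⟨χ, ⟨hχb, hχ⟩, -⟩ := existsUnique_lift (isCart_projObj A L T₀) φ (gr a) (gr_proj a)
    have hab' : a * (n ≫ i) = b' := by rw [hn, mul_inv_cancel_left]
    refine ⟨χ ≫ (Bn n).1.hom ≫ projObj A L T₀, ⟨?_, _, a, n, χ, rfl, hχb, hχ, rfl⟩, ?_⟩
    · rw [proj_of_rel i Bn hover a n hχb, hab']
      rfl
    · rintro ψ ⟨hψb, t, a', n', χ', ha', hχ', hφ', rfl⟩
      obtain rfl : t = φ.base ≫ A.hom := by rw [← ha']; exact (Over.w a').symm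
      obtain rfl : a' = a := Over.OverMorphism.ext ha'
      obtain rfl : χ' = χ := cancel_cart (isCart_projObj A L T₀) (hχ'.trans hχb.symm) (hφ'.trans hχ.symm)
      suffices h : n' = n by rw [h]
      refine (cancel_mono i).1 (mul_left_cancel (a := a) ?_)
      rw [hab']
      exact Over.OverMorphism.ext ((proj_of_rel i Bn hover a n' hχ').symm.trans hψb)
  precomp := by
    rintro T T' M M' φ ψ τ - - ⟨t, a, n, χ, ha, hχb, hχ, rfl⟩
    let g : Over.mk (τ.base ≫ t) ⟶ Over.mk t := Over.homMk τ.base rfl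
    have hga : (g ≫ a).left = (τ ≫ φ).base := by
      rw [Over.comp_left, CoGrothendieck.categoryStruct_comp_base, ha]
      rfl
    obtain ⟨χ', ⟨hχ'b, hχ'⟩, -⟩ := existsUnique_lift (isCart_projObj A L (Over.mk (τ.base ≫ t))) (τ ≫ φ)
      (gr (g ≫ a)) ((gr_proj _).trans hga)
    refine ⟨_, g ≫ a, g ≫ n, χ', hga, hχ'b, hχ', ?_⟩
    have e : τ ≫ χ = χ' ≫ bcLift A L g := by
      refine cancel_cart (isCart_projObj A L _) ?_ ?_
      · rw [CoGrothendieck.categoryStruct_comp_base, CoGrothendieck.categoryStruct_comp_base, hχb, hχ'b]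
        exact (gr_bc g a).symm
      · rw [Category.assoc, Category.assoc, hχ, bcLift_proj, hχ']
    rw [← Category.assoc, e, Category.assoc, ← Category.assoc (bcLift A L g),
      ← show (Bn (g ≫ n)).1.hom ≫ bcLift A L g = _ from hnat g n, Category.assoc, bcLift_proj]
  trans := by
    rintro T M φ ψ ω - ⟨t, a, n, χ, ha, hχb, hχ, rfl⟩ ⟨t', a', n', χ', ha', hχ'b, hχ', rfl⟩
    rw [proj_of_rel i Bn hover a n hχb] at ha'
    obtain rfl : t' = t := (Over.w a').symm.trans ((congrArg (· ≫ A.hom) ha').trans (Over.w (a * (n ≫ i))))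
    obtain rfl : a' = a * (n ≫ i) := Over.OverMorphism.ext ha'
    obtain rfl : χ' = χ ≫ (Bn n).1.hom :=
      cancel_cart (isCart_projObj A L _) (hχ'b.trans (base_of_rel i Bn hover a n hχb).symm)
        (hχ'.trans (Category.assoc _ _ _).symm)
    refine ⟨_, a, n * n', χ, ha, hχb, hχ, ?_⟩
    rw [mul_comm n n']
    show (χ ≫ (Bn n).1.hom) ≫ (Bn n').1.hom ≫ _ = χ ≫ (Bn (n' * n)).1.hom ≫ _
    rw [← hmul n' n]
    show _ = χ ≫ ((Bn n).1.hom ≫ (Bn n').1.hom) ≫ _
    rw [Category.assoc, Category.assoc]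

end datum

section field

variable {k : Type u} [Field k] {A B : Over (Spec (CommRingCat.of k))} [GrpObj A] [IsProper A.hom]
  [GrpObj B] [IsProper B.hom] [GeometricallyIntegral B.hom]
  (f : A ⟶ B) [IsMonHom f]

theorem properties_of_surjective [Surjective f.left] :
    IsProper f.left ∧ Flat f.left := by
  haveI : IsIntegral B.left := H23.MaxAbelian.isIntegral_of_geometricallyIntegral
  haveI : IsSchemeTheoreticallyDominant f.left := IsSchemeTheoreticallyDominant.of_isDominant _
  haveI : IsProper (f.left ≫ B.hom) := by rw [Over.w]; infer_instance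
  exact ⟨IsProper.of_comp _ B.hom, (GrpSchLib.ImageFlat.flat_surjective_of_dominant f).1⟩

/-- an action of the kernel on an invertible module gives a descended module -/
theorem exists_descent_of_action [Surjective f.left] {N : Over (Spec (CommRingCat.of k))} [GrpObj N] [IsCommMonObj N]
    (i : N ⟶ A) [IsMonHom i] (hN : AlgGrp.IsKernel i f) {L : A.left.Modules} (hL : PicF.IsInvertible L)
    (Bn : ∀ {T : Over (Spec (CommRingCat.of k))}, (T ⟶ N) → thetaPts A L T)
    (hover : ∀ {T : Over (Spec (CommRingCat.of k))} (n : T ⟶ N), IsOverPt (Bn n) (n ≫ i))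
    (hnat : ∀ {T T' : Over (Spec (CommRingCat.of k))} (g : T' ⟶ T) (n : T ⟶ N),
      IsBaseChange (Bn (g ≫ n)) g (Bn n))
    (hmul : ∀ {T : Over (Spec (CommRingCat.of k))} (n m : T ⟶ N), Bn n * Bn m = Bn (n * m)) :
    ∃ M : B.left.Modules, PicF.IsInvertible M ∧ Nonempty ((Scheme.Modules.pullback f.left).obj M ≅ L) := by
  haveI : Mono i := IsogLib.mono_kernel f hN
  obtain ⟨hp, hfl⟩ := properties_of_surjective f
  exact Effective.exists_descent (kerDatum (L := L) f i Bn hover hN hnat hmul) hL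

end field

end Groth.Agent.AVTheta

end
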