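import Groth.Agent.AVTheta.LambdaLift
import Groth.Agent.AVTheta.KLExist
import Groth.Agent.AVTheta.KerDescent
import Groth.Agent.AVRosati.FinQuot
import Groth.Agent.AVPoinc.PhiFinite
import Groth.Agent.Lib.AVPair
import Groth.Agent.FpqcDescLib.Group
import Groth.Agent.S12002

/-!
The quotient of an abelian variety by `K(L)` and the descended Mumford bundle on it.
-/

noncomputable section

set_option autoImplicit false
set_option linter.style.haveILetI false
set_option linter.unusedSectionVars false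
set_option backward.isDefEq.respectTransparency false
set_option backward.isDefEq.respectTransparency.types false
set_option maxHeartbeats 1000000
set_option synthInstance.maxHeartbeats 400000

universe u

open CategoryTheory CategoryTheory.Limits AlgebraicGeometry MonoidalCategory CartesianMonoidalCategory TopologicalSpace
open scoped MonObj Groth.Agent.H23.PicMul

namespace Groth.Agent.AVTheta.DualQuot

open Groth.Agent.H23 TrivBasic ThetaGrp CubeAb

set_option backward.isDefEq.respectTransparency true in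
set_option backward.isDefEq.respectTransparency.types true in
/-- the kernel of `q ▷ X` -/
theorem isKernel_whisker {S : Scheme.{u}} {N G Q X : Over S} [GrpObj G] [GrpObj Q] [GrpObj X] {i : N ⟶ G} {q : G ⟶ Q} (h : AlgGrp.IsKernel i q) :
    AlgGrp.IsKernel (i ≫ lift (𝟙 G) (1 : G ⟶ X)) (q ▷ X) := by
  have h1 : η[Q ⊗ X] ≫ fst Q X = η[Q] := by simp [MonObj.tensorObj.one_def]
  have h2 : η[Q ⊗ X] ≫ snd Q X = η[X] := by simp [MonObj.tensorObj.one_def]
  have hc : ∀ s : PullbackCone (q ▷ X) η[Q ⊗ X], (s.fst ≫ fst G X) ≫ q = s.snd ≫ η[Q] := fun s => by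
    have := congrArg (· ≫ fst Q X) s.condition
    simpa [h1] using this
  have hc' : ∀ s : PullbackCone (q ▷ X) η[Q ⊗ X], s.fst ≫ snd G X = (1 : s.pt ⟶ X) := fun s => by
    have := congrArg (· ≫ snd Q X) s.condition
    simp [h2] at this
    rw [this, toUnit_unique s.snd (toUnit _)]
    rfl
  have hw : (i ≫ lift (𝟙 G) (1 : G ⟶ X)) ≫ (q ▷ X) = toUnit N ≫ η[Q ⊗ X] := by
    apply CartesianMonoidalCategory.hom_ext
    · simp [h1, h.w]
    · simp [h2, MonObj.comp_one]
      rfl
  refine ⟨⟨hw⟩, ⟨PullbackCone.IsLimit.mk hw (fun s => h.lift _ s.snd (hc s)) (fun s => ?_)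
    (fun s => toUnit_unique _ _) (fun s m h₁ _ => ?_)⟩⟩
  · apply CartesianMonoidalCategory.hom_ext
    · simpa using h.lift_fst _ _ (hc s)
    · simp [hc', MonObj.comp_one]
  · apply h.hom_ext
    · rw [h.lift_fst, ← h₁]
      simp
    · exact toUnit_unique _ _

variable {k : Type u} [Field k] {A : Over (Spec (CommRingCat.of k))} [GrpObj A]

/-- a Mumford bundle as the lambda sheaf -/
theorem exists_lambdaSheaf {L : A.left.Modules} (hL : PicF.IsInvertible L) :
    ∃ E : (A ⊗ A).left.Modules, PicF.IsInvertible E ∧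
      AgPol.IsLambdaSheaf μ[A].left (fst A A).left (snd A A).left L E := by
  obtain ⟨D₁, hD₁, e₁⟩ := PicInv.exists_inverse (PicClLib.isInvertible_pullback (fst A A).left hL)
  obtain ⟨D₂, hD₂, e₂⟩ := PicInv.exists_inverse (PicClLib.isInvertible_pullback (snd A A).left hL)
  refine ⟨CohB1.tensorMod (CohB1.tensorMod ((Scheme.Modules.pullback μ[A].left).obj L) D₁) D₂,
    PicMul.isInvertible_tensor (PicMul.isInvertible_tensor (PicClLib.isInvertible_pullback μ[A].left hL) hD₁) hD₂,
    (PicGrp.cl_eq_cl_iff _ _).1 ?_⟩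
  have h₁ := (PicGrp.cl_eq_cl_iff _ _).2 e₁
  have h₂ := (PicGrp.cl_eq_cl_iff _ _).2 e₂
  rw [PicMul.cl_tensor, ← PicMul.one_def] at h₁ h₂
  rw [PicMul.cl_tensor, PicMul.cl_tensor, PicMul.cl_tensor, PicMul.cl_tensor]
  calc _ = PicF.cl ((Scheme.Modules.pullback μ[A].left).obj L) *
        (PicF.cl ((Scheme.Modules.pullback (fst A A).left).obj L) * PicF.cl D₁) *
        (PicF.cl ((Scheme.Modules.pullback (snd A A).left).obj L) * PicF.cl D₂) := by ac_rfl
    _ = _ := by rw [h₁, h₂, _root_.mul_one, _root_.mul_one]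

/-- the lambda sheaf along a point -/
theorem lambda_eval {L : A.left.Modules} {E : (A ⊗ A).left.Modules}
    (hE : AgPol.IsLambdaSheaf μ[A].left (fst A A).left (snd A A).left L E)
    {T : Over (Spec (CommRingCat.of k))} (a b : T ⟶ A) :
    AVPair.pl (lift a b) (PicF.cl E) * F (PicF.cl L) a * F (PicF.cl L) b = F (PicF.cl L) (a * b) := by
  have h := (PicGrp.cl_eq_cl_iff _ _).2 hE
  rw [PicMul.cl_tensor, PicMul.cl_tensor] at h
  have h' := congrArg (PicMul.pullHom (lift a b).left) h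
  rw [map_mul, map_mul] at h'
  change AVPair.pl (lift a b) (PicF.cl E) * PicMul.pullHom (lift a b).left (F (PicF.cl L) (fst A A)) *
    PicMul.pullHom (lift a b).left (F (PicF.cl L) (snd A A)) =
    PicMul.pullHom (lift a b).left (F (PicF.cl L) μ[A]) at h'
  rwa [pull_F, pull_F, pull_F, lift_fst, lift_snd, ← Hom.mul_def] at h'

variable [IsProper A.hom] [GeometricallyIntegral A.hom]

/-- the points of `K(L)` are the points fixing the class -/
theorem mumford_point_iff {L : A.left.Modules} (hL : PicF.IsInvertible L)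
    (z : 𝟙_ (Over (Spec (CommRingCat.of k))) ⟶ A) :
    IsMumfordTriv A L z ↔ F (PicF.cl L) (tr z) = PicF.cl L := by
  haveI : Subsingleton ↥(Spec (CommRingCat.of k)) := inferInstanceAs (Subsingleton (PrimeSpectrum k))
  haveI : Nonempty ↥(Spec (CommRingCat.of k)) := inferInstanceAs (Nonempty (PrimeSpectrum k))
  let T := 𝟙_ (Over (Spec (CommRingCat.of k)))
  have hz : PicF.pullCl z.left (PicF.cl L) = 1 := by
    have := F_const (c := PicF.cl L) ⟨L, rfl, hL⟩ (T := T) z
    rwa [toUnit_unique (toUnit T) (𝟙 T), Category.id_comp] at this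
  have hρ : lift (𝟙 A) (toUnit A) ≫ fst A T = 𝟙 A := lift_fst _ _
  have hρ' : fst A T ≫ lift (𝟙 A) (toUnit A) = 𝟙 (A ⊗ T) := by
    apply CartesianMonoidalCategory.hom_ext
    · simp [T]
    · exact toUnit_unique _ _
  rw [KLBasic.iff_eq_pull hL z, KLBasic.Eq, hz, PicMul.pullCl_one, _root_.mul_one, transl_fst]
  have e1 : (fst A T * (snd A T ≫ z)) = fst A T ≫ tr z := by
    rw [MonObj.comp_mul, Category.comp_id, ← Category.assoc, toUnit_unique (fst A T ≫ toUnit A) (snd A T)]
  rw [e1]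
  constructor
  · intro h
    have h' := congrArg (PicMul.pullHom (lift (𝟙 A) (toUnit A)).left) h
    change PicMul.pullHom _ (F (PicF.cl L) (fst A T ≫ tr z)) = PicMul.pullHom _ (F (PicF.cl L) (fst A T)) at h'
    rw [pull_F, pull_F, ← Category.assoc, hρ, Category.id_comp] at h'
    rw [h']
    exact PicClLib.pullCl_id (PicF.cl L)
  · intro h
    show F (PicF.cl L) (fst A T ≫ tr z) = F (PicF.cl L) (fst A T)
    rw [← pull_F, h]

/-- the quotient by a finite `K(L)` with the descended Mumford bundle -/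
theorem exists_dual_of_isKL {L : A.left.Modules} (hL : PicF.IsInvertible L) {K : Over (Spec (CommRingCat.of k))}
    (iK : K ⟶ A) (hK : IsKL A L iK) [IsFinite K.hom] :
    ∃ (Q : Over (Spec (CommRingCat.of k))) (_ : GrpObj Q) (q : A ⟶ Q) (P : (A ⊗ Q).left.Modules),
      IsMonHom q ∧ IsFinite q.left ∧ Surjective q.left ∧ IsProper Q.hom ∧ GeometricallyIntegral Q.hom ∧
      Flat q.left ∧ IsPullback iK (toUnit K) q η[Q] ∧ PicF.IsInvertible P ∧
      (∀ {T : Over (Spec (CommRingCat.of k))} (a b : T ⟶ A),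
        AVPair.pl (lift a (b ≫ q)) (PicF.cl P) * F (PicF.cl L) a * F (PicF.cl L) b = F (PicF.cl L) (a * b)) ∧
      (∀ z : 𝟙_ (Over (Spec (CommRingCat.of k))) ⟶ A, F (PicF.cl L) (tr z) = PicF.cl L → z ≫ q = 1) ∧
      (∀ {T : Over (Spec (CommRingCat.of k))} (x : T ⟶ A),
        AVPair.pl (lift (fst A T) (snd A T ≫ x ≫ q)) (PicF.cl P) = 1 → x ≫ q = 1) := by
  haveI : Subsingleton ↥(Spec (CommRingCat.of k)) := inferInstanceAs (Subsingleton (PrimeSpectrum k))
  haveI : Nonempty ↥(Spec (CommRingCat.of k)) := inferInstanceAs (Nonempty (PrimeSpectrum k))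
  haveI : IsCommMonObj A := isCommMonObj_of_isProper_of_geometricallyIntegral A
  haveI := hK.closed
  haveI := AVRosati.SubAV.mono_of_closed iK
  have hself : IsMumfordTriv A L iK := (hK.univ _ _).2 ⟨𝟙 K, Category.id_comp _⟩
  have hmt : ∀ {T : Over (Spec (CommRingCat.of k))} {x : T ⟶ A},
      IsMumfordTriv A L x → KLBasic.Eq L T x (PicF.pullCl x.left (PicF.cl L)) :=
    fun {T x} h => (KLBasic.iff_eq_pull hL x).1 h
  have hinvCl : ∀ {T : Over (Spec (CommRingCat.of k))} (x : T ⟶ A),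
      PicF.IsInvertibleCl (PicF.pullCl x.left (PicF.cl L)) := fun {T} x =>
    PicClLib.isInvertibleCl_pullCl x.left ⟨L, rfl, hL⟩
  obtain ⟨_, hiK⟩ := IsogLib.exists_grpObj_of_mono iK
    (by
      obtain ⟨y, hy⟩ := (hK.univ _ η[A]).1 ((KLBasic.mumford_iff hL η[A]).2 ⟨1, AVPair.isInv_one, by
        rw [show η[A] = (1 : 𝟙_ (Over (Spec (CommRingCat.of k))) ⟶ A) by
          rw [Hom.one_def, toUnit_unique (toUnit _) (𝟙 _), Category.id_comp]]
        exact KLBasic.eq_one _⟩)
      exact ⟨y, hy⟩)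
    (by
      have h1 : IsMumfordTriv A L (fst K K ≫ iK) := (hK.univ _ _).2 ⟨fst K K, rfl⟩
      have h2 : IsMumfordTriv A L (snd K K ≫ iK) := (hK.univ _ _).2 ⟨snd K K, rfl⟩
      exact (hK.univ _ _).1 ((KLBasic.mumford_iff hL _).2
        ⟨_, PicMul.isInvertibleCl_mul (hinvCl _) (hinvCl _), KLBasic.eq_mul (hmt h1) (hmt h2)⟩))
    (by
      obtain ⟨d, hdi, hd⟩ := AVPair.exists_inv (hinvCl iK)
      exact (hK.univ _ _).1 ((KLBasic.mumford_iff hL _).2 ⟨d, hdi, KLBasic.eq_inv (hmt hself) hd⟩))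
  haveI := hiK
  haveI : IsProper K.hom := by
    rw [← Over.w iK]
    infer_instance
  haveI : LocallyOfFiniteType (𝟙_ (Over (Spec (CommRingCat.of k)))).hom :=
    inferInstanceAs (LocallyOfFiniteType (𝟙 (Spec (CommRingCat.of k))))
  haveI : IsSeparated (𝟙_ (Over (Spec (CommRingCat.of k)))).hom :=
    inferInstanceAs (IsSeparated (𝟙 (Spec (CommRingCat.of k))))
  obtain ⟨Q, sQ, q, hq, hqf, hqfl, hqs, hQp, hQg, hker⟩ := AVRosati.FinQuot.exists_quotient iK
  letI := sQ
  haveI := hq
  haveI := hqs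
  haveI := hqf
  haveI := hQp
  haveI := hQg
  haveI : IsCommMonObj Q := isCommMonObj_of_isProper_of_geometricallyIntegral Q
  haveI : IsCommMonObj K := AVRosati.SubAV.isCommMonObj_of_mono iK
  obtain ⟨E, hEi, hE⟩ := exists_lambdaSheaf (A := A) hL
  obtain ⟨Bn, hover, hnat, hmul⟩ := exists_lambda_lifts hL E hEi hE iK
    (fun {T} y => (hK.univ _ _).2 ⟨y, rfl⟩)
  haveI : IsProper (A ⊗ A).hom := by
    show IsProper (pullback.fst A.hom A.hom ≫ A.hom)
    infer_instance
  haveI : IsProper (Q ⊗ A).hom := by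
    show IsProper (pullback.fst Q.hom A.hom ≫ Q.hom)
    infer_instance
  haveI : GeometricallyIntegral (Q ⊗ A).hom := H23.RatExt.geometricallyIntegral_prod Q A
  let f : A ⊗ A ⟶ Q ⊗ A := q ▷ A
  haveI : IsMonHom f := inferInstanceAs (IsMonHom (q ▷ A))
  haveI : Surjective f.left := by
    have h := (FpqcDescLib.isPullback_whiskerRight q A).map (Over.forget _)
    exact MorphismProperty.of_isPullback (P := @Surjective) h.flip (show Surjective q.left from inferInstance)
  haveI := isMonHom_inFst (A := A)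
  haveI : IsMonHom (iK ≫ inFst) := inferInstance
  have hN : AlgGrp.IsKernel (iK ≫ inFst) f := isKernel_whisker (X := A) hker
  obtain ⟨P', hP'i, ⟨eP'⟩⟩ := exists_descent_of_action f (iK ≫ inFst) hN hEi Bn
    (fun n => hover n) hnat hmul
  refine ⟨Q, sQ, q, (Scheme.Modules.pullback (lift (snd A Q) (fst A Q)).left).obj P', hq, hqf, hqs, hQp, hQg,
    hqfl, hker, PicClLib.isInvertible_pullback _ hP'i, ?_⟩
  have hfac : ∀ {T : Over (Spec (CommRingCat.of k))} (x : T ⟶ A), IsMumfordTriv A L x → x ≫ q = 1 := by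
    intro T x hx
    obtain ⟨y, hy⟩ := (hK.univ _ _).1 hx
    rw [← hy, Category.assoc, hker.w, ← Category.assoc, toUnit_unique (y ≫ toUnit K) (toUnit _)]
    rfl
  have hch : ∀ {T : Over (Spec (CommRingCat.of k))} (a b : T ⟶ A),
      AVPair.pl (lift a (b ≫ q)) (PicF.cl ((Scheme.Modules.pullback (lift (snd A Q) (fst A Q)).left).obj P')) *
        F (PicF.cl L) a * F (PicF.cl L) b = F (PicF.cl L) (a * b) := fun {T} a b => by
    rw [show AVPair.pl (lift a (b ≫ q)) (PicF.cl ((Scheme.Modules.pullback (lift (snd A Q) (fst A Q)).left).obj P')) =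
        AVPair.pl (lift b a) (PicF.cl E) by
      rw [← (PicGrp.cl_eq_cl_iff _ _).2 ⟨eP'⟩]
      show AVPair.pl _ (AVPair.pl (lift (snd A Q) (fst A Q)) (PicF.cl P')) = AVPair.pl _ (AVPair.pl f (PicF.cl P'))
      rw [AVPair.pl_pl, AVPair.pl_pl]
      refine congrArg (fun g => AVPair.pl g (PicF.cl P')) ?_
      apply CartesianMonoidalCategory.hom_ext <;> simp [f]]
    rw [mul_right_comm, lambda_eval hE, mul_comm b a]
  refine ⟨hch, fun z hz => hfac z ((mumford_point_iff hL z).2 hz), fun {T} x hx => hfac x ?_⟩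
  have h := hch (fst A T) (snd A T ≫ x)
  rw [Category.assoc, hx, _root_.one_mul] at h
  rw [KLBasic.iff_eq_pull hL x, KLBasic.Eq, transl_fst]
  refine h.symm.trans ?_
  rw [← pull_F]
  rfl


variable [IsAlgClosed k]

/-- the quotient by `K(L)` with the descended Mumford bundle -/
theorem exists_dual {L : A.left.Modules} (hL : CohB1.IsAmple L) :
    ∃ (Q : Over (Spec (CommRingCat.of k))) (_ : GrpObj Q) (q : A ⟶ Q) (P : (A ⊗ Q).left.Modules),
      IsMonHom q ∧ IsFinite q.left ∧ Surjective q.left ∧ IsProper Q.hom ∧ GeometricallyIntegral Q.hom ∧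
      PicF.IsInvertible P ∧
      (∀ {T : Over (Spec (CommRingCat.of k))} (a b : T ⟶ A),
        AVPair.pl (lift a (b ≫ q)) (PicF.cl P) * F (PicF.cl L) a * F (PicF.cl L) b = F (PicF.cl L) (a * b)) ∧
      (∀ z : 𝟙_ (Over (Spec (CommRingCat.of k))) ⟶ A, F (PicF.cl L) (tr z) = PicF.cl L → z ≫ q = 1) ∧
      (∀ {T : Over (Spec (CommRingCat.of k))} (x : T ⟶ A),
        AVPair.pl (lift (fst A T) (snd A T ≫ x ≫ q)) (PicF.cl P) = 1 → x ≫ q = 1) := by
  obtain ⟨K, iK, hK⟩ := KLExist.exists_isKL A L hL.1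
  haveI := hK.closed
  haveI := AVRosati.SubAV.mono_of_closed iK
  haveI : IsProper K.hom := by
    rw [← Over.w iK]
    infer_instance
  haveI : LocallyOfFiniteType (𝟙_ (Over (Spec (CommRingCat.of k)))).hom :=
    inferInstanceAs (LocallyOfFiniteType (𝟙 (Spec (CommRingCat.of k))))
  haveI : IsSeparated (𝟙_ (Over (Spec (CommRingCat.of k)))).hom :=
    inferInstanceAs (IsSeparated (𝟙 (Spec (CommRingCat.of k))))
  haveI : IsFinite K.hom := by
    have h : IsFinite (toUnit K).left := AVPoinc.isFinite_of_finite_points (toUnit K) fun x => by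
      have hfin := S12002.result k A L hL
      refine Set.Finite.subset (hfin.preimage (f := fun y => y ≫ iK) ?_) fun y _ => ?_
      · exact fun y _ y' _ h => (cancel_mono iK).1 h
      · show Nonempty _
        exact PicMul.cl_eq_iff.1 ((mumford_point_iff hL.1 _).1 ((hK.univ _ _).2 ⟨y, rfl⟩))
    exact h
  obtain ⟨Q, sQ, q, P, h1, h2, h3, h4, h5, -, -, h6, h7, h8, h9⟩ := exists_dual_of_isKL hL.1 iK hK
  exact ⟨Q, sQ, q, P, h1, h2, h3, h4, h5, h6, h7, h8, h9⟩

end Groth.Agent.AVTheta.DualQuot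

end
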