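import Groth.Agent.AVTheta.GrpSch
import Groth.Agent.AVTheta.KerDescent
import Groth.Agent.AVRosati.FinQuot
import Groth.Agent.Deform.Chev.Basic
import Groth.Agent.GrpSchLib.HomFinite

/-!
The quotient of an abelian variety by the image of a level subgroup.
-/

noncomputable section

set_option autoImplicit false
set_option linter.style.haveILetI false
set_option linter.unusedSectionVars false
set_option backward.isDefEq.respectTransparency false
set_option backward.isDefEq.respectTransparency.types false
set_option maxHeartbeats 1000000
set_option synthInstance.maxHeartbeats 400000

universe u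

open CategoryTheory CategoryTheory.Limits AlgebraicGeometry MonoidalCategory CartesianMonoidalCategory
open scoped MonObj

namespace Groth.Agent.AVTheta

variable {k : Type u} [Field k]

/-- A monomorphic homomorphism of groups of finite type over a field is a closed immersion. -/
theorem isClosedImmersion_of_mono {G H : Over (Spec (CommRingCat.of k))} [GrpObj G] [GrpObj H]
    [LocallyOfFiniteType G.hom] [LocallyOfFiniteType H.hom] [QuasiCompact H.hom]
    (i : H ⟶ G) [IsMonHom i] [Mono i] : IsClosedImmersion i.left := by
  haveI := GrpSchLib.AntiAffine.isSeparated_grp G
  haveI := GrpSchLib.AntiAffine.isSeparated_grp H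
  haveI : Mono i.left := (Over.forget _).map_mono i
  haveI : QuasiCompact (i.left ≫ G.hom) := by rw [Over.w i]; infer_instance
  haveI : QuasiCompact i.left := QuasiCompact.of_comp i.left G.hom
  haveI : LocallyOfFiniteType (i.left ≫ G.hom) := by rw [Over.w i]; infer_instance
  haveI : LocallyOfFiniteType i.left := locallyOfFiniteType_of_comp i.left G.hom
  haveI : IsSeparated (i.left ≫ G.hom) := by rw [Over.w i]; infer_instance
  haveI : IsSeparated i.left := IsSeparated.of_comp i.left G.hom
  haveI : IsFinite i.left := GrpSchLib.HomFinite.isFinite i
  exact (IsClosedImmersion.iff_isFinite_and_mono _).mpr ⟨inferInstance, inferInstance⟩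


/-- the target of a flat surjection from an abelian variety is proper and geometrically integral -/
theorem proper_geometricallyIntegral_of_surjective {X M : Over (Spec (CommRingCat.of k))} [IsProper X.hom]
    [GeometricallyIntegral X.hom] [GrpObj M] [LocallyOfFiniteType M.hom] (q : X ⟶ M) [Flat q.left]
    [Surjective q.left] : IsProper M.hom ∧ GeometricallyIntegral M.hom := by
  haveI := GrpSchLib.AntiAffine.isSeparated_grp M
  haveI : UniversallyClosed (q.left ≫ M.hom) := by rw [Over.w]; infer_instance
  haveI : UniversallyClosed M.hom := UniversallyClosed.of_comp_surjective q.left M.hom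
  have hM : IsProper M.hom := {}
  refine ⟨hM, ?_⟩
  haveI : GeometricallyConnected X.hom :=
    AVTorsLib.geometricallyConnected_of_geometricallyIntegral X.hom
  haveI : GeometricallyIrreducible M.hom := by
    constructor
    intro K _ y S f g hsq
    let hY := IsPullback.of_hasPullback q.left f
    have hbig : IsPullback (pullback.fst q.left f) (pullback.snd q.left f ≫ g) (q.left ≫ M.hom) y :=
      hY.paste_vert hsq
    rw [Over.w] at hbig
    haveI : IrreducibleSpace ↥(pullback q.left f) :=
      GeometricallyIrreducible.geometrically_irreducibleSpace (f := X.hom) _ _ _ hbig
    haveI : Surjective (pullback.snd q.left f) :=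
      MorphismProperty.pullback_snd (P := @Surjective) _ _ inferInstance
    exact FBaseLib.irreducibleSpace_of_surjective (pullback.snd q.left f)
  haveI : GeometricallyReduced M.hom := by
    constructor
    intro K _ y S f g hsq
    have hbig : IsPullback (pullback.fst q.left f) (pullback.snd q.left f ≫ g) (q.left ≫ M.hom) y :=
      (IsPullback.of_hasPullback q.left f).paste_vert hsq
    rw [Over.w] at hbig
    haveI : IsReduced (pullback q.left f) :=
      GeometricallyReduced.geometrically_isReduced (f := X.hom) _ _ _ hbig
    haveI : Flat (pullback.snd q.left f) := MorphismProperty.pullback_snd (P := @Flat) _ _ inferInstance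
    haveI : Surjective (pullback.snd q.left f) :=
      MorphismProperty.pullback_snd (P := @Surjective) _ _ inferInstance
    exact FBaseLib.isReduced_of_flat_surjective (pullback.snd q.left f)
  exact GeometricallyIntegral.of_geometricallyReduced_of_geometricallyIrreducible _

end Groth.Agent.AVTheta

end
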