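import Groth.Agent.AVPoinc.DualFamily
import Groth.Agent.FinDesc.Degree

/-!
# The rank of a finite `K(L)`

It is the square of the Euler characteristic: the descended Mumford bundle on the quotient by `K(L)` has Euler
characteristic one up to sign.
-/

noncomputable section

set_option autoImplicit false
set_option backward.isDefEq.respectTransparency false
set_option backward.isDefEq.respectTransparency.types false
set_option linter.style.haveILetI false
set_option linter.unusedSectionVars false
set_option maxHeartbeats 2000000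
set_option synthInstance.maxHeartbeats 400000

universe u

open CategoryTheory CategoryTheory.Limits MonoidalCategory CartesianMonoidalCategory MonObj AlgebraicGeometry TopologicalSpace

attribute [-instance] CategoryTheory.catToReflQuiver

namespace Groth.Agent.AVTheta.KLRank

open Groth.Agent.H23 Groth.Agent.H23.TrivBasic Groth.Agent.H23.CubeAb Groth.Agent.AVEuler Groth.Agent.AVPoinc
open scoped Groth.Agent.H23.PicMul CategoryTheory.Obj

variable {k : Type u} [Field k] [IsAlgClosed k] {A : Over (Spec (CommRingCat.of k))} [GrpObj A] [IsProper A.hom]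
  [GeometricallyIntegral A.hom]

/-- the rank of a finite `K(L)` is the square of the Euler characteristic -/
theorem finrank_isKL {L : A.left.Modules} (hL : PicF.IsInvertible L) {K : Over (Spec (CommRingCat.of k))}
    (iK : K ⟶ A) (hK : ThetaGrp.IsKL A L iK) [IsFinite K.hom] (s : ↥(Spec (CommRingCat.of k))) :
    ((Scheme.Hom.finrank K.hom s : ℕ) : ℤ) = @Curv2.euler k _ A.left ⟨A.hom⟩ L ^ 2 := by
  haveI : IsCommMonObj A := isCommMonObj_of_isProper_of_geometricallyIntegral A
  haveI : Smooth A.hom := S7795.result A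
  haveI : GeometricallyConnected A.hom := CubeAb.geometricallyConnected_of_integral A.hom
  haveI : IsIntegral A.left := GeometricallyIntegral.isIntegral_of_subsingleton A.hom
  obtain ⟨Q, sQ, q, P, hq, hqf, hqs, hQp, hQg, hqfl, hsq, hP, hchar, hker, hinj⟩ :=
    DualQuot.exists_dual_of_isKL hL iK hK
  letI := sQ
  haveI := hq
  haveI := hqs
  haveI := hqf
  haveI := hQp
  haveI := hQg
  haveI := hqfl
  haveI : Smooth Q.hom := S7795.result Q
  haveI : GeometricallyConnected Q.hom := CubeAb.geometricallyConnected_of_integral Q.hom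
  haveI : IsIntegral Q.left := GeometricallyIntegral.isIntegral_of_subsingleton Q.hom
  haveI : IsLocallyNoetherian A.left := LocallyOfFiniteType.isLocallyNoetherian A.hom
  haveI : IsLocallyNoetherian Q.left := LocallyOfFiniteType.isLocallyNoetherian Q.hom
  haveI : HasInjectiveResolutions (pullback A.hom Q.hom).Modules := ExtShX.hasInjRes
  obtain ⟨g, hg⟩ := AVDegPoly.exists_dim (A := A)
  have hgQ : topologicalKrullDim Q.left = g := ((S4717.result q.left).2 q.left.surjective).symm.trans hg
  have he : TrivAtUnit (A := A) (At := Q) P := trivAtUnit_of_char hL hchar hinj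
  obtain ⟨hvan, hone, -, -⟩ := main_of (A := A) (At := Q) hP (unitTriv_of_char hL hchar) he
    (offVanish_of_char hL hchar hP hker) hg hgQ
  -- the degree
  let s₀ : ↥(Spec (CommRingCat.of k)) := s
  let d := Scheme.Hom.finrank K.hom s
  haveI : Subsingleton ↥(Spec (CommRingCat.of k)) := inferInstanceAs (Subsingleton (PrimeSpectrum k))
  haveI : LocallyOfFinitePresentation q.left := inferInstance
  have hd : ∀ y : ↥Q.left, Scheme.Hom.finrank q.left y = d := fun y => by
    refine ((Scheme.Hom.isLocallyConstant_finrank q.left).apply_eq_of_preconnectedSpace y (η[Q].left s)).trans ?_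
    have sq : IsPullback iK.left (toUnit K).left q.left η[Q].left := hsq.map (Over.forget _)
    exact (Scheme.Hom.finrank_of_isPullback _ _ _ _ sq s).symm
  have hcov : FinCov.IsCover q.left d := ⟨⟨inferInstance, inferInstance, inferInstance⟩, hd⟩
  -- the Euler characteristic of the bundle
  haveI : IsProper (A ⊗ A).hom := inferInstanceAs (IsProper (pullback.fst A.hom A.hom ≫ A.hom))
  haveI : IsProper (A ⊗ Q).hom := inferInstanceAs (IsProper (pullback.fst A.hom Q.hom ≫ A.hom))
  haveI : GeometricallyIntegral (A ⊗ A).hom := MaxAbelian.geometricallyIntegral_tensor A A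
  haveI : IsLocallyNoetherian (A ⊗ Q).left := LocallyOfFiniteType.isLocallyNoetherian (A ⊗ Q).hom
  letI : (A ⊗ Q).left.Over (Spec (CommRingCat.of k)) := ⟨(A ⊗ Q).hom⟩
  have hχP : @Curv2.euler k _ (A ⊗ Q).left ⟨(A ⊗ Q).hom⟩ P = (-1) ^ g := by
    refine (finsum_eq_single _ g fun i hi => ?_).trans ?_
    · haveI : Subsingleton (Coh.HH (pullback A.hom Q.hom) P i) := hvan i hi
      simp
      exact @Module.finrank_zero_of_subsingleton _ _ _ (_) (_) _ _
    · refine (congrArg (fun n : ℕ => (-1 : ℤ) ^ g * (n : ℤ)) hone).trans ?_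
      rw [Nat.cast_one, _root_.mul_one]
  obtain ⟨⟨h1, h2, -⟩, h3⟩ := FinDesc.isCover_whiskerLeft A q hcov
  haveI := h1
  haveI := h2
  have h4 := euler_pullback_isogeny (A ◁ q) d h3 (F := P) (AmpleVan.isCoh_invertible hP)
  rw [← chi_cl, hχP] at h4
  let u := (PicMul.isUnit_of_isInvertibleCl (⟨L, rfl, hL⟩ : PicF.IsInvertibleCl (PicF.cl L))).unit
  have hu : PicF.IsInvertibleCl (u : PicF.Cl A.left) := ⟨L, rfl, hL⟩
  let Λ : (PicF.Cl (A ⊗ A).left)ˣ := R u (fst A A * snd A A) / (R u (fst A A) * R u (snd A A))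
  have hΛ : AVPair.pl (A ◁ q) (PicF.cl P) = ((Λ : (PicF.Cl (A ⊗ A).left)ˣ) : PicF.Cl (A ⊗ A).left) := by
    have h := hchar (fst A A) (snd A A)
    rw [show A ◁ q = lift (fst A A) (snd A A ≫ q) by
      apply CartesianMonoidalCategory.hom_ext <;> simp]
    refine ((isUnit_F ⟨L, rfl, hL⟩ (fst A A)).mul (isUnit_F ⟨L, rfl, hL⟩ (snd A A))).mul_right_cancel ?_
    rw [← _root_.mul_assoc, h]
    show F (u : PicF.Cl A.left) (fst A A * snd A A) =
      (Λ : PicF.Cl (A ⊗ A).left) * (((R u (fst A A) : (PicF.Cl (A ⊗ A).left)ˣ) : PicF.Cl (A ⊗ A).left) *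
        (R u (snd A A) : (PicF.Cl (A ⊗ A).left)ˣ))
    rw [← Units.val_mul, ← Units.val_mul, div_mul_cancel]
    rfl
  have h5 : chi (A ⊗ A) (Λ : PicF.Cl (A ⊗ A).left) = (d : ℤ) * (-1) ^ g := by
    rw [← hΛ]
    exact h4
  have hd0 : d ≠ 0 := by
    have h := Scheme.Hom.one_le_finrank_map q.left (genericPoint A.left)
    rw [hd] at h
    omega
  have h6 := FinDesc.chi_mumford hg hu (by
    show chi (A ⊗ A) (Λ : PicF.Cl (A ⊗ A).left) ≠ 0
    rw [h5]
    exact mul_ne_zero (by exact_mod_cast hd0) (pow_ne_zero _ (by norm_num)))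
  change chi (A ⊗ A) (Λ : PicF.Cl (A ⊗ A).left) = _ at h6
  rw [h5, mul_comm] at h6
  exact mul_left_cancel₀ (pow_ne_zero _ (by norm_num : (-1 : ℤ) ≠ 0)) h6

/-- the Euler characteristic of a nondegenerate invertible module is nonzero -/
theorem euler_ne_zero {L : A.left.Modules} (hL : PicF.IsInvertible L) {K : Over (Spec (CommRingCat.of k))}
    (iK : K ⟶ A) (hK : ThetaGrp.IsKL A L iK) [IsFinite K.hom] :
    @Curv2.euler k _ A.left ⟨A.hom⟩ L ≠ 0 := by
  haveI : Nonempty ↥(Spec (CommRingCat.of k)) := inferInstanceAs (Nonempty (PrimeSpectrum k))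
  obtain ⟨s⟩ := (inferInstance : Nonempty ↥(Spec (CommRingCat.of k)))
  intro h
  have h' := finrank_isKL hL iK hK s
  obtain ⟨y, hy⟩ := (hK.univ (𝟙_ (Over (Spec (CommRingCat.of k)))) η[A]).1 ((KLBasic.mumford_iff hL η[A]).2
    ⟨1, AVPair.isInv_one, by
      rw [show η[A] = (1 : 𝟙_ (Over (Spec (CommRingCat.of k))) ⟶ A) by
        rw [Hom.one_def, toUnit_unique (toUnit _) (𝟙 _), Category.id_comp]]
      exact KLBasic.eq_one _⟩)
  have hpos := Scheme.Hom.one_le_finrank_map K.hom (y.left s)
  haveI : Subsingleton ↥(Spec (CommRingCat.of k)) := inferInstanceAs (Subsingleton (PrimeSpectrum k))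
  rw [Subsingleton.elim (K.hom (y.left s)) s] at hpos
  rw [h, zero_pow two_ne_zero] at h'
  omega

end Groth.Agent.AVTheta.KLRank

end
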