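import Groth.Agent.AVTheta.KLBase
import Groth.Agent.AVTheta.KLRank
import Groth.Agent.AVVanish.PullbackPicZero
import Groth.Agent.AssLib.FlatField
import Groth.Agent.AVTorsLib.GeomPts

/-!
The rank of `K(f^*M)` for an isogeny `f`.
-/

noncomputable section

set_option autoImplicit false
set_option linter.style.haveILetI false
set_option linter.unusedSectionVars false
set_option backward.isDefEq.respectTransparency false
set_option backward.isDefEq.respectTransparency.types false
set_option maxHeartbeats 2000000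
set_option synthInstance.maxHeartbeats 400000

universe u

open CategoryTheory CategoryTheory.Limits MonoidalCategory CartesianMonoidalCategory MonObj AlgebraicGeometry
open scoped Groth.Agent.H23.PicMul CategoryTheory.Obj

attribute [-instance] CategoryTheory.catToReflQuiver

namespace Groth.Agent.AVTheta.IsogenyRank

open Groth.Agent.H23 Groth.Agent.H23.TrivBasic Groth.Agent.H23.CubeAb Groth.Agent.AVEuler

variable {k : Type u} [Field k]

/-- a proper scheme with finitely many points is finite over the field -/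
theorem isFinite_of_finite {X : Scheme.{u}} (f : X ⟶ Spec (CommRingCat.of k)) [IsProper f] [Finite X] : IsFinite f := by
  haveI : LocallyQuasiFinite f := LocallyQuasiFinite.of_finite_preimage_singleton f fun _ => Set.toFinite _
  haveI : IsLocallyArtinian (Spec (CommRingCat.of k)) :=
    Scheme.isLocallyArtinianScheme_Spec.2 (inferInstance : IsArtinianRing k)
  exact IsFinite.of_locallyQuasiFinite f

section closed

variable [IsAlgClosed k] {X Y : Over (Spec (CommRingCat.of k))}
  [GrpObj X] [IsProper X.hom] [GeometricallyIntegral X.hom]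
  [GrpObj Y] [IsProper Y.hom] [GeometricallyIntegral Y.hom]
  (f : X ⟶ Y) [IsMonHom f] [IsFinite f.left] [Surjective f.left]

/-- a finite `K(M)` gives a finite `K(f^*M)` -/
theorem isFinite_isKL {M : Y.left.Modules} (hM : PicF.IsInvertible M) {KM : Over (Spec (CommRingCat.of k))}
    {iM : KM ⟶ Y} (hKM : ThetaGrp.IsKL Y M iM) [IsFinite KM.hom] {L : X.left.Modules} (hL : PicF.IsInvertible L)
    (hcl : PicF.cl L = PicF.pullCl f.left (PicF.cl M)) {KL : Over (Spec (CommRingCat.of k))}
    {iL : KL ⟶ X} (hKL : ThetaGrp.IsKL X L iL) : IsFinite KL.hom := by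
  haveI := hKL.closed
  haveI := hKM.closed
  haveI := AVRosati.SubAV.mono_of_closed iL
  haveI : IsCommMonObj Y := isCommMonObj_of_isProper_of_geometricallyIntegral Y
  haveI : IsProper KL.hom := by
    rw [← Over.w iL]
    infer_instance
  haveI : Subsingleton ↥(Spec (CommRingCat.of k)) := inferInstanceAs (Subsingleton (PrimeSpectrum k))
  obtain ⟨s⟩ : Nonempty ↥(Spec (CommRingCat.of k)) := inferInstanceAs (Nonempty (PrimeSpectrum k))
  haveI : Finite ↥KM.left := Set.finite_univ_iff.1
    ((Scheme.Hom.finite_preimage_singleton KM.hom s).subset fun z _ => Subsingleton.elim _ _)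
  let c := PicF.cl M
  have hc : PicF.IsInvertibleCl c := ⟨M, rfl, hM⟩
  obtain ⟨v, hv⟩ := (PicMul.isUnit_of_isInvertibleCl hc).exists_right_inv
  let P := 𝟙_ (Over (Spec (CommRingCat.of k))) ⟶ Y
  let sl : P → PicF.Cl Y.left := fun y => F c (tr y) * v
  -- the stabiliser
  have hK : {y : P | F c (tr y) = c}.Finite := by
    refine ((Set.finite_range fun z : KM.left => iM.left z).preimage
      (f := fun y : P => y.left (IsLocalRing.closedPoint k)) fun a _ b _ h => point_injective h).subset
      fun y hy => ?_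
    obtain ⟨z, rfl⟩ := (hKM.univ _ _).1 ((DualQuot.mumford_point_iff hM y).2 hy)
    exact ⟨z.left (IsLocalRing.closedPoint k), rfl⟩
  have hvi : PicF.IsInvertibleCl v := by
    obtain ⟨w, hwi, hw⟩ := AVPair.exists_inv hc
    rwa [show v = w from (IsUnit.mul_right_inj (PicMul.isUnit_of_isInvertibleCl hc)).1 (hv.trans hw.symm)]
  -- the images
  have himg : {y : P | PicMul.pullHom f.left (sl y) = 1}.Finite := by
    refine (Set.Finite.biUnion' (AVVanish.finite_kernel f)
      (t := fun d _ => {y : P | sl y = d}) fun d _ => ?_).subset fun y hy => ?_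
    · by_cases he : ∃ y₀, sl y₀ = d
      · obtain ⟨y₀, rfl⟩ := he
        refine (hK.image fun z => y₀ * z).subset fun y (hy : sl y = sl y₀) => ?_
        refine ⟨y₀⁻¹ * y, ?_, mul_inv_cancel_left _ _⟩
        have hu : IsUnit (F c (tr y₀)) := isUnit_F hc _
        have e : F c (tr y) = F c (tr y₀) :=
          (IsUnit.mul_left_inj (IsUnit.of_mul_eq_one_right c hv)).1 hy
        have h := square hc y₀ (y₀⁻¹ * y)
        rw [mul_inv_cancel_left, e] at h
        exact (hu.mul_left_cancel h.symm)
      · exact (Set.finite_empty).subset fun y hy => (he ⟨y, hy⟩).elim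
    · simp only [Set.mem_iUnion, Set.mem_ofPred_eq, exists_prop]
      refine ⟨sl y, ⟨PicMul.isInvertibleCl_mul (PicClLib.isInvertibleCl_pullCl _ hc) hvi, fun b => ?_, hy⟩, rfl⟩
      have hvv : F v (tr b) * F c (tr b) = 1 := by
        rw [← F_mul, mul_comm v, hv]
        exact map_one _
      rw [F_mul, show F (F c (tr y)) (tr b) = F c (tr b ≫ tr y) from pull_F _ _ _, AVVanish.tr_comp]
      refine (IsUnit.mul_left_inj (IsUnit.of_mul_eq_one_right _ hvv)).1 ?_
      have hsq := square hc b y
      calc F c (tr (b * y)) * F v (tr b) * F c (tr b)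
          = F c (tr (b * y)) * (c * v) := by rw [_root_.mul_assoc, hvv, hv]
        _ = F c (tr b) * F c (tr y) * v := by rw [← _root_.mul_assoc, hsq]
        _ = F c (tr y) * v * F c (tr b) := by ac_rfl
  haveI : LocallyOfFiniteType (𝟙_ (Over (Spec (CommRingCat.of k)))).hom :=
    inferInstanceAs (LocallyOfFiniteType (𝟙 (Spec (CommRingCat.of k))))
  haveI : IsSeparated (𝟙_ (Over (Spec (CommRingCat.of k)))).hom :=
    inferInstanceAs (IsSeparated (𝟙 (Spec (CommRingCat.of k))))
  have h : IsFinite (toUnit KL).left := AVPoinc.isFinite_of_finite_points (toUnit KL) fun x => by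
    let pt : (𝟙_ (Over (Spec (CommRingCat.of k))) ⟶ X) → X.left := fun a => a.left (IsLocalRing.closedPoint k)
    have hpre : {a : 𝟙_ (Over (Spec (CommRingCat.of k))) ⟶ X | PicMul.pullHom f.left (sl (a ≫ f)) = 1}.Finite := by
      refine Set.Finite.of_finite_image (f := pt) ?_ fun a _ b _ h => point_injective h
      refine ((himg.image fun y : P => y.left (IsLocalRing.closedPoint k)).preimage'
        fun z _ => Scheme.Hom.finite_preimage_singleton f.left z).subset ?_
      rintro _ ⟨a, ha, rfl⟩
      exact ⟨a ≫ f, ha, rfl⟩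
    refine (hpre.preimage (f := fun y => y ≫ iL) fun a _ b _ h => (cancel_mono iL).1 h).subset fun y _ => ?_
    have hy := (DualQuot.mumford_point_iff hL (y ≫ iL)).1 ((hKL.univ _ _).2 ⟨y, rfl⟩)
    rw [hcl, show F (PicF.pullCl f.left c) (tr (y ≫ iL)) = F c (tr (y ≫ iL) ≫ f) from PicClLib.pullCl_comp _ _ c,
      AVVanish.tr_hom, ← pull_F] at hy
    show PicMul.pullHom f.left (sl ((y ≫ iL) ≫ f)) = 1
    rw [map_mul]
    refine Eq.trans (congrArg (· * PicMul.pullHom f.left v) hy) ?_
    show PicMul.pullHom f.left c * PicMul.pullHom f.left v = 1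
    rw [← map_mul, hv, map_one]
  exact h

/-- the rank of `K(f^*M)` -/
theorem finrank_isKL_pullback (d : ℕ) (hd : ∀ y : ↥Y.left, Scheme.Hom.finrank f.left y = d) [Flat f.left]
    {M : Y.left.Modules} (hM : PicF.IsInvertible M) {KM : Over (Spec (CommRingCat.of k))} {iM : KM ⟶ Y}
    (hKM : ThetaGrp.IsKL Y M iM) [IsFinite KM.hom] {L : X.left.Modules} (hL : PicF.IsInvertible L)
    (hcl : PicF.cl L = PicF.pullCl f.left (PicF.cl M)) {KL : Over (Spec (CommRingCat.of k))}
    {iL : KL ⟶ X} (hKL : ThetaGrp.IsKL X L iL) (s : ↥(Spec (CommRingCat.of k))) :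
    Scheme.Hom.finrank KL.hom s = d ^ 2 * Scheme.Hom.finrank KM.hom s := by
  haveI := isFinite_isKL f hM hKM hL hcl hKL
  haveI : IsLocallyNoetherian X.left := LocallyOfFiniteType.isLocallyNoetherian X.hom
  haveI : IsLocallyNoetherian Y.left := LocallyOfFiniteType.isLocallyNoetherian Y.hom
  have hχ := euler_pullback_isogeny f d hd (F := M) (AmpleVan.isCoh_invertible hM)
  rw [← chi_cl] at hχ
  change chi X (PicF.pullCl f.left (PicF.cl M)) = _ at hχ
  rw [← hcl, chi_cl] at hχ
  have hl := KLRank.finrank_isKL hL iL hKL s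
  have hm := KLRank.finrank_isKL hM iM hKM s
  have h : ((Scheme.Hom.finrank KL.hom s : ℕ) : ℤ) = ((d ^ 2 * Scheme.Hom.finrank KM.hom s : ℕ) : ℤ) := by
    rw [hl, hχ, Nat.cast_mul, hm, Nat.cast_pow, mul_pow]
  exact_mod_cast h

end closed

set_option maxHeartbeats 3000000 in
/-- the rank of `K(f^*M)` over any field -/
theorem main {X Y : Over (Spec (CommRingCat.of k))} [GrpObj X] [IsProper X.hom] [GeometricallyIntegral X.hom]
    [GrpObj Y] [IsProper Y.hom] [GeometricallyIntegral Y.hom]
    (f : X ⟶ Y) [IsMonHom f] [IsFinite f.left] [Flat f.left] (hf : Surjective f.left)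
    (d : ℕ) (hd : ∀ y : ↥Y.left, Scheme.Hom.finrank f.left y = d)
    (M : Y.left.Modules) (hM : PicF.IsInvertible M)
    (KM : Over (Spec (CommRingCat.of k))) (iM : KM ⟶ Y) (hKM : ThetaGrp.IsKL Y M iM)
    [IsFinite KM.hom] (r : ℕ) (hr : ∀ s : ↥(Spec (CommRingCat.of k)), Scheme.Hom.finrank KM.hom s = r)
    (KL : Over (Spec (CommRingCat.of k))) (iL : KL ⟶ X)
    (hKL : ThetaGrp.IsKL X ((Scheme.Modules.pullback f.left).obj M) iL) :
    IsFinite KL.hom ∧ ∀ s : ↥(Spec (CommRingCat.of k)), Scheme.Hom.finrank KL.hom s = d ^ 2 * r := by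
  let Ω := AlgebraicClosure k
  let σ := AVTorsLib.extMap (k := k) Ω
  haveI : IsCommMonObj X := isCommMonObj_of_isProper_of_geometricallyIntegral X
  haveI : IsCommMonObj Y := isCommMonObj_of_isProper_of_geometricallyIntegral Y
  haveI := (AVTorsLib.isAV_bc (A := X) Ω).1
  haveI := (AVTorsLib.isAV_bc (A := X) Ω).2
  haveI := (AVTorsLib.isAV_bc (A := Y) Ω).1
  haveI := (AVTorsLib.isAV_bc (A := Y) Ω).2
  haveI : Subsingleton ↥(Spec (CommRingCat.of k)) := inferInstanceAs (Subsingleton (PrimeSpectrum k))
  haveI : Surjective σ := ⟨fun y => ⟨IsLocalRing.closedPoint Ω, Subsingleton.elim _ _⟩⟩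
  let f' : Red.bc σ X ⟶ Red.bc σ Y := (Over.pullback σ).map f
  haveI : IsMonHom f' := inferInstanceAs (IsMonHom ((Over.pullback σ).map f))
  have hsq := IsogLib.isPullback_map σ f
  haveI : IsFinite f'.left := MorphismProperty.of_isPullback hsq ‹IsFinite f.left›
  haveI : Flat f'.left := MorphismProperty.of_isPullback hsq ‹Flat f.left›
  haveI : Surjective f'.left := MorphismProperty.of_isPullback hsq hf
  let M' := (Scheme.Modules.pullback (pullback.fst Y.hom σ)).obj M
  let L' := (Scheme.Modules.pullback (pullback.fst X.hom σ)).obj ((Scheme.Modules.pullback f.left).obj M)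
  have hLi := PicClLib.isInvertible_pullback f.left hM
  have hM' : PicF.IsInvertible M' := PicClLib.isInvertible_pullback _ hM
  have hL' : PicF.IsInvertible L' := PicClLib.isInvertible_pullback _ hLi
  have hKM' := KLBase.isKL_bc σ hM hKM
  have hKL' := KLBase.isKL_bc σ hLi hKL
  haveI : IsFinite (Red.bc σ KM).hom := MorphismProperty.pullback_snd (P := @IsFinite) _ _ inferInstance
  have hcl : PicF.cl L' = PicF.pullCl f'.left (PicF.cl M') := by
    show PicF.pullCl (pullback.fst X.hom σ) (PicF.pullCl f.left (PicF.cl M)) =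
      PicF.pullCl f'.left (PicF.pullCl (pullback.fst Y.hom σ) (PicF.cl M))
    rw [PicClLib.pullCl_comp, PicClLib.pullCl_comp, hsq.w]
  have hd' : ∀ y, Scheme.Hom.finrank f'.left y = d := fun y =>
    (Scheme.Hom.finrank_of_isPullback _ _ _ _ hsq y).trans (hd _)
  haveI hfin' := isFinite_isKL f' hM' hKM' hL' hcl hKL'
  haveI := hKL.closed
  haveI : IsProper KL.hom := by
    rw [← Over.w iL]
    infer_instance
  haveI : Surjective (pullback.fst KL.hom σ) := MorphismProperty.pullback_fst _ _ inferInstance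
  haveI : IsFinite KL.hom := by
    haveI : Finite ↥(pullback KL.hom σ) := Set.finite_univ_iff.1
      ((Scheme.Hom.finite_preimage_singleton (Red.bc σ KL).hom (IsLocalRing.closedPoint Ω)).subset fun z _ =>
        Subsingleton.elim (α := PrimeSpectrum Ω) _ _)
    haveI : Finite ↥KL.left := Finite.of_surjective _ (pullback.fst KL.hom σ).surjective
    exact isFinite_of_finite KL.hom
  haveI : Flat KL.hom := AssLib.flat_over_field KL.hom
  haveI : Flat KM.hom := AssLib.flat_over_field KM.hom
  refine ⟨inferInstance, fun s => ?_⟩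
  let t : ↥(Spec (CommRingCat.of Ω)) := IsLocalRing.closedPoint Ω
  have h := finrank_isKL_pullback f' d hd' hM' hKM' hL' hcl hKL' t
  have eL : Scheme.Hom.finrank (Red.bc σ KL).hom t = Scheme.Hom.finrank KL.hom (σ t) :=
    Scheme.Hom.finrank_pullback_snd KL.hom σ t
  have eM : Scheme.Hom.finrank (Red.bc σ KM).hom t = Scheme.Hom.finrank KM.hom (σ t) :=
    Scheme.Hom.finrank_pullback_snd KM.hom σ t
  rw [eL, eM, hr, Subsingleton.elim (σ t) s] at h
  exact h

end Groth.Agent.AVTheta.IsogenyRank

end
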