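import Groth.Prelude.Def_ThetaGrp
import Groth.Agent.H23.EndInv

/-!
Cartesian morphisms and scalars in the category of schemes with modules.
-/

noncomputable section

set_option autoImplicit false
set_option linter.style.haveILetI false
set_option linter.unusedSectionVars false
set_option backward.isDefEq.respectTransparency false
set_option backward.isDefEq.respectTransparency.types false
set_option maxHeartbeats 1000000

universe u

open CategoryTheory CategoryTheory.Limits AlgebraicGeometry TopologicalSpace Opposite Pseudofunctor Bicategory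


namespace Groth.Agent.AVTheta

open Groth.Agent.AModX Groth.Agent.InvX

/-- schemes with modules -/
abbrev SM : Type (u + 1) := CoGrothendieck (ThetaGrp.modPF.{u})

/-- a morphism whose module part is invertible -/
def IsCart {a b : SM.{u}} (φ : a ⟶ b) : Prop := IsIso φ.fiber

/-- a cartesian morphism over a given morphism from an isomorphism of modules -/
def mkHom {X Y : Scheme.{u}} {M : X.Modules} {N : Y.Modules} (g : X ⟶ Y)
    (h : M ⟶ (Scheme.Modules.pullback g).obj N) : (⟨X, M⟩ : SM.{u}) ⟶ ⟨Y, N⟩ :=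
  ⟨g, h⟩

theorem mkHom_base {X Y : Scheme.{u}} {M : X.Modules} {N : Y.Modules} (g : X ⟶ Y)
    (h : M ⟶ (Scheme.Modules.pullback g).obj N) : (mkHom g h).base = g := rfl

theorem isCart_mkHom {X Y : Scheme.{u}} {M : X.Modules} {N : Y.Modules} (g : X ⟶ Y)
    (h : M ⟶ (Scheme.Modules.pullback g).obj N) [IsIso h] : IsCart (mkHom g h) := ‹IsIso h›

theorem hom_ext_fiber {a b : SM.{u}} {p q : a ⟶ b} (h : p.base = q.base)
    (h' : p.fiber = q.fiber ≫ eqToHom (h ▸ rfl)) : p = q := CoGrothendieck.Hom.ext p q h h'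

theorem isCart_comp {a b c : SM.{u}} {p : a ⟶ b} {φ : b ⟶ c} (hp : IsCart p) (hφ : IsCart φ) :
    IsCart (p ≫ φ) := by
  haveI : IsIso p.fiber := hp
  haveI : IsIso φ.fiber := hφ
  show IsIso (p ≫ φ).fiber
  rw [CoGrothendieck.categoryStruct_comp_fiber]
  infer_instance

theorem isCart_of_comp {a b c : SM.{u}} {p : a ⟶ b} {φ : b ⟶ c} (hφ : IsCart φ) (h : IsCart (p ≫ φ)) :
    IsCart p := by
  haveI : IsIso φ.fiber := hφ
  haveI h' : IsIso (p ≫ φ).fiber := h
  rw [CoGrothendieck.categoryStruct_comp_fiber] at h'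
  exact IsIso.of_isIso_comp_right p.fiber
    ((ThetaGrp.modPF.map p.base.op.toLoc).toFunctor.map φ.fiber ≫
      (ThetaGrp.modPF.mapComp φ.base.op.toLoc p.base.op.toLoc).inv.toNatTrans.app c.fiber)

/-- morphisms into the source of a cartesian morphism -/
theorem existsUnique_lift {a b c : SM.{u}} {φ : b ⟶ c} (hφ : IsCart φ) (q : a ⟶ c) (g : a.base ⟶ b.base)
    (h : g ≫ φ.base = q.base) : ∃! p : a ⟶ b, p.base = g ∧ p ≫ φ = q := by
  haveI : IsIso φ.fiber := hφ
  obtain ⟨qb, qf⟩ := q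
  obtain rfl : g ≫ φ.base = qb := h
  let E := (ThetaGrp.modPF.map g.op.toLoc).toFunctor.map φ.fiber ≫
    (ThetaGrp.modPF.mapComp φ.base.op.toLoc g.op.toLoc).inv.toNatTrans.app c.fiber
  haveI : IsIso E := by dsimp only [E]; infer_instance
  refine ⟨⟨g, qf ≫ inv E⟩, ⟨rfl, hom_ext_fiber rfl ?_⟩, ?_⟩
  · rw [CoGrothendieck.categoryStruct_comp_fiber, eqToHom_refl]
    show (qf ≫ inv E) ≫ E = qf ≫ 𝟙 _
    rw [Category.assoc, IsIso.inv_hom_id]
  · rintro ⟨pb, pf⟩ ⟨hb, hp⟩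
    obtain rfl : pb = g := hb
    obtain ⟨hb', hf⟩ := (CoGrothendieck.Hom.ext_iff _ _).1 hp
    rw [eqToHom_refl, Category.comp_id, CoGrothendieck.categoryStruct_comp_fiber] at hf
    refine hom_ext_fiber rfl ?_
    rw [eqToHom_refl, Category.comp_id]
    show pf = qf ≫ inv E
    rw [IsIso.eq_comp_inv]
    exact hf

theorem cancel_cart {a b c : SM.{u}} {φ : b ⟶ c} (hφ : IsCart φ) {p p' : a ⟶ b} (hb : p.base = p'.base)
    (h : p ≫ φ = p' ≫ φ) : p = p' :=
  (existsUnique_lift hφ (p' ≫ φ) p'.base rfl).unique ⟨hb, h⟩ ⟨rfl, rfl⟩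

theorem isCart_id (a : SM.{u}) : IsCart (𝟙 a) := by
  show IsIso (CoGrothendieck.Hom.fiber (𝟙 a : a ⟶ a))
  rw [CoGrothendieck.categoryStruct_id_fiber]
  infer_instance

/-- cartesian morphisms over isomorphisms are isomorphisms -/
theorem exists_inv {a b : SM.{u}} {φ : a ⟶ b} (hφ : IsCart φ) (g : b.base ⟶ a.base) (h₁ : g ≫ φ.base = 𝟙 _)
    (h₂ : φ.base ≫ g = 𝟙 _) : ∃ ψ : b ⟶ a, φ ≫ ψ = 𝟙 a ∧ ψ ≫ φ = 𝟙 b ∧ ψ.base = g := by
  obtain ⟨ψ, ⟨hψb, hψ⟩, -⟩ := existsUnique_lift hφ (𝟙 b) g h₁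
  refine ⟨ψ, cancel_cart hφ ?_ ?_, hψ, hψb⟩
  · rw [CoGrothendieck.categoryStruct_comp_base, hψb, h₂]
    rfl
  · rw [Category.assoc, hψ, Category.comp_id, Category.id_comp]

/-- multiplication by a global function -/
def smulEnd {X : Scheme.{u}} (M : X.Modules) (c : Γ(X, ⊤)) : M ⟶ M where
  val := PresheafOfModules.homMk
    { app := fun V => AddCommGrpCat.ofHom (AddMonoidHom.mk'
        (fun x : Γ(M, unop V) => resR (le_top : unop V ≤ ⊤) c • x) (smul_add _))
      naturality := fun V W i => by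
        ext x
        show resR (le_top : unop W ≤ ⊤) c • res M i.unop.le (show Γ(M, unop V) from x) =
          res M i.unop.le (resR (le_top : unop V ≤ ⊤) c • (show Γ(M, unop V) from x))
        rw [res_smul, resR_resR] }
    fun V r x => smul_comm (resR (le_top : unop V ≤ (⊤ : X.Opens)) c) (show Γ(X, unop V) from r) (show Γ(M, unop V) from x)

theorem smulEnd_app {X : Scheme.{u}} (M : X.Modules) (c : Γ(X, ⊤)) (V : X.Opens) (x : Γ(M, V)) :
    (smulEnd M c).app V x = resR (le_top : V ≤ ⊤) c • x := rfl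

theorem smulEnd_one {X : Scheme.{u}} (M : X.Modules) : smulEnd M 1 = 𝟙 M := by
  refine Scheme.Modules.hom_ext _ _ fun V => ?_
  ext x
  show resR (le_top : V ≤ ⊤) 1 • x = x
  rw [map_one, one_smul]

theorem smulEnd_comp {X : Scheme.{u}} (M : X.Modules) (c d : Γ(X, ⊤)) :
    smulEnd M c ≫ smulEnd M d = smulEnd M (d * c) := by
  refine Scheme.Modules.hom_ext _ _ fun V => ?_
  ext x
  show resR (le_top : V ≤ ⊤) d • (resR (le_top : V ≤ ⊤) c • x) = resR (le_top : V ≤ ⊤) (d * c) • x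
  rw [map_mul, mul_smul]

theorem smulEnd_natural {X : Scheme.{u}} {M N : X.Modules} (φ : M ⟶ N) (c : Γ(X, ⊤)) :
    smulEnd M c ≫ φ = φ ≫ smulEnd N c := by
  refine Scheme.Modules.hom_ext _ _ fun V => ?_
  ext x
  exact φ.app_smul (resR (le_top : V ≤ ⊤) c) x

theorem map_smulEnd {X Y : Scheme.{u}} (f : X ⟶ Y) (M : Y.Modules) (c : Γ(Y, ⊤)) :
    (Scheme.Modules.pullback f).map (smulEnd M c) = smulEnd ((Scheme.Modules.pullback f).obj M) (f.appTop c) := by
  apply ((Scheme.Modules.pullbackPushforwardAdjunction f).homEquiv _ _).injective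
  rw [Adjunction.homEquiv_unit, Adjunction.homEquiv_unit]
  refine Eq.trans ((Scheme.Modules.pullbackPushforwardAdjunction f).unit.naturality (smulEnd M c)).symm ?_
  refine Scheme.Modules.hom_ext _ _ fun V => ?_
  ext x
  show pullElt f (resR (le_top : V ≤ ⊤) c • x) = resR (le_top : f ⁻¹ᵁ V ≤ ⊤) (f.appTop c) • pullElt f x
  rw [H23.EndInv.pullElt_smul]
  exact congrArg (· • pullElt f x) (ConcreteCategory.congr_hom (f.naturality (homOfLE (le_top : V ≤ ⊤)).op) c)

/-- the scalar endomorphism -/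
def sc (a : SM.{u}) (c : Γ(a.base, ⊤)) : a ⟶ a :=
  ⟨𝟙 a.base, (show a.fiber ⟶ a.fiber from smulEnd (X := a.base) a.fiber c) ≫ (𝟙 a : a ⟶ a).fiber⟩

theorem sc_base (a : SM.{u}) (c : Γ(a.base, ⊤)) : (sc a c).base = 𝟙 a.base := rfl

theorem sc_one (a : SM.{u}) : sc a 1 = 𝟙 a := by
  refine hom_ext_fiber rfl ?_
  show (show a.fiber ⟶ a.fiber from smulEnd (X := a.base) a.fiber 1) ≫ _ = _
  rw [smulEnd_one]
  simp

section generic

attribute [local simp] PrelaxFunctor.map₂_eqToHom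

variable {𝒮 : Type*} [Category 𝒮] {F : LocallyDiscrete 𝒮ᵒᵖ ⥤ᵖ Cat} {a b : CoGrothendieck F}

theorem vert_comp' (v : a.fiber ⟶ a.fiber) (φ : a ⟶ b) :
    (⟨𝟙 a.base, v ≫ (𝟙 a : a ⟶ a).fiber⟩ : a ⟶ a) ≫ φ = ⟨φ.base, v ≫ φ.fiber⟩ := by
  refine CoGrothendieck.Hom.ext _ _ (Category.id_comp φ.base) ?_
  simp [F.mapComp_id_right_inv_app, Strict.rightUnitor_eqToIso, ← NatTrans.naturality_assoc,
    ← Cat.Hom₂.comp_app]

theorem comp_vert' (φ : a ⟶ b) (w : b.fiber ⟶ b.fiber) :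
    φ ≫ (⟨𝟙 b.base, w ≫ (𝟙 b : b ⟶ b).fiber⟩ : b ⟶ b) =
      ⟨φ.base, φ.fiber ≫ (F.map φ.base.op.toLoc).toFunctor.map w⟩ := by
  refine CoGrothendieck.Hom.ext _ _ (Category.comp_id φ.base) ?_
  simp [F.mapComp_id_left_inv_app, Strict.leftUnitor_eqToIso, ← Functor.map_comp_assoc,
    ← Cat.Hom₂.comp_app]

end generic

/-- vertical morphisms composed on the left -/
theorem vert_comp {a b : SM.{u}} (v : a.fiber ⟶ a.fiber) (φ : a ⟶ b) :
    (⟨𝟙 a.base, v ≫ (𝟙 a : a ⟶ a).fiber⟩ : a ⟶ a) ≫ φ = ⟨φ.base, v ≫ φ.fiber⟩ := vert_comp' v φ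

/-- vertical morphisms composed on the right -/
theorem comp_vert {a b : SM.{u}} (φ : a ⟶ b) (w : b.fiber ⟶ b.fiber) :
    φ ≫ (⟨𝟙 b.base, w ≫ (𝟙 b : b ⟶ b).fiber⟩ : b ⟶ b) =
      ⟨φ.base, φ.fiber ≫ (ThetaGrp.modPF.map φ.base.op.toLoc).toFunctor.map w⟩ := comp_vert' φ w

theorem sc_comp_eq {a b : SM.{u}} (φ : a ⟶ b) (c : Γ(b.base, ⊤)) :
    sc a (φ.base.appTop c) ≫ φ = φ ≫ sc b c := by
  rw [sc, sc, vert_comp, comp_vert]
  congr 1
  exact (smulEnd_natural (X := a.base) φ.fiber (φ.base.appTop c)).trans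
    (congrArg (φ.fiber ≫ ·) (map_smulEnd φ.base b.fiber c).symm)

theorem sc_mul (a : SM.{u}) (c d : Γ(a.base, ⊤)) : sc a c ≫ sc a d = sc a (d * c) := by
  rw [sc, sc, vert_comp]
  refine hom_ext_fiber rfl ?_
  simp only [sc, eqToHom_refl, Category.comp_id, ← Category.assoc]
  exact congrArg (· ≫ _) (smulEnd_comp (X := a.base) a.fiber c d)

/-- vertical endomorphisms of invertible modules are scalars -/
theorem exists_eq_sc {a : SM.{u}} (ha : PicF.IsInvertible (Y := a.base) a.fiber) (p : a ⟶ a)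
    (hp : p.base = 𝟙 a.base) : ∃ c, p = sc a c := by
  obtain ⟨pb, pf⟩ := p
  obtain rfl : pb = 𝟙 a.base := hp
  haveI : IsIso (𝟙 a : a ⟶ a).fiber := isCart_id a
  obtain ⟨c, hc⟩ := H23.EndInv.exists_coeff (Y := a.base) ha (pf ≫ inv (𝟙 a : a ⟶ a).fiber)
  refine ⟨c, hom_ext_fiber rfl ?_⟩
  have h : smulEnd (X := a.base) a.fiber c = pf ≫ inv (𝟙 a : a ⟶ a).fiber := by
    refine Scheme.Modules.hom_ext _ _ fun V => ?_
    ext x
    exact (hc V x).symm
  simp only [sc, eqToHom_refl, Category.comp_id]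
  show pf = _
  rw [h, Category.assoc, IsIso.inv_hom_id, Category.comp_id]

theorem sc_injective {a : SM.{u}} (ha : PicF.IsInvertible (Y := a.base) a.fiber) {c d : Γ(a.base, ⊤)}
    (h : sc a c = sc a d) : c = d := by
  haveI : IsIso (𝟙 a : a ⟶ a).fiber := isCart_id a
  have hf : (show a.fiber ⟶ a.fiber from smulEnd (X := a.base) a.fiber c) =
      (show a.fiber ⟶ a.fiber from smulEnd (X := a.base) a.fiber d) := by
    have h' := CoGrothendieck.Hom.congr h
    rw [← cancel_mono (𝟙 a : a ⟶ a).fiber]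
    exact h'.trans (Category.comp_id _)
  choose U hU e he using fun x => InvX.exists_frame (X := a.base) ha x
  refine eq_of_locally (M := Coh.structureModule a.base) _ _ fun p _ => ⟨U p, le_top, hU p, ?_⟩
  have h' : (smulEnd (X := a.base) a.fiber c).app (U p) (e p) = (smulEnd (X := a.base) a.fiber d).app (U p) (e p) :=
    congrArg (fun m : a.fiber ⟶ a.fiber => (show Γ(a.fiber, U p) from Scheme.Modules.Hom.app (X := a.base) m (U p) (e p))) hf
  rw [smulEnd_app, smulEnd_app] at h'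
  refine (he p).coord_unique le_rfl ?_
  rw [res_self]
  exact h'

end Groth.Agent.AVTheta

end
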