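import Groth.Agent.LieKolchin.Main
import Mathlib.RingTheory.HopfAlgebra.Convolution
import Mathlib.RingTheory.Nullstellensatz
import Mathlib.LinearAlgebra.Eigenspace.Triangularizable

/-!
Symmetric cocycles of a finite commutative group scheme with values in the multiplicative group split over an
algebraically closed field.
-/

noncomputable section

set_option autoImplicit false
set_option linter.style.haveILetI false
set_option linter.unusedSectionVars false
set_option maxHeartbeats 1000000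

universe u

open TensorProduct WithConv

namespace Groth.Agent.AVTheta.CocycleSplit

variable {k : Type u} [Field k] {H : Type u} [CommRing H] [HopfAlgebra k H]

/-- points with values in an algebra -/
abbrev Pts (S : Type u) [CommRing S] [Algebra k S] : Type u := WithConv (H →ₐ[k] S)

/-- push a point along an algebra map -/
abbrev push {S S' : Type u} [CommRing S] [Algebra k S] [CommRing S'] [Algebra k S'] (φ : S →ₐ[k] S')
    (α : Pts (H := H) (k := k) S) : Pts (H := H) (k := k) S' := toConv (φ.comp α.ofConv)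

theorem push_mul {S S' : Type u} [CommRing S] [Algebra k S] [CommRing S'] [Algebra k S'] (φ : S →ₐ[k] S')
    (α β : Pts (H := H) (k := k) S) : push φ (α * β) = push φ α * push φ β :=
  congrArg toConv (AlgHom.comp_convMul_distrib φ α β)

theorem push_one {S S' : Type u} [CommRing S] [Algebra k S] [CommRing S'] [Algebra k S'] (φ : S →ₐ[k] S') :
    push φ (1 : Pts (H := H) (k := k) S) = 1 := by
  refine WithConv.ofConv_injective (AlgHom.ext fun h => ?_)
  show φ ((1 : Pts (H := H) (k := k) S) h) = (1 : Pts (H := H) (k := k) S') h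
  rw [AlgHom.convOne_apply, AlgHom.convOne_apply, φ.commutes]

/-- contracting the right factor -/
def sl {M : Type u} [AddCommGroup M] [Module k M] (φ : Module.Dual k H) : M ⊗[k] H →ₗ[k] M :=
  (TensorProduct.rid k M).toLinearMap ∘ₗ φ.lTensor M

theorem sl_tmul {M : Type u} [AddCommGroup M] [Module k M] (φ : Module.Dual k H) (m : M) (h : H) :
    sl φ (m ⊗ₜ[k] h) = φ h • m := by
  simp [sl]

theorem exists_eq_tmul [Module.Finite k H] (z : H ⊗[k] H) (w : H) (hz : ∀ φ : Module.Dual k H, ∃ a : k, sl φ z = a • w) :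
    ∃ g : H, z = w ⊗ₜ[k] g := by
  classical
  let b := Module.finBasis k H
  have key : ∀ z : H ⊗[k] H, z = ∑ i, sl (b.coord i) z ⊗ₜ[k] b i := by
    intro z
    induction z using TensorProduct.induction_on with
    | zero => simp
    | tmul x y =>
      conv_lhs => rw [← b.sum_repr y, TensorProduct.tmul_sum]
      refine Finset.sum_congr rfl fun i _ => ?_
      rw [sl_tmul, TensorProduct.smul_tmul]
      rfl
    | add p q hp hq =>
      simp only [map_add, TensorProduct.add_tmul, Finset.sum_add_distrib]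
      rw [← hp, ← hq]
  choose a ha using fun i => hz (b.coord i)
  refine ⟨∑ i, a i • b i, (key z).trans ?_⟩
  rw [TensorProduct.tmul_sum]
  refine Finset.sum_congr rfl fun i _ => ?_
  rw [ha i, TensorProduct.smul_tmul]

/-- a two-cocycle with unit values, given on points with values in all algebras -/
structure Cochain where
  κ : ∀ {S : Type u} [CommRing S] [Algebra k S], Pts (H := H) (k := k) S → Pts (H := H) (k := k) S → S
  isUnit : ∀ {S : Type u} [CommRing S] [Algebra k S] (α β : Pts (H := H) (k := k) S), IsUnit (κ α β)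
  nat : ∀ {S S' : Type u} [CommRing S] [Algebra k S] [CommRing S'] [Algebra k S'] (φ : S →ₐ[k] S')
    (α β : Pts (H := H) (k := k) S), φ (κ α β) = κ (push φ α) (push φ β)
  assoc : ∀ {S : Type u} [CommRing S] [Algebra k S] (α β γ' : Pts (H := H) (k := k) S),
    κ α β * κ (α * β) γ' = κ β γ' * κ α (β * γ')
  comm : ∀ {S : Type u} [CommRing S] [Algebra k S] (α β : Pts (H := H) (k := k) S), α * β = β * α

/-- a symmetric two-cocycle -/
structure Cocycle extends Cochain (k := k) (H := H) where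
  symm : ∀ {S : Type u} [CommRing S] [Algebra k S] (α β : Pts (H := H) (k := k) S), κ α β = κ β α

/-- the first point -/
abbrev P₁ : Pts (H := H) (k := k) (H ⊗[k] H) := toConv Algebra.TensorProduct.includeLeft

/-- the second point -/
abbrev P₂ : Pts (H := H) (k := k) (H ⊗[k] H) := toConv Algebra.TensorProduct.includeRight

variable (c : Cochain (k := k) (H := H))

/-- the twisted coaction contracted with a functional -/
def op (φ : Module.Dual k H) : Module.End k H :=
  sl φ ∘ₗ LinearMap.mulLeft k (c.κ P₁ P₂) ∘ₗ (P₁ (k := k) (H := H) * P₂).ofConv.toLinearMap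

theorem op_apply (φ : Module.Dual k H) (f : H) :
    op c φ f = sl φ (c.κ P₁ P₂ * (P₁ (k := k) (H := H) * P₂).ofConv f) := rfl

/-- the three points with values in the threefold tensor product -/
abbrev Q₁ : Pts (H := H) (k := k) ((H ⊗[k] H) ⊗[k] H) := push Algebra.TensorProduct.includeLeft P₁

@[inherit_doc Q₁]
abbrev Q₂ : Pts (H := H) (k := k) ((H ⊗[k] H) ⊗[k] H) := push Algebra.TensorProduct.includeLeft P₂

@[inherit_doc Q₁]
abbrev Q₃ : Pts (H := H) (k := k) ((H ⊗[k] H) ⊗[k] H) := toConv Algebra.TensorProduct.includeRight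

/-- the twisted triple coaction -/
def triple (f : H) : (H ⊗[k] H) ⊗[k] H :=
  c.κ Q₁ Q₂ * c.κ (Q₁ * Q₂) Q₃ * ((Q₁ (k := k) (H := H) * Q₂) * Q₃).ofConv f

/-- composing two contracted coactions -/
theorem op_op (φ ψ : Module.Dual k H) (f : H) : op c φ (op c ψ f) = sl φ (sl ψ (triple c f)) := by
  let V := (H ⊗[k] H) ⊗[k] H
  let i₁ : H ⊗[k] H →ₐ[k] V := Algebra.TensorProduct.includeLeft
  let m : H →ₐ[k] H ⊗[k] H := (P₁ (k := k) (H := H) * P₂).ofConv
  let mI : H ⊗[k] H →ₐ[k] V := Algebra.TensorProduct.map m (AlgHom.id k H)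
  let q₁ : Pts (H := H) (k := k) V := push i₁ P₁
  let q₂ : Pts (H := H) (k := k) V := push i₁ P₂
  let q₃ : Pts (H := H) (k := k) V := toConv Algebra.TensorProduct.includeRight
  have h1 : ∀ z : H ⊗[k] H, m (sl ψ z) = sl ψ (mI z) := fun z => by
    induction z using TensorProduct.induction_on with
    | zero => simp
    | tmul x y =>
      show m (sl ψ (x ⊗ₜ[k] y)) = sl ψ (m x ⊗ₜ[k] y)
      rw [sl_tmul, sl_tmul, map_smul]
    | add p q hp hq => simp only [map_add, hp, hq]
  have h2 : ∀ (d : H ⊗[k] H) (z : V), d * sl ψ z = sl ψ (i₁ d * z) := fun d z => by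
    induction z using TensorProduct.induction_on with
    | zero => simp
    | tmul x y =>
      show d * sl ψ (x ⊗ₜ[k] y) = sl ψ ((d ⊗ₜ[k] (1 : H)) * (x ⊗ₜ[k] y))
      rw [Algebra.TensorProduct.tmul_mul_tmul, _root_.one_mul, sl_tmul, sl_tmul, mul_smul_comm]
    | add p q hp hq => simp only [map_add, mul_add, hp, hq]
  show sl φ (c.κ P₁ P₂ * m (sl ψ (c.κ P₁ P₂ * m f))) = _
  rw [h1, h2, map_mul mI, c.nat i₁, c.nat mI, ← _root_.mul_assoc]
  congr 2
  have e₁ : push mI P₁ = q₁ * q₂ := by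
    rw [← push_mul]
    exact WithConv.ofConv_injective (AlgHom.ext fun h => by
      show mI (h ⊗ₜ[k] (1 : H)) = i₁ (m h)
      show m h ⊗ₜ[k] (AlgHom.id k H) 1 = m h ⊗ₜ[k] (1 : H)
      rfl)
  have e₂ : push mI P₂ = q₃ := WithConv.ofConv_injective (AlgHom.ext fun h => by
    show m 1 ⊗ₜ[k] h = (1 : H ⊗[k] H) ⊗ₜ[k] h
    rw [map_one])
  have e₃ : mI (m f) = (push mI (P₁ * P₂)) f := rfl
  rw [e₁, e₂, e₃, push_mul, e₁, e₂]
  rfl

theorem op_comm (c : Cocycle (k := k) (H := H)) (φ ψ : Module.Dual k H) :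
    op c.toCochain φ * op c.toCochain ψ = op c.toCochain ψ * op c.toCochain φ := by
  let V := (H ⊗[k] H) ⊗[k] H
  let i₁ : H ⊗[k] H →ₐ[k] V := Algebra.TensorProduct.includeLeft
  let m : H →ₐ[k] H ⊗[k] H := (P₁ (k := k) (H := H) * P₂).ofConv
  let mI : H ⊗[k] H →ₐ[k] V := Algebra.TensorProduct.map m (AlgHom.id k H)
  let q₁ : Pts (H := H) (k := k) V := push i₁ P₁
  let q₂ : Pts (H := H) (k := k) V := push i₁ P₂
  let q₃ : Pts (H := H) (k := k) V := toConv Algebra.TensorProduct.includeRight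
  let F : H → V := fun f => c.κ q₁ q₂ * c.κ (q₁ * q₂) q₃ * ((q₁ * q₂) * q₃) f
  have hF : ∀ (φ ψ : Module.Dual k H) (f : H), op c.toCochain φ (op c.toCochain ψ f) = sl φ (sl ψ (F f)) :=
    fun φ ψ f => op_op c.toCochain φ ψ f
  let σ : V →ₐ[k] V := Algebra.TensorProduct.lift
    (Algebra.TensorProduct.lift q₁.ofConv q₃.ofConv fun _ _ => Commute.all _ _) q₂.ofConv fun _ _ => Commute.all _ _
  have hσv : ∀ a b y : H, σ ((a ⊗ₜ[k] b) ⊗ₜ[k] y) = q₁ a * q₃ b * q₂ y := fun a b y => by
    show (Algebra.TensorProduct.lift q₁.ofConv q₃.ofConv fun _ _ => Commute.all _ _) (a ⊗ₜ[k] b) * q₂ y = _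
    rw [Algebra.TensorProduct.lift_tmul]
  have hσ₁ : push σ q₁ = q₁ := WithConv.ofConv_injective (AlgHom.ext fun h => by
    show σ ((h ⊗ₜ[k] (1 : H)) ⊗ₜ[k] (1 : H)) = q₁ h
    rw [hσv, map_one, map_one, _root_.mul_one, _root_.mul_one])
  have hσ₂ : push σ q₂ = q₃ := WithConv.ofConv_injective (AlgHom.ext fun h => by
    show σ (((1 : H) ⊗ₜ[k] h) ⊗ₜ[k] (1 : H)) = q₃ h
    rw [hσv, map_one, map_one, _root_.mul_one, _root_.one_mul])
  have hσ₃ : push σ q₃ = q₂ := WithConv.ofConv_injective (AlgHom.ext fun h => by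
    show σ (((1 : H) ⊗ₜ[k] (1 : H)) ⊗ₜ[k] h) = q₂ h
    rw [hσv, map_one, map_one, _root_.mul_one, _root_.one_mul])
  have hσF : ∀ f, σ (F f) = F f := by
    intro f
    show σ (c.κ q₁ q₂ * c.κ (q₁ * q₂) q₃ * ((q₁ * q₂) * q₃) f) = _
    rw [map_mul, map_mul, c.nat σ, c.nat σ, push_mul, hσ₁, hσ₂, hσ₃,
      show σ (((q₁ * q₂) * q₃) f) = (push σ ((q₁ * q₂) * q₃)) f from rfl, push_mul, push_mul, hσ₁, hσ₂, hσ₃]
    show c.κ q₁ q₃ * c.κ (q₁ * q₃) q₂ * (q₁ * q₃ * q₂) f = c.κ q₁ q₂ * c.κ (q₁ * q₂) q₃ * (q₁ * q₂ * q₃) f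
    rw [c.assoc q₁ q₃ q₂, c.assoc q₁ q₂ q₃, c.symm q₃ q₂, c.comm q₃ q₂,
      (_root_.mul_assoc q₁ q₃ q₂).trans ((congrArg (q₁ * ·) (c.comm q₃ q₂)).trans (_root_.mul_assoc q₁ q₂ q₃).symm)]
  have hsl : ∀ (φ ψ : Module.Dual k H) (z : V), sl φ (sl ψ (σ z)) = sl ψ (sl φ z) := fun φ ψ z => by
    induction z using TensorProduct.induction_on with
    | zero => simp
    | tmul x y =>
      induction x using TensorProduct.induction_on with
      | zero => simp
      | tmul a b =>
        have e : σ ((a ⊗ₜ[k] b) ⊗ₜ[k] y) = (a ⊗ₜ[k] y) ⊗ₜ[k] b := by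
          rw [hσv]
          show ((a ⊗ₜ[k] (1 : H)) ⊗ₜ[k] (1 : H)) * (((1 : H) ⊗ₜ[k] (1 : H)) ⊗ₜ[k] b) *
            (((1 : H) ⊗ₜ[k] y) ⊗ₜ[k] (1 : H)) = _
          simp [Algebra.TensorProduct.tmul_mul_tmul]
        rw [e]
        simp [sl_tmul, smul_smul, mul_comm]
      | add p q hp hq => simp only [TensorProduct.add_tmul, map_add, hp, hq]
    | add p q hp hq => simp only [map_add, hp, hq]
  refine LinearMap.ext fun f => ?_
  show op c.toCochain φ (op c.toCochain ψ f) = op c.toCochain ψ (op c.toCochain φ f)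
  rw [hF, hF, ← hsl φ ψ (F f), hσF]

/-- symmetric cocycles split -/
theorem exists_split (c : Cocycle (k := k) (H := H)) [IsAlgClosed k] [Module.Finite k H] :
    ∃ u : H, IsUnit u ∧ ∀ {S : Type u} [CommRing S] [Algebra k S] (α β : Pts (H := H) (k := k) S),
      α u * β u * c.κ α β = (α * β) u := by
  haveI : Nontrivial H := Function.Injective.nontrivial
    (f := algebraMap k H) (Function.LeftInverse.injective fun a => (Bialgebra.counitAlgHom k H).commutes a)
  obtain ⟨w, hw0, hw⟩ := LieKolchin.exists_common_eigen (op c.toCochain) (op_comm c)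
  obtain ⟨g, hg⟩ := exists_eq_tmul (c.κ P₁ P₂ * (P₁ (k := k) (H := H) * P₂).ofConv w) w hw
  have hE : ∀ {S : Type u} [CommRing S] [Algebra k S] (α β : Pts (H := H) (k := k) S),
      c.κ α β * (α * β) w = α w * β g := by
    intro S _ _ α β
    let φ : H ⊗[k] H →ₐ[k] S := Algebra.TensorProduct.lift α.ofConv β.ofConv fun _ _ => Commute.all _ _
    have e₁ : push φ P₁ = α := WithConv.ofConv_injective (AlgHom.ext fun h => by simp [φ, push])
    have e₂ : push φ P₂ = β := WithConv.ofConv_injective (AlgHom.ext fun h => by simp [φ, push])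
    have h := congrArg φ hg
    have e₃ : φ ((P₁ (k := k) (H := H) * P₂ (k := k) (H := H)).ofConv w) = (α * β).ofConv w := by
      rw [← e₁, ← e₂, ← push_mul]
      rfl
    rw [map_mul, c.nat φ, e₁, e₂, e₃,
      Algebra.TensorProduct.lift_tmul] at h
    exact h
  let I : Pts (H := H) (k := k) H := toConv (AlgHom.id k H)
  let a₀ : k := c.κ (1 : Pts (H := H) (k := k) k) 1
  let s : k := (1 : Pts (H := H) (k := k) k) w
  have hpk : ∀ {S : Type u} [CommRing S] [Algebra k S], push (Algebra.ofId k S) (1 : Pts (H := H) (k := k) k) = 1 :=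
    push_one _
  have hε : c.κ (1 : Pts (H := H) (k := k) H) I = algebraMap k H a₀ := by
    have h := c.assoc (1 : Pts (H := H) (k := k) H) 1 I
    rw [_root_.one_mul, _root_.one_mul] at h
    have h' := (c.isUnit (1 : Pts (H := H) (k := k) H) I).mul_right_cancel h
    rw [← h']
    exact ((c.nat (Algebra.ofId k H) (1 : Pts (H := H) (k := k) k) 1).trans (by rw [hpk])).symm
  have ha₀ : a₀ ≠ 0 := (c.isUnit (1 : Pts (H := H) (k := k) k) 1).ne_zero
  have h1 := hE (1 : Pts (H := H) (k := k) H) I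
  rw [hε, _root_.one_mul, show (1 : Pts (H := H) (k := k) H) w = algebraMap k H s by
      rw [← hpk]; rfl] at h1
  change algebraMap k H a₀ * w = algebraMap k H s * g at h1
  have hs : s ≠ 0 := fun h => by
    rw [h, map_zero, zero_mul] at h1
    exact hw0 (((Ne.isUnit ha₀).map (algebraMap k H)).mul_right_eq_zero.1 h1)
  have hgw : g = algebraMap k H (s⁻¹ * a₀) * w := by
    rw [map_mul, _root_.mul_assoc, h1, ← _root_.mul_assoc, ← map_mul, inv_mul_cancel₀ hs, map_one, _root_.one_mul]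
  let r : k := s⁻¹ * a₀
  have hE' : ∀ {S : Type u} [CommRing S] [Algebra k S] (α β : Pts (H := H) (k := k) S),
      c.κ α β * (α * β) w = algebraMap k S r * (α w * β w) := by
    intro S _ _ α β
    rw [hE α β, hgw, map_mul, β.ofConv.commutes]
    ring
  have hwu : IsUnit w := by
    by_contra hwn
    obtain ⟨P, hP, hwP⟩ := exists_max_ideal_of_mem_nonunits (show w ∈ nonunits H from hwn)
    letI := Ideal.Quotient.field P
    have hbij : Function.Bijective (algebraMap k (H ⧸ P)) := IsAlgClosed.algebraMap_bijective_of_isIntegral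
    let χ : H →ₐ[k] k :=
      ((AlgEquiv.ofBijective (Algebra.ofId k (H ⧸ P)) hbij).symm : (H ⧸ P) →ₐ[k] k).comp (Ideal.Quotient.mkₐ k P)
    have hχw : χ w = 0 := by
      show (AlgEquiv.ofBijective (Algebra.ofId k (H ⧸ P)) hbij).symm (Ideal.Quotient.mk P w) = 0
      rw [Ideal.Quotient.eq_zero_iff_mem.2 hwP, map_zero]
    let α : Pts (H := H) (k := k) H := toConv ((Algebra.ofId k H).comp χ)
    have h := hE' α (α⁻¹ * I)
    rw [← _root_.mul_assoc, mul_inv_cancel, _root_.one_mul, show α w = algebraMap k H (χ w) from rfl, hχw,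
      map_zero, zero_mul, mul_zero] at h
    exact hw0 ((c.isUnit _ _).mul_right_eq_zero.1 h)
  obtain ⟨v, hv⟩ := (((Ne.isUnit (mul_ne_zero (inv_ne_zero hs) ha₀) : IsUnit r).map (algebraMap k H)).mul hwu)
  refine ⟨↑v⁻¹, v⁻¹.isUnit, fun {S} _ _ α β => ?_⟩
  have hA : ∀ γ' : Pts (H := H) (k := k) S, γ' (↑v⁻¹ : H) * (algebraMap k S r * γ' w) = 1 := fun γ' => by
    rw [← γ'.ofConv.commutes r, ← map_mul, ← hv, ← map_mul, Units.inv_mul, map_one]
  have h := hE' α β
  calc α (↑v⁻¹ : H) * β (↑v⁻¹ : H) * c.κ α β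
      = α (↑v⁻¹ : H) * β (↑v⁻¹ : H) * c.κ α β * ((α * β) (↑v⁻¹ : H) * (algebraMap k S r * (α * β) w)) := by
        rw [hA, _root_.mul_one]
    _ = α (↑v⁻¹ : H) * β (↑v⁻¹ : H) * ((α * β) (↑v⁻¹ : H) * algebraMap k S r) * (c.κ α β * (α * β) w) := by ring
    _ = (α (↑v⁻¹ : H) * (algebraMap k S r * α w)) * (β (↑v⁻¹ : H) * (algebraMap k S r * β w)) *
        (α * β) (↑v⁻¹ : H) := by rw [h]; ring
    _ = (α * β) (↑v⁻¹ : H) := by rw [hA, hA, _root_.one_mul, _root_.one_mul]

end Groth.Agent.AVTheta.CocycleSplit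

end
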