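import Groth.Agent.AVTheta.CocycleSplit
import Groth.Agent.GrpSchLib.HeightOnePoint

/-!
Cocycles with unit values on the group schemes `ℤ/ℓ`, `μ_p`, `α_p` are symmetric: the twisted coaction contracted with
one functional generates all of them.
-/

noncomputable section

set_option autoImplicit false
set_option linter.style.haveILetI false
set_option linter.unusedSectionVars false
set_option maxHeartbeats 1000000

universe u

open TensorProduct WithConv

namespace Groth.Agent.AVTheta.CocycleSplit

variable {k : Type u} [Field k] {H : Type u} [CommRing H] [HopfAlgebra k H]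

/-- the contracted coaction, linearly in the functional -/
def opLin (c : Cochain (k := k) (H := H)) : Module.Dual k H →ₗ[k] Module.End k H where
  toFun := op c
  map_add' φ ψ := by
    refine LinearMap.ext fun f => ?_
    show op c (φ + ψ) f = op c φ f + op c ψ f
    rw [op_apply, op_apply, op_apply]
    generalize c.κ P₁ P₂ * (P₁ (k := k) (H := H) * P₂).ofConv f = z
    induction z using TensorProduct.induction_on with
    | zero => simp
    | tmul x y => simp [sl_tmul, add_smul]
    | add p q hp hq => simp only [map_add, hp, hq]; abel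
  map_smul' r φ := by
    refine LinearMap.ext fun f => ?_
    show op c (r • φ) f = r • op c φ f
    rw [op_apply, op_apply]
    generalize c.κ P₁ P₂ * (P₁ (k := k) (H := H) * P₂).ofConv f = z
    induction z using TensorProduct.induction_on with
    | zero => simp
    | tmul x y => simp [sl_tmul, smul_smul]
    | add p q hp hq => simp only [map_add, hp, hq, smul_add]

/-- the constant value of the cocycle at the unit -/
def a₀ (c : Cochain (k := k) (H := H)) : k := c.κ (1 : Pts (H := H) (k := k) k) 1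

theorem a₀_ne_zero (c : Cochain (k := k) (H := H)) : a₀ c ≠ 0 := (c.isUnit _ _).ne_zero

theorem κ_one_left (c : Cochain (k := k) (H := H)) {S : Type u} [CommRing S] [Algebra k S]
    (α : Pts (H := H) (k := k) S) : c.κ 1 α = algebraMap k S (a₀ c) := by
  have h := c.assoc 1 1 α
  rw [_root_.one_mul, _root_.one_mul] at h
  rw [← (c.isUnit 1 α).mul_right_cancel h]
  exact ((c.nat (Algebra.ofId k S) (1 : Pts (H := H) (k := k) k) 1).trans (by rw [push_one])).symm

theorem κ_one_right (c : Cochain (k := k) (H := H)) {S : Type u} [CommRing S] [Algebra k S]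
    (α : Pts (H := H) (k := k) S) : c.κ α 1 = algebraMap k S (a₀ c) := by
  have h := c.assoc α 1 1
  simp only [_root_.mul_one] at h
  rw [(c.isUnit α 1).mul_right_cancel h]
  exact ((c.nat (Algebra.ofId k S) (1 : Pts (H := H) (k := k) k) 1).trans (by rw [push_one])).symm

/-- contraction with the counit is evaluation at the unit -/
theorem sl_counit (z : H ⊗[k] H) :
    sl (Coalgebra.counit (R := k) (A := H)) z =
      (Algebra.TensorProduct.lift (AlgHom.id k H) (1 : Pts (H := H) (k := k) H).ofConv fun _ _ => Commute.all _ _) z := by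
  induction z using TensorProduct.induction_on with
  | zero => simp
  | tmul x y =>
    rw [sl_tmul, Algebra.TensorProduct.lift_tmul, show (1 : Pts (H := H) (k := k) H).ofConv y =
      algebraMap k H (Coalgebra.counit (R := k) y) from AlgHom.convOne_apply y, Algebra.smul_def, mul_comm]
    rfl
  | add p q hp hq => simp only [map_add, hp, hq]

/-- contracting the coaction with the counit -/
theorem sl_counit_comul (c : Cochain (k := k) (H := H)) (a : H) :
    sl (Coalgebra.counit (R := k) (A := H)) (c.κ P₁ P₂ * (P₁ (k := k) (H := H) * P₂).ofConv a) = a₀ c • a := by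
  rw [sl_counit, map_mul, c.nat]
  let φ : H ⊗[k] H →ₐ[k] H :=
    Algebra.TensorProduct.lift (AlgHom.id k H) (1 : Pts (H := H) (k := k) H).ofConv fun _ _ => Commute.all _ _
  have e₁ : push φ P₁ = toConv (AlgHom.id k H) := WithConv.ofConv_injective (AlgHom.ext fun h => by
    show φ (h ⊗ₜ[k] (1 : H)) = h
    rw [Algebra.TensorProduct.lift_tmul, map_one, _root_.mul_one]
    rfl)
  have e₂ : push φ P₂ = 1 := WithConv.ofConv_injective (AlgHom.ext fun h => by
    show φ ((1 : H) ⊗ₜ[k] h) = (1 : Pts (H := H) (k := k) H).ofConv h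
    rw [Algebra.TensorProduct.lift_tmul, map_one, _root_.one_mul])
  have e₃ : φ ((P₁ (k := k) (H := H) * P₂).ofConv a) = (push φ (P₁ (k := k) (H := H) * P₂)).ofConv a := rfl
  show c.κ (push φ P₁) (push φ P₂) * φ ((P₁ (k := k) (H := H) * P₂).ofConv a) = _
  rw [e₃, push_mul, e₁, e₂, κ_one_right, _root_.mul_one, Algebra.smul_def]
  rfl

theorem op_counit (c : Cochain (k := k) (H := H)) :
    op c (Coalgebra.counit (R := k) (A := H)) = a₀ c • (1 : Module.End k H) :=
  LinearMap.ext fun a => sl_counit_comul c a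

/-- contractions separate tensors -/
theorem eq_of_sl_sl [Module.Finite k H] {z w : (H ⊗[k] H) ⊗[k] H}
    (h : ∀ φ ψ : Module.Dual k H, sl φ (sl ψ z) = sl φ (sl ψ w)) : z = w := by
  classical
  let b := Module.finBasis k H
  have key : ∀ (M : Type u) [AddCommGroup M] [Module k M] (z : M ⊗[k] H), z = ∑ i, sl (b.coord i) z ⊗ₜ[k] b i := by
    intro M _ _ z
    induction z using TensorProduct.induction_on with
    | zero => simp
    | tmul x y =>
      conv_lhs => rw [← b.sum_repr y, TensorProduct.tmul_sum]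
      refine Finset.sum_congr rfl fun i _ => ?_
      rw [sl_tmul, TensorProduct.smul_tmul]
      rfl
    | add p q hp hq =>
      simp only [map_add, TensorProduct.add_tmul, Finset.sum_add_distrib]
      rw [← hp, ← hq]
  rw [key (H ⊗[k] H) z, key (H ⊗[k] H) w]
  refine Finset.sum_congr rfl fun i _ => congrArg (· ⊗ₜ[k] b i) ?_
  rw [key H (sl (b.coord i) z), key H (sl (b.coord i) w)]
  exact Finset.sum_congr rfl fun j _ => congrArg (· ⊗ₜ[k] b j) (h _ _)

set_option maxHeartbeats 2000000 in
/-- a cocycle is symmetric as soon as the powers of one contracted coaction are independent -/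
theorem symm_of_monogenic [Module.Finite k H] (c : Cochain (k := k) (H := H)) (φ₀ : Module.Dual k H) {n : ℕ}
    (hn : Module.finrank k H = n) (hli : LinearIndependent k fun i : Fin n => op c φ₀ ^ (i : ℕ))
    {S : Type u} [CommRing S] [Algebra k S] (α β : Pts (H := H) (k := k) S) : c.κ α β = c.κ β α := by
  let W := LinearMap.range (opLin c)
  let T := op c φ₀
  have hmul : ∀ φ ψ, op c φ * op c ψ ∈ W := fun φ ψ => by
    refine ⟨(φ ∘ₗ sl ψ) ∘ₗ LinearMap.mulLeft k (c.κ P₁ P₂) ∘ₗ (P₁ (k := k) (H := H) * P₂).ofConv.toLinearMap, ?_⟩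
    refine LinearMap.ext fun f => ?_
    show op c _ f = op c φ (op c ψ f)
    rw [op_op]
    let V := (H ⊗[k] H) ⊗[k] H
    let m : H →ₐ[k] H ⊗[k] H := (P₁ (k := k) (H := H) * P₂).ofConv
    let j : H ⊗[k] H →ₐ[k] V :=
      Algebra.TensorProduct.lift (Q₁ (k := k) (H := H)).ofConv (Q₂ * Q₃ : Pts (H := H) (k := k) V).ofConv
        fun _ _ => Commute.all _ _
    let i₂ : H ⊗[k] H →ₐ[k] V :=
      Algebra.TensorProduct.lift (Q₂ (k := k) (H := H)).ofConv (Q₃ (k := k) (H := H)).ofConv fun _ _ => Commute.all _ _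
    have ea : ∀ z : H ⊗[k] H, sl ((φ ∘ₗ sl ψ) ∘ₗ LinearMap.mulLeft k (c.κ P₁ P₂) ∘ₗ m.toLinearMap) z =
        sl φ (sl ψ (i₂ (c.κ P₁ P₂) * j z)) := fun z => by
      induction z using TensorProduct.induction_on with
      | zero => simp
      | tmul x y =>
        rw [sl_tmul]
        show φ (sl ψ (c.κ P₁ P₂ * m y)) • x = _
        generalize c.κ (P₁ (k := k) (H := H)) P₂ = d
        have hj : j (x ⊗ₜ[k] y) = ((x ⊗ₜ[k] (1 : H)) ⊗ₜ[k] (1 : H)) * i₂ (m y) := by
          rw [Algebra.TensorProduct.lift_tmul]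
          have e₁ : push i₂ (P₁ (k := k) (H := H)) = Q₂ := WithConv.ofConv_injective (AlgHom.ext fun h => by
            show i₂ (h ⊗ₜ[k] (1 : H)) = _
            rw [Algebra.TensorProduct.lift_tmul, map_one, _root_.mul_one])
          have e₂ : push i₂ (P₂ (k := k) (H := H)) = Q₃ := WithConv.ofConv_injective (AlgHom.ext fun h => by
            show i₂ ((1 : H) ⊗ₜ[k] h) = _
            rw [Algebra.TensorProduct.lift_tmul, map_one, _root_.one_mul])
          rw [show i₂ (m y) = (push i₂ (P₁ (k := k) (H := H) * P₂)).ofConv y from rfl, push_mul, e₁, e₂]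
          rfl
        rw [hj, mul_left_comm, ← map_mul]
        have : ∀ w : H ⊗[k] H, φ (sl ψ w) • x = sl φ (sl ψ (((x ⊗ₜ[k] (1 : H)) ⊗ₜ[k] (1 : H)) * i₂ w)) := fun w => by
          induction w using TensorProduct.induction_on with
          | zero => simp
          | tmul a b =>
            rw [Algebra.TensorProduct.lift_tmul]
            show φ (sl ψ (a ⊗ₜ[k] b)) • x = sl φ (sl ψ (((x ⊗ₜ[k] (1 : H)) ⊗ₜ[k] (1 : H)) *
              ((((1 : H) ⊗ₜ[k] a) ⊗ₜ[k] (1 : H)) * (((1 : H) ⊗ₜ[k] (1 : H)) ⊗ₜ[k] b))))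
            simp [sl_tmul, Algebra.TensorProduct.tmul_mul_tmul, smul_smul, mul_comm]
          | add p q hp hq => simp only [map_add, mul_add, add_smul, hp, hq]
        exact this _
      | add p q hp hq => simp only [map_add, mul_add, hp, hq]
    rw [op_apply, ea, map_mul j, c.nat j, c.nat i₂, ← _root_.mul_assoc]
    congr 2
    have e₁ : push j (P₁ (k := k) (H := H)) = Q₁ := WithConv.ofConv_injective (AlgHom.ext fun h => by
      show j (h ⊗ₜ[k] (1 : H)) = _
      rw [Algebra.TensorProduct.lift_tmul, map_one, _root_.mul_one])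
    have e₂ : push j (P₂ (k := k) (H := H)) = Q₂ * Q₃ := WithConv.ofConv_injective (AlgHom.ext fun h => by
      show j ((1 : H) ⊗ₜ[k] h) = _
      rw [Algebra.TensorProduct.lift_tmul, map_one, _root_.one_mul])
    have e₃ : push i₂ (P₁ (k := k) (H := H)) = Q₂ := WithConv.ofConv_injective (AlgHom.ext fun h => by
      show i₂ (h ⊗ₜ[k] (1 : H)) = _
      rw [Algebra.TensorProduct.lift_tmul, map_one, _root_.mul_one])
    have e₄ : push i₂ (P₂ (k := k) (H := H)) = Q₃ := WithConv.ofConv_injective (AlgHom.ext fun h => by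
      show i₂ ((1 : H) ⊗ₜ[k] h) = _
      rw [Algebra.TensorProduct.lift_tmul, map_one, _root_.one_mul])
    show c.κ (push i₂ P₁) (push i₂ P₂) * c.κ (push j P₁) (push j P₂) * (push j (P₁ (k := k) (H := H) * P₂)).ofConv f = _
    rw [push_mul, e₁, e₂, e₃, e₄]
    show _ = c.κ Q₁ Q₂ * c.κ (Q₁ * Q₂) Q₃ * _
    rw [c.assoc, _root_.mul_assoc (Q₁ (k := k) (H := H))]
  have hpow : ∀ i : ℕ, T ^ i ∈ W := by
    intro i
    induction i with
    | zero =>
      refine ⟨(a₀ c)⁻¹ • Coalgebra.counit (R := k) (A := H), ?_⟩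
      rw [map_smul, show opLin c (Coalgebra.counit (R := k) (A := H)) = op c _ from rfl, op_counit, smul_smul,
        inv_mul_cancel₀ (a₀_ne_zero c), one_smul, pow_zero]
    | succ i ih =>
      obtain ⟨φ, hφ⟩ := ih
      rw [pow_succ, ← hφ]
      exact hmul φ φ₀
  have hW : W = Submodule.span k (Set.range fun i : Fin n => T ^ (i : ℕ)) := by
    refine (Submodule.eq_of_le_of_finrank_le (Submodule.span_le.2 ?_) ?_).symm
    · rintro _ ⟨i, rfl⟩
      exact hpow i
    · rw [finrank_span_eq_card hli, Fintype.card_fin]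
      exact (LinearMap.finrank_range_le _).trans (by rw [Subspace.dual_finrank_eq, hn])
  have hcomm : ∀ φ ψ, op c φ * op c ψ = op c ψ * op c φ := by
    intro φ ψ
    have hmem : ∀ φ, op c φ ∈ Algebra.adjoin k ({T} : Set (Module.End k H)) := fun φ => by
      have h : op c φ ∈ W := ⟨φ, rfl⟩
      rw [hW] at h
      exact Submodule.span_le (p := (Algebra.adjoin k ({T} : Set (Module.End k H))).toSubmodule).2
        (by rintro _ ⟨i, rfl⟩; exact Subalgebra.pow_mem _ (Algebra.subset_adjoin (Set.mem_singleton T)) _) h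
    obtain ⟨P, hP⟩ := (AlgHom.mem_range _).1 (Algebra.adjoin_singleton_eq_range_aeval k T ▸ hmem φ)
    obtain ⟨R, hR⟩ := (AlgHom.mem_range _).1 (Algebra.adjoin_singleton_eq_range_aeval k T ▸ hmem ψ)
    rw [← hP, ← hR, ← map_mul, ← map_mul, mul_comm]
  let V := (H ⊗[k] H) ⊗[k] H
  let σ : V →ₐ[k] V := Algebra.TensorProduct.lift
    (Algebra.TensorProduct.lift (Q₁ (k := k) (H := H)).ofConv (Q₃ (k := k) (H := H)).ofConv fun _ _ => Commute.all _ _)
    (Q₂ (k := k) (H := H)).ofConv fun _ _ => Commute.all _ _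
  have hσv : ∀ a b y : H, σ ((a ⊗ₜ[k] b) ⊗ₜ[k] y) = (a ⊗ₜ[k] y) ⊗ₜ[k] b := fun a b y => by
    rw [Algebra.TensorProduct.lift_tmul, Algebra.TensorProduct.lift_tmul]
    show ((a ⊗ₜ[k] (1 : H)) ⊗ₜ[k] (1 : H)) * (((1 : H) ⊗ₜ[k] (1 : H)) ⊗ₜ[k] b) *
      (((1 : H) ⊗ₜ[k] y) ⊗ₜ[k] (1 : H)) = _
    simp [Algebra.TensorProduct.tmul_mul_tmul]
  have hsl : ∀ (φ ψ : Module.Dual k H) (z : V), sl φ (sl ψ (σ z)) = sl ψ (sl φ z) := fun φ ψ z => by
    induction z using TensorProduct.induction_on with
    | zero => simp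
    | tmul x y =>
      induction x using TensorProduct.induction_on with
      | zero => simp
      | tmul a b =>
        rw [hσv]
        simp [sl_tmul, smul_smul, mul_comm]
      | add p q hp hq => simp only [TensorProduct.add_tmul, map_add, hp, hq]
    | add p q hp hq => simp only [map_add, hp, hq]
  have hσ : σ (triple c 1) = triple c 1 := eq_of_sl_sl fun φ ψ => by
    rw [hsl, ← op_op, ← op_op]
    exact congrArg (fun e : Module.End k H => e 1) (hcomm ψ φ)
  let ev : V →ₐ[k] S := Algebra.TensorProduct.lift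
    (Algebra.TensorProduct.lift (1 : Pts (H := H) (k := k) S).ofConv α.ofConv fun _ _ => Commute.all _ _)
    β.ofConv fun _ _ => Commute.all _ _
  have hq₁ : push ev (Q₁ (k := k) (H := H)) = 1 := WithConv.ofConv_injective (AlgHom.ext fun h => by
    show ev ((h ⊗ₜ[k] (1 : H)) ⊗ₜ[k] (1 : H)) = _
    rw [Algebra.TensorProduct.lift_tmul, Algebra.TensorProduct.lift_tmul, map_one, map_one, _root_.mul_one, _root_.mul_one])
  have hq₂ : push ev (Q₂ (k := k) (H := H)) = α := WithConv.ofConv_injective (AlgHom.ext fun h => by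
    show ev (((1 : H) ⊗ₜ[k] h) ⊗ₜ[k] (1 : H)) = _
    rw [Algebra.TensorProduct.lift_tmul, Algebra.TensorProduct.lift_tmul, map_one, map_one, _root_.mul_one, _root_.one_mul])
  have hq₃ : push ev (Q₃ (k := k) (H := H)) = β := WithConv.ofConv_injective (AlgHom.ext fun h => by
    show ev (((1 : H) ⊗ₜ[k] (1 : H)) ⊗ₜ[k] h) = _
    rw [Algebra.TensorProduct.lift_tmul, Algebra.TensorProduct.lift_tmul, map_one, map_one, _root_.one_mul, _root_.one_mul])
  have hs₁ : push σ (Q₁ (k := k) (H := H)) = Q₁ := WithConv.ofConv_injective (AlgHom.ext fun h => hσv h 1 1)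
  have hs₂ : push σ (Q₂ (k := k) (H := H)) = Q₃ := WithConv.ofConv_injective (AlgHom.ext fun h => hσv 1 h 1)
  have hs₃ : push σ (Q₃ (k := k) (H := H)) = Q₂ := WithConv.ofConv_injective (AlgHom.ext fun h => hσv 1 1 h)
  have h := congrArg ev hσ
  simp only [triple, map_one, _root_.mul_one, map_mul, c.nat, push_mul, hs₁, hs₂, hs₃, hq₁, hq₂, hq₃,
    _root_.one_mul, κ_one_left] at h
  exact (((a₀_ne_zero c).isUnit.map (algebraMap k S)).mul_left_cancel h).symm

end Groth.Agent.AVTheta.CocycleSplit

end
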