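import Groth.Agent.AVTheta.Local
import Groth.Agent.FpqcDescLib.Basic
import Groth.Agent.ExistEasy.PP.PullSec

/-!
fpqc descent of isomorphisms of invertible modules.
-/

noncomputable section

set_option autoImplicit false
set_option linter.style.haveILetI false
set_option linter.unusedSectionVars false
set_option backward.isDefEq.respectTransparency false
set_option backward.isDefEq.respectTransparency.types false
set_option maxHeartbeats 1000000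
set_option synthInstance.maxHeartbeats 400000

universe u

open CategoryTheory CategoryTheory.Limits AlgebraicGeometry TopologicalSpace Opposite

namespace Groth.Agent.AVTheta

open Groth.Agent.AModX Groth.Agent.InvX

/-- the integral polynomial ring -/
abbrev polyZ : CommRingCat.{u} := CommRingCat.of (Polynomial (ULift.{u} ℤ))

/-- evaluation at a function -/
def evFun {R : CommRingCat.{u}} (c : R) : polyZ.{u} ⟶ R :=
  CommRingCat.ofHom (Polynomial.eval₂RingHom ((algebraMap ℤ R).comp ULift.ringEquiv.toRingHom) c)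

theorem evFun_natural {R R' : CommRingCat.{u}} (f : R ⟶ R') (c : R) : evFun c ≫ f = evFun (f c) := by
  refine CommRingCat.hom_ext (Polynomial.ringHom_ext (fun a => ?_) ?_)
  · simp [evFun]
  · simp [evFun]

/-- a function as a map to the affine line -/
def toA {Y : Scheme.{u}} (c : Γ(Y, ⊤)) : Y ⟶ Spec polyZ.{u} := Y.toSpecΓ ≫ Spec.map (evFun c)

theorem comp_toA {X Y : Scheme.{u}} (q : X ⟶ Y) (c : Γ(Y, ⊤)) : q ≫ toA c = toA (q.appTop c) := by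
  rw [toA, toA, ← Category.assoc, Scheme.toSpecΓ_naturality, Category.assoc, ← Spec.map_comp, evFun_natural]

theorem toA_appTop {Y : Scheme.{u}} (c : Γ(Y, ⊤)) :
    (toA c).appTop ((Scheme.ΓSpecIso _).inv Polynomial.X) = c := by
  have h1 := Scheme.ΓSpecIso_inv_naturality (evFun c)
  have h2 : (toA c).appTop = (Spec.map (evFun c)).appTop ≫ (Scheme.ΓSpecIso Γ(Y, ⊤)).hom := by
    simp only [toA, Scheme.Hom.comp_appTop, Scheme.toSpecΓ_appTop]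
  have h3 : (Scheme.ΓSpecIso _).inv ≫ (toA c).appTop = evFun c := by
    rw [h2, ← Category.assoc, ← h1, Category.assoc, Iso.inv_hom_id, Category.comp_id]
  exact (congr($h3 Polynomial.X)).trans (Polynomial.eval₂_X _ _)

/-- functions descend along coverings -/
theorem exists_desc_top {X Y : Scheme.{u}} {p : X ⟶ Y} (h : FpqcDescLib.Covers p) (c : Γ(X, ⊤))
    (hc : ∀ (T : Scheme.{u}) (a b : T ⟶ X), a ≫ p = b ≫ p → a.appTop c = b.appTop c) :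
    ∃ d : Γ(Y, ⊤), p.appTop d = c := by
  obtain ⟨g, hg, -⟩ := h.desc (toA c) (fun T a b e => by rw [comp_toA, comp_toA, hc T a b e])
  refine ⟨g.appTop ((Scheme.ΓSpecIso _).inv Polynomial.X), ?_⟩
  rw [← ConcreteCategory.comp_apply, ← Scheme.Hom.comp_appTop, hg, toA_appTop]

theorem desc_top_injective {X Y : Scheme.{u}} {p : X ⟶ Y} (h : FpqcDescLib.Covers p) :
    Function.Injective p.appTop := fun c d hcd => by
  haveI := h.epi
  have h' : p ≫ toA c = p ≫ toA d := by rw [comp_toA, comp_toA, hcd]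
  rw [cancel_epi] at h'
  rw [← toA_appTop c, ← toA_appTop d, h']

section opens

variable {X Y : Scheme.{u}} (p : X ⟶ Y)

theorem toOpen_restrict (U : Y.Opens) (c : Γ(U.toScheme, ⊤)) :
    toOpen (p ⁻¹ᵁ U) ((p ∣_ U).appTop c) = p.app U (toOpen U c) := by
  rw [morphismRestrict_appTop]
  show resR _ (resR (image_morphismRestrict_preimage p U ⊤).le (p.app (U.ι ''ᵁ ⊤) (show Γ(Y, U.ι ''ᵁ ⊤) from c))) = _
  rw [resR_resR]
  exact (ConcreteCategory.congr_hom (p.naturality (homOfLE U.ι_image_top.ge).op) (show Γ(Y, U.ι ''ᵁ ⊤) from c)).symm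

theorem appTop_toOpen {T : Scheme.{u}} (V : X.Opens) (a : T ⟶ V.toScheme) (h : ⊤ ≤ (a ≫ V.ι) ⁻¹ᵁ V)
    (c : Γ(V.toScheme, ⊤)) : (a ≫ V.ι).appLE V ⊤ h (toOpen V c) = a.appTop c := by
  rw [Scheme.Hom.comp_appLE, ConcreteCategory.comp_apply]
  have hV : (⊤ : V.toScheme.Opens) ≤ V.ι ⁻¹ᵁ V := fun z _ => z.2
  have h1 : resR (X := V.toScheme) hV (V.ι.app V (toOpen V c)) = c := by
    show resR (X := X) (V.ι.image_mono hV) (resR (V.ι_image_le _) (resR _ (show Γ(X, V.ι ''ᵁ ⊤) from c))) =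
      (show Γ(X, V.ι ''ᵁ ⊤) from c)
    rw [resR_resR, resR_resR, resR_self]
  conv_rhs => rw [← h1, Scheme.Hom.appTop, Scheme.Hom.app_eq_appLE]
  exact (ConcreteCategory.congr_hom (Scheme.Hom.map_appLE a (show (⊤ : T.Opens) ≤ a ⁻¹ᵁ ⊤ from fun z _ => trivial) (homOfLE hV).op) _).symm

theorem appLE_congr_hom {f f' : X ⟶ Y} (e : f = f') (U : Y.Opens) (W : X.Opens) (h : W ≤ f ⁻¹ᵁ U)
    (h' : W ≤ f' ⁻¹ᵁ U) : f.appLE U W h = f'.appLE U W h' := by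
  subst e; rfl

variable {p}

theorem exists_desc_open (h : FpqcDescLib.Covers p) (U : Y.Opens) (c : Γ(X, p ⁻¹ᵁ U))
    (hc : ∀ (T : Scheme.{u}) (a b : T ⟶ X) (_ : a ≫ p = b ≫ p) (ha : ⊤ ≤ a ⁻¹ᵁ p ⁻¹ᵁ U) (hb : ⊤ ≤ b ⁻¹ᵁ p ⁻¹ᵁ U),
      a.appLE (p ⁻¹ᵁ U) ⊤ ha c = b.appLE (p ⁻¹ᵁ U) ⊤ hb c) :
    ∃ d : Γ(Y, U), p.app U d = c := by
  have hcov : FpqcDescLib.Covers (p ∣_ U) := h.pullback U.ι _ (p ⁻¹ᵁ U).ι (isPullback_morphismRestrict p U)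
  let c' : Γ((p ⁻¹ᵁ U).toScheme, ⊤) :=
    resR ((p ⁻¹ᵁ U).ι_image_top.le : (p ⁻¹ᵁ U).ι ''ᵁ ⊤ ≤ p ⁻¹ᵁ U) c
  have hc' : toOpen (p ⁻¹ᵁ U) c' = c := by
    show resR _ (resR _ c) = c
    rw [resR_resR, resR_self]
  obtain ⟨d, hd⟩ := exists_desc_top hcov c' fun T a b e => by
    have ha : ∀ a : T ⟶ (p ⁻¹ᵁ U).toScheme, ⊤ ≤ (a ≫ (p ⁻¹ᵁ U).ι) ⁻¹ᵁ p ⁻¹ᵁ U := fun a z _ => (a z).2
    rw [← appTop_toOpen (p ⁻¹ᵁ U) a (ha a), ← appTop_toOpen (p ⁻¹ᵁ U) b (ha b), hc']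
    refine hc T _ _ ?_ _ _
    rw [Category.assoc, Category.assoc, ← morphismRestrict_ι, reassoc_of% e]
  exact ⟨toOpen U d, by rw [← toOpen_restrict, hd, hc']⟩

theorem desc_open_injective (h : FpqcDescLib.Covers p) (U : Y.Opens) : Function.Injective (p.app U) := fun c d hcd => by
  have hcov : FpqcDescLib.Covers (p ∣_ U) := h.pullback U.ι _ (p ⁻¹ᵁ U).ι (isPullback_morphismRestrict p U)
  have hsurj : ∀ c : Γ(Y, U), toOpen U (resR (U.ι_image_top.le : U.ι ''ᵁ ⊤ ≤ U) c) = c := fun c => by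
    show resR _ (resR _ c) = c
    rw [resR_resR, resR_self]
  rw [← hsurj c, ← hsurj d] at hcd ⊢
  rw [← toOpen_restrict, ← toOpen_restrict] at hcd
  exact congrArg _ (desc_top_injective hcov (toOpen_injective _ hcd))

end opens

section act

/-- `m` is the section induced by `s` along a morphism -/
def IsAct {X Y : Scheme.{u}} {P : X.Modules} {Q : Y.Modules} (φ : (⟨X, P⟩ : SM.{u}) ⟶ ⟨Y, Q⟩)
    {W : X.Opens} {V : Y.Opens} (hle : W ≤ φ.base ⁻¹ᵁ V) (s : Γ(Q, V)) (m : Γ(P, W)) : Prop :=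
  (show P ⟶ (Scheme.Modules.pullback φ.base).obj Q from φ.fiber).app W m = QCoh.pullSec φ.base Q hle s

variable {X Y Z : Scheme.{u}} {P : X.Modules} {Q : Y.Modules} {R : Z.Modules}
  {φ : (⟨X, P⟩ : SM.{u}) ⟶ ⟨Y, Q⟩}

theorem exists_act (hφ : IsCart φ) {W : X.Opens} {V : Y.Opens} (hle : W ≤ φ.base ⁻¹ᵁ V) (s : Γ(Q, V)) :
    ∃! m : Γ(P, W), IsAct φ hle s m := by
  haveI : IsIso (show P ⟶ (Scheme.Modules.pullback φ.base).obj Q from φ.fiber) := hφ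
  exact ((ConcreteCategory.isIso_iff_bijective _).1
    (Scheme.Modules.Hom.isIso_iff_isIso_app.1 ‹_› W)).existsUnique _

theorem act_res {W W' : X.Opens} {V V' : Y.Opens} (hV : V' ≤ V) (hW : W' ≤ W) {hle : W ≤ φ.base ⁻¹ᵁ V}
    (hle' : W' ≤ φ.base ⁻¹ᵁ V') {s : Γ(Q, V)} {m : Γ(P, W)} (h : IsAct φ hle s m) :
    IsAct φ hle' (res Q hV s) (res P hW m) := by
  refine (app_res _ hW m).trans ?_
  rw [show (show P ⟶ (Scheme.Modules.pullback φ.base).obj Q from φ.fiber).app W m = _ from h]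
  exact ExistEasy.pullSec_res φ.base Q hV hW hle hle' s

theorem act_smul {W : X.Opens} {V : Y.Opens} {hle : W ≤ φ.base ⁻¹ᵁ V} (a : Γ(Y, V)) {s : Γ(Q, V)} {m : Γ(P, W)}
    (h : IsAct φ hle s m) : IsAct φ hle (a • s) (φ.base.appLE V W hle a • m) := by
  refine (Scheme.Modules.Hom.app_smul _ _ m).trans ?_
  rw [show (show P ⟶ (Scheme.Modules.pullback φ.base).obj Q from φ.fiber).app W m = _ from h]
  exact (QCoh.pullSec_smul φ.base Q hle a s).symm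

theorem act_comp (ψ : (⟨Y, Q⟩ : SM.{u}) ⟶ ⟨Z, R⟩) {W : X.Opens} {U : Y.Opens} {V : Z.Opens}
    {h₁ : U ≤ ψ.base ⁻¹ᵁ V} {h₂ : W ≤ φ.base ⁻¹ᵁ U} {s : Γ(R, V)} {t : Γ(Q, U)} {m : Γ(P, W)}
    (hψ : IsAct ψ h₁ s t) (hφ : IsAct φ h₂ t m) (h₃ : W ≤ (φ ≫ ψ).base ⁻¹ᵁ V) : IsAct (φ ≫ ψ) h₃ s m := by
  show ((show P ⟶ (Scheme.Modules.pullback φ.base).obj Q from φ.fiber) ≫
    (Scheme.Modules.pullback φ.base).map (show Q ⟶ (Scheme.Modules.pullback ψ.base).obj R from ψ.fiber) ≫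
      (Scheme.Modules.pullbackComp φ.base ψ.base).hom.app R).app W m = _
  show ((Scheme.Modules.pullbackComp φ.base ψ.base).hom.app R).app W
    (((Scheme.Modules.pullback φ.base).map (show Q ⟶ (Scheme.Modules.pullback ψ.base).obj R from ψ.fiber)).app W
      ((show P ⟶ (Scheme.Modules.pullback φ.base).obj Q from φ.fiber).app W m)) = _
  rw [show (show P ⟶ (Scheme.Modules.pullback φ.base).obj Q from φ.fiber).app W m = _ from hφ,
    ExistEasy.pullSec_natural, show (show Q ⟶ (Scheme.Modules.pullback ψ.base).obj R from ψ.fiber).app U t = _ from hψ,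
    ExistEasy.pullSec_comp]
  rfl

theorem act_unique (hφ : IsCart φ) {W : X.Opens} {V : Y.Opens} {hle : W ≤ φ.base ⁻¹ᵁ V} {s : Γ(Q, V)} {m m' : Γ(P, W)}
    (h : IsAct φ hle s m) (h' : IsAct φ hle s m') : m = m' :=
  (exists_act hφ hle s).unique h h'

theorem isFrame_act (hφ : IsCart φ) {V : Y.Opens} {e : Γ(Q, V)} (he : IsFrame e) {m : Γ(P, φ.base ⁻¹ᵁ V)}
    (h : IsAct φ le_rfl e m) : IsFrame m := by
  haveI : IsIso (show P ⟶ (Scheme.Modules.pullback φ.base).obj Q from φ.fiber) := hφ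
  intro W hW
  have hb : ∀ W, Function.Bijective ((show P ⟶ (Scheme.Modules.pullback φ.base).obj Q from φ.fiber).app W) := fun W =>
    (ConcreteCategory.isIso_iff_bijective _).1 (Scheme.Modules.Hom.isIso_iff_isIso_app.1 ‹_› W)
  refine ((hb W).of_comp_iff' _).1 ?_
  have hf := isFrame_pullElt φ.base he W hW
  convert hf using 1
  funext r
  refine (Scheme.Modules.Hom.app_smul _ _ _).trans (congrArg (r • ·) ?_)
  rw [app_res, show (show P ⟶ (Scheme.Modules.pullback φ.base).obj Q from φ.fiber).app _ m = _ from h]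
  exact congrArg (res _ hW) (QCoh.map_id' _ _)

end act

/-- descent of isomorphisms of invertible modules -/
theorem nonempty_iso_of_desc {Z Y : Scheme.{u}} {p : Z ⟶ Y} (hp : FpqcDescLib.Covers p) {P : Z.Modules}
    {Q Q' : Y.Modules} (hQ : PicF.IsInvertible Q) (hQ' : PicF.IsInvertible Q')
    (F : (⟨Z, P⟩ : SM.{u}) ⟶ ⟨Y, Q⟩) (q : (⟨Z, P⟩ : SM.{u}) ⟶ ⟨Y, Q'⟩) (hF : IsCart F) (hq : IsCart q)
    (hFb : F.base = p) (hqb : q.base = p)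
    (hcoc : ∀ (R : Scheme.{u}) (a b : R ⟶ Z), a ≫ p = b ≫ p → ∃ (M : R.Modules)
      (π₁ π₂ : (⟨R, M⟩ : SM.{u}) ⟶ ⟨Z, P⟩), IsCart π₁ ∧ IsCart π₂ ∧ π₁.base = a ∧ π₂.base = b ∧
        π₁ ≫ F = π₂ ≫ F ∧ π₁ ≫ q = π₂ ≫ q) :
    Nonempty (Q ≅ Q') := by
  subst hFb
  have hFle : ∀ {U : Y.Opens}, F.base ⁻¹ᵁ U ≤ q.base ⁻¹ᵁ U := fun {U} => by rw [hqb]
  have hdata : ∀ y : Y, ∃ (U : Y.Opens) (e : Γ(Q, U)) (e' : Γ(Q', U)) (f g : Γ(P, F.base ⁻¹ᵁ U)) (d d' : Γ(Y, U)),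
      y ∈ U ∧ IsFrame e ∧ IsFrame e' ∧ IsAct F le_rfl e f ∧ IsAct q hFle e' g ∧ g = F.base.app U d • f ∧
        f = F.base.app U d' • g ∧ IsFrame f := by
    intro y
    obtain ⟨U₁, h₁, e₁, he₁⟩ := InvX.exists_frame hQ y
    obtain ⟨U₂, h₂, e₂, he₂⟩ := InvX.exists_frame hQ' y
    let U := U₁ ⊓ U₂
    have he : IsFrame (res Q (inf_le_left : U ≤ U₁) e₁) := he₁.res _
    have he' : IsFrame (res Q' (inf_le_right : U ≤ U₂) e₂) := he₂.res _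
    obtain ⟨f, hf, -⟩ := exists_act hF (le_refl (F.base ⁻¹ᵁ U)) (res Q (inf_le_left : U ≤ U₁) e₁)
    obtain ⟨g', hg', -⟩ := exists_act hq (le_refl (q.base ⁻¹ᵁ U)) (res Q' (inf_le_right : U ≤ U₂) e₂)
    have hfr := isFrame_act hF he hf
    have hgr := (isFrame_act hq he' hg').res (hFle (U := U))
    have hg := act_res (le_refl U) (hFle (U := U)) (hFle (U := U)) hg'
    rw [res_self] at hg
    set g := res P (hFle (U := U)) g'
    obtain ⟨c, hc⟩ := hfr.exists_coord le_rfl g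
    obtain ⟨c', hc'⟩ := hgr.exists_coord le_rfl f
    rw [res_self] at hc hc'
    have hdesc : ∀ {s t : Γ(P, F.base ⁻¹ᵁ U)} (c : Γ(Z, F.base ⁻¹ᵁ U)), t = c • s →
        (∀ {R : Scheme.{u}} (M : R.Modules) (π₁ π₂ : (⟨R, M⟩ : SM.{u}) ⟶ ⟨Z, P⟩), IsCart π₁ → IsCart π₂ →
          π₁ ≫ F = π₂ ≫ F → π₁ ≫ q = π₂ ≫ q →
          ∀ (h₁ : ⊤ ≤ π₁.base ⁻¹ᵁ F.base ⁻¹ᵁ U) (h₂ : ⊤ ≤ π₂.base ⁻¹ᵁ F.base ⁻¹ᵁ U) (m₁ m₂ : Γ(M, ⊤)),
            IsAct π₁ h₁ s m₁ → IsAct π₂ h₂ s m₂ → m₁ = m₂ ∧ IsFrame m₁) →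
        (∀ {R : Scheme.{u}} (M : R.Modules) (π₁ π₂ : (⟨R, M⟩ : SM.{u}) ⟶ ⟨Z, P⟩), IsCart π₁ → IsCart π₂ →
          π₁ ≫ F = π₂ ≫ F → π₁ ≫ q = π₂ ≫ q →
          ∀ (h₁ : ⊤ ≤ π₁.base ⁻¹ᵁ F.base ⁻¹ᵁ U) (h₂ : ⊤ ≤ π₂.base ⁻¹ᵁ F.base ⁻¹ᵁ U) (m₁ m₂ : Γ(M, ⊤)),
            IsAct π₁ h₁ t m₁ → IsAct π₂ h₂ t m₂ → m₁ = m₂) →
        ∃ d, F.base.app U d = c := by
      intro s t c hts hs ht
      refine exists_desc_open hp U c fun T a b e ha hb => ?_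
      obtain ⟨M, π₁, π₂, hc₁, hc₂, rfl, rfl, eF, eq⟩ := hcoc T a b e
      obtain ⟨m₁, hm₁, -⟩ := exists_act hc₁ ha s
      obtain ⟨m₂, hm₂, -⟩ := exists_act hc₂ hb s
      obtain ⟨hmm, hmf⟩ := hs M π₁ π₂ hc₁ hc₂ eF eq ha hb m₁ m₂ hm₁ hm₂
      have h1 := act_smul c hm₁
      have h2 := act_smul c hm₂
      rw [← hts] at h1 h2
      have h3 := ht M π₁ π₂ hc₁ hc₂ eF eq ha hb _ _ h1 h2
      rw [← hmm] at h3
      refine hmf.coord_unique le_rfl ?_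
      rw [res_self]
      exact h3
    have hFact : ∀ {R : Scheme.{u}} (M : R.Modules) (π₁ π₂ : (⟨R, M⟩ : SM.{u}) ⟶ ⟨Z, P⟩), IsCart π₁ → IsCart π₂ →
        π₁ ≫ F = π₂ ≫ F → π₁ ≫ q = π₂ ≫ q →
        ∀ (h₁ : ⊤ ≤ π₁.base ⁻¹ᵁ F.base ⁻¹ᵁ U) (h₂ : ⊤ ≤ π₂.base ⁻¹ᵁ F.base ⁻¹ᵁ U) (m₁ m₂ : Γ(M, ⊤)),
          IsAct π₁ h₁ f m₁ → IsAct π₂ h₂ f m₂ → m₁ = m₂ ∧ IsFrame m₁ := by
      intro R M π₁ π₂ hc₁ hc₂ eF _ h₁ h₂ m₁ m₂ hm₁ hm₂
      have a₁ := act_comp F hf hm₁ (fun z _ => h₁ trivial)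
      have a₂ := act_comp F hf hm₂ (fun z _ => h₂ trivial)
      have key : ∀ (ψ : (⟨R, M⟩ : SM.{u}) ⟶ ⟨Y, Q⟩), π₁ ≫ F = ψ → ∀ (h : ⊤ ≤ ψ.base ⁻¹ᵁ U),
          IsAct ψ h (res Q (inf_le_left : U ≤ U₁) e₁) m₂ → m₂ = m₁ := by
        intro ψ hψ h hm
        subst hψ
        exact act_unique (isCart_comp hc₁ hF) hm a₁
      refine ⟨(key _ eF _ a₂).symm, ?_⟩
      obtain ⟨w, hw, -⟩ := exists_act hc₁ (le_refl (π₁.base ⁻¹ᵁ F.base ⁻¹ᵁ U)) f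
      have hw' := act_res (le_refl _) h₁ h₁ hw
      rw [res_self] at hw'
      rw [act_unique hc₁ hm₁ hw']
      exact (isFrame_act hc₁ hfr hw).res _
    have hqact : ∀ {R : Scheme.{u}} (M : R.Modules) (π₁ π₂ : (⟨R, M⟩ : SM.{u}) ⟶ ⟨Z, P⟩), IsCart π₁ → IsCart π₂ →
        π₁ ≫ F = π₂ ≫ F → π₁ ≫ q = π₂ ≫ q →
        ∀ (h₁ : ⊤ ≤ π₁.base ⁻¹ᵁ F.base ⁻¹ᵁ U) (h₂ : ⊤ ≤ π₂.base ⁻¹ᵁ F.base ⁻¹ᵁ U) (m₁ m₂ : Γ(M, ⊤)),
          IsAct π₁ h₁ g m₁ → IsAct π₂ h₂ g m₂ → m₁ = m₂ ∧ IsFrame m₁ := by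
      intro R M π₁ π₂ hc₁ hc₂ _ eq h₁ h₂ m₁ m₂ hm₁ hm₂
      have a₁ := act_comp q hg hm₁ (fun z _ => (hFle (U := U)) (h₁ trivial))
      have a₂ := act_comp q hg hm₂ (fun z _ => (hFle (U := U)) (h₂ trivial))
      have key : ∀ (ψ : (⟨R, M⟩ : SM.{u}) ⟶ ⟨Y, Q'⟩), π₁ ≫ q = ψ → ∀ (h : ⊤ ≤ ψ.base ⁻¹ᵁ U),
          IsAct ψ h (res Q' (inf_le_right : U ≤ U₂) e₂) m₂ → m₂ = m₁ := by
        intro ψ hψ h hm
        subst hψ
        exact act_unique (isCart_comp hc₁ hq) hm a₁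
      refine ⟨(key _ eq _ a₂).symm, ?_⟩
      obtain ⟨w, hw, -⟩ := exists_act hc₁ (le_refl (π₁.base ⁻¹ᵁ F.base ⁻¹ᵁ U)) g
      have hw' := act_res (le_refl _) h₁ h₁ hw
      rw [res_self] at hw'
      rw [act_unique hc₁ hm₁ hw']
      exact (isFrame_act hc₁ hgr hw).res _
    obtain ⟨d, hd⟩ := hdesc c hc hFact fun M π₁ π₂ a1 a2 a3 a4 h₁ h₂ m₁ m₂ b1 b2 =>
      (hqact M π₁ π₂ a1 a2 a3 a4 h₁ h₂ m₁ m₂ b1 b2).1
    obtain ⟨d', hd'⟩ := hdesc c' hc' hqact fun M π₁ π₂ a1 a2 a3 a4 h₁ h₂ m₁ m₂ b1 b2 =>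
      (hFact M π₁ π₂ a1 a2 a3 a4 h₁ h₂ m₁ m₂ b1 b2).1
    exact ⟨U, _, _, f, g, d, d', ⟨h₁, h₂⟩, he, he', hf, hg, by rw [hd]; exact hc, by rw [hd']; exact hc', hfr⟩
  choose U e e' f g d d' hyU he he' hf hg hgf hfg hfr using hdata
  have hdd : ∀ y, d y * d' y = 1 := fun y => by
    refine desc_open_injective hp (U y) ?_
    refine (hfr y).coord_unique le_rfl ?_
    rw [res_self, map_mul, map_one, one_smul, mul_comm, mul_smul, ← hgf, ← hfg]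
  have happ : ∀ {V : Y.Opens} {W : Z.Opens} (h : W ≤ F.base ⁻¹ᵁ V) (hV : W = F.base ⁻¹ᵁ V) (x : Γ(Y, V)),
      F.base.appLE V W h x = resR hV.le (F.base.app V x) := fun h hV x => rfl
  -- injectivity of the action
  have hinj : ∀ {W : Y.Opens} (s s' : Γ(Q, W)) (m : Γ(P, F.base ⁻¹ᵁ W)), IsAct F le_rfl s m → IsAct F le_rfl s' m →
      s = s' := by
    intro W s s' m hs hs'
    refine eq_of_locally _ _ fun y hy => ⟨W ⊓ U y, inf_le_left, ⟨hy, hyU y⟩, ?_⟩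
    obtain ⟨r, hr⟩ := (he y).exists_coord inf_le_right (res Q (inf_le_left : W ⊓ U y ≤ W) s)
    obtain ⟨r', hr'⟩ := (he y).exists_coord inf_le_right (res Q (inf_le_left : W ⊓ U y ≤ W) s')
    have b := act_res (inf_le_right : W ⊓ U y ≤ U y) (F.base.preimage_mono inf_le_right) le_rfl (hf y)
    have a₁ := act_res (inf_le_left : W ⊓ U y ≤ W) (F.base.preimage_mono inf_le_left) le_rfl hs
    have a₂ := act_res (inf_le_left : W ⊓ U y ≤ W) (F.base.preimage_mono inf_le_left) le_rfl hs'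
    rw [hr] at a₁
    rw [hr'] at a₂
    have c₁ := act_unique hF a₁ (act_smul r b)
    have c₂ := act_unique hF a₂ (act_smul r' b)
    rw [c₁] at c₂
    have := (hfr y).coord_unique _ c₂
    rw [← Scheme.Hom.app_eq_appLE] at this
    rw [hr, hr', desc_open_injective hp _ this]
  -- compatibility
  have hcompat : ∀ (a b : Y) (W : Y.Opens) (ha : W ≤ U a) (hb : W ≤ U b) (r : Γ(Y, W)),
      res Q' hb (e' b) = r • res Q' ha (e' a) → res Q hb (d b • e b) = r • res Q ha (d a • e a) := by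
    intro a b W ha hb r hr
    have key : ∀ (y : Y) (hy : W ≤ U y), IsAct F le_rfl (res Q hy (d y • e y)) (res P (F.base.preimage_mono hy) (g y)) := by
      intro y hy
      refine act_res (hle := le_rfl) hy (F.base.preimage_mono hy) le_rfl ?_
      rw [hgf y, ← Scheme.Hom.appLE_eq_app]
      exact act_smul (d y) (hf y)
    have qa := act_res ha (F.base.preimage_mono ha) (hFle (U := W)) (hg a)
    have qb := act_res hb (F.base.preimage_mono hb) (hFle (U := W)) (hg b)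
    rw [hr] at qb
    have hgb := act_unique hq qb (act_smul r qa)
    refine hinj _ _ _ (key b hb) ?_
    rw [hgb]
    have h := act_smul r (key a ha)
    rw [appLE_congr_hom hqb W _ _ le_rfl]
    exact h
  let ψ : Q' ⟶ Q := ofFrames (fun y => ⟨y, hyU y⟩) he' hcompat
  have hψe : ∀ y, ψ.app (U y) (e' y) = d y • e y := fun y => ofFrames_app _ he' hcompat y
  have hunit : ∀ y, IsUnit (d y) := fun y => IsUnit.of_mul_eq_one _ (hdd y)
  have hcompat' : ∀ (a b : Y) (W : Y.Opens) (ha : W ≤ U a) (hb : W ≤ U b) (r : Γ(Y, W)),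
      res Q hb (d b • e b) = r • res Q ha (d a • e a) → res Q' hb (e' b) = r • res Q' ha (e' a) := by
    intro a b W ha hb r hr
    obtain ⟨r', hr'⟩ := (he' a).exists_coord ha (res Q' hb (e' b))
    rw [hr', ((he a).isUnit_smul (hunit a)).coord_unique ha ((hcompat a b W ha hb r' hr').symm.trans hr)]
  let ψ' : Q ⟶ Q' := ofFrames (fun y => ⟨y, hyU y⟩) (fun y => (he y).isUnit_smul (hunit y)) hcompat'
  have hψ'e : ∀ y, ψ'.app (U y) (d y • e y) = e' y := fun y =>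
    ofFrames_app _ (fun y => (he y).isUnit_smul (hunit y)) hcompat' y
  refine ⟨⟨ψ', ψ, ?_, ?_⟩⟩
  · refine hom_ext_of_frames U (fun y => ⟨y, hyU y⟩) _ (fun y => (he y).isUnit_smul (hunit y)) fun y => ?_
    show ψ.app (U y) (ψ'.app (U y) (d y • e y)) = d y • e y
    rw [hψ'e, hψe]
  · refine hom_ext_of_frames U (fun y => ⟨y, hyU y⟩) _ he' fun y => ?_
    show ψ'.app (U y) (ψ.app (U y) (e' y)) = e' y
    rw [hψe, hψ'e]

end Groth.Agent.AVTheta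

end
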