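import Groth.Agent.AVTheta.KerDescent
import Groth.Agent.AVTheta.CocycleSplit
import Groth.Agent.GrpSchLib.AffineHopf
import Groth.Agent.H23.KLBasic

/-!
Lifting an isotropic finite subgroup of `K(L)` to the theta group over an algebraically closed field.
-/

noncomputable section

set_option autoImplicit false
set_option linter.style.haveILetI false
set_option linter.unusedSectionVars false
set_option backward.isDefEq.respectTransparency false
set_option backward.isDefEq.respectTransparency.types false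
set_option maxHeartbeats 1000000
set_option synthInstance.maxHeartbeats 400000

universe u

open CategoryTheory CategoryTheory.Limits AlgebraicGeometry MonoidalCategory CartesianMonoidalCategory TopologicalSpace
  Pseudofunctor Bicategory TensorProduct WithConv
open scoped MonObj Groth.Agent.H23.PicMul

namespace Groth.Agent.AVTheta

open ThetaGrp Groth.Agent.InvX Groth.Agent.AModX

/-- an invertible module on a discrete scheme is trivial -/
theorem cl_eq_one_of_discrete {X : Scheme.{u}} [DiscreteTopology X] {L : X.Modules} (hL : PicF.IsInvertible L) :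
    PicF.cl L = 1 := by
  let W : X → X.Opens := fun x => ⟨{x}, isOpen_discrete _⟩
  choose U hU e he using fun x => InvX.exists_frame hL x
  have hWU : ∀ x, W x ≤ U x := fun x y hy => (show y = x from hy) ▸ hU x
  obtain ⟨s, hs, -⟩ := existsUnique_glue (M := L) (V := ⊤) W (fun _ => le_top) (fun x _ => ⟨x, rfl⟩)
    (fun x => res L (hWU x) (e x)) fun x y => by
      by_cases hxy : x = y
      · subst hxy; rfl
      · refine eq_of_locally _ _ fun z hz => False.elim (hxy ?_)
        exact (show z = x from hz.1).symm.trans (show z = y from hz.2)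
  have hf : InvX.IsFrame s := H23.TrivBasic.isFrame_of_germwise fun x _ =>
    ⟨W x, le_top, rfl, by rw [hs x]; exact (he x).res (hWU x)⟩
  exact (PicGrp.cl_eq_cl_iff _ _).2 (H23.TrivBasic.triv_of_frame hf)

variable {k : Type u} [Field k] {A : Over (Spec (CommRingCat.of k))} [GrpObj A] [IsCommMonObj A] [IsProper A.hom]
  [GeometricallyIntegral A.hom] {L : A.left.Modules}

/-- a point of `K(L)` with discrete source lifts -/
theorem exists_pts_of_discrete (hL : PicF.IsInvertible L) {T : Over (Spec (CommRingCat.of k))}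
    [DiscreteTopology T.left] (x : T ⟶ A) (hx : IsMumfordTriv A L x) : ∃ β : thetaPts A L T, IsOverPt β x := by
  haveI : Subsingleton ↥(Spec (CommRingCat.of k)) := inferInstanceAs (Subsingleton (PrimeSpectrum k))
  haveI : Nonempty ↥(Spec (CommRingCat.of k)) := inferInstanceAs (Nonempty (PrimeSpectrum k))
  have h := (H23.KLBasic.iff_eq_pull hL x).1 hx
  have h1 : PicF.pullCl x.left (PicF.cl L) = 1 :=
    cl_eq_one_of_discrete (PicClLib.isInvertible_pullback x.left hL)
  refine exists_pts_of_cl x ?_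
  rw [h, h1, H23.PicMul.pullCl_one, _root_.mul_one]

/-- scalars relating two points over the same translation are units -/
theorem isUnit_scalar (hL : PicF.IsInvertible L) {T : Over (Spec (CommRingCat.of k))} {β ζ : thetaPts A L T}
    {x : T ⟶ A} (hβ : IsOverPt β x) (hζ : IsOverPt ζ x) {c : Γ(T.left, ⊤)} (hc : ζ.1.hom = bsc A L c ≫ β.1.hom) :
    IsUnit c := by
  obtain ⟨d, hd⟩ := exists_scalar hL hζ hβ
  refine IsUnit.of_mul_eq_one d (bsc_injective hL ?_)
  rw [bsc_one, mul_comm, ← bsc_mul, ← cancel_mono ζ.1.hom, Category.id_comp, Category.assoc, ← hd, ← hc]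

/-- a multiple of a point by a unit -/
theorem exists_smul_pts {T : Over (Spec (CommRingCat.of k))} {c : Γ(T.left, ⊤)} (hc : IsUnit c)
    {β : thetaPts A L T} {x : T ⟶ A} (hβ : IsOverPt β x) :
    ∃ ζ : thetaPts A L T, ζ.1.hom = bsc A L c ≫ β.1.hom ∧ IsOverPt ζ x := by
  obtain ⟨d, hcd⟩ := hc.exists_right_inv
  have hcart : IsCart (bsc A L c ≫ β.1.hom) := isCart_comp
    (isCart_iso ⟨bsc A L c, bsc A L d, by rw [bsc_mul, mul_comm, hcd, bsc_one], by rw [bsc_mul, hcd, bsc_one]⟩)
    (isCart_pts β)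
  refine exists_pts_of_cart x _ hcart ?_
  rw [CoGrothendieck.categoryStruct_comp_base]
  exact (Category.id_comp _).trans hβ

open GrpSchLib.AffineHopf (sp spMap spMap_mul spMap_comp)

/-- a pair of points comes from the universal pair -/
theorem exists_univ_pair {H : Type u} [CommRing H] [HopfAlgebra k H] {T : Over (Spec (CommRingCat.of k))}
    (n m : T ⟶ sp k H) :
    ∃ g : T ⟶ sp k (H ⊗[k] H), g ≫ spMap (CocycleSplit.P₁ (k := k) (H := H)).ofConv = n ∧
      g ≫ spMap (CocycleSplit.P₂ (k := k) (H := H)).ofConv = m := by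
  obtain ⟨t, ht₁, ht₂⟩ := Effective.exists_lift_tensor k H n.left m.left
    ((Over.w n).trans (Over.w m).symm)
  let g : T ⟶ sp k (H ⊗[k] H) := Over.homMk t (by
    show t ≫ Spec.map (CommRingCat.ofHom (algebraMap k (H ⊗[k] H))) = T.hom
    rw [← Over.w n, ← ht₁, Category.assoc]
    refine congrArg (t ≫ ·) ?_
    show _ = Spec.map _ ≫ Spec.map (CommRingCat.ofHom (algebraMap k H))
    rw [← Spec.map_comp]
    refine congrArg Spec.map ?_
    ext a
    exact ((Algebra.TensorProduct.includeLeft : H →ₐ[k] H ⊗[k] H).commutes a).symm)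
  exact ⟨g, Over.OverMorphism.ext ht₁, Over.OverMorphism.ext ht₂⟩

/-- the cocycle of the lifts of a finite subgroup of `K(L)` -/
theorem exists_cochain (hL : PicF.IsInvertible L) {H : Type u} [CommRing H]
    [HopfAlgebra k H] [Module.Finite k H] (x : sp k H ⟶ A) [IsMonHom x] [IsCommMonObj (sp k H)]
    (hx : IsMumfordTriv A L x) :
    ∃ (B0 : ∀ T : Over (Spec (CommRingCat.of k)), (T ⟶ sp k H) → thetaPts A L T)
      (cf : ∀ T : Over (Spec (CommRingCat.of k)), (T ⟶ sp k H) → (T ⟶ sp k H) → Γ(T.left, ⊤))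
      (C : CocycleSplit.Cochain (k := k) (H := H)),
      (∀ T n, IsOverPt (B0 T n) (n ≫ x)) ∧
      (∀ {T T' : Over (Spec (CommRingCat.of k))} (g : T' ⟶ T) (n : T ⟶ sp k H),
        IsBaseChange (B0 T' (g ≫ n)) g (B0 T n)) ∧
      (∀ T n m, (B0 T n * B0 T m).1.hom = bsc A L (cf T n m) ≫ (B0 T (n * m)).1.hom) ∧
      (∀ {T T' : Over (Spec (CommRingCat.of k))} (g : T' ⟶ T) (n m : T ⟶ sp k H),
        g.left.appTop (cf T n m) = cf T' (g ≫ n) (g ≫ m)) ∧
      ∀ {S : Type u} [CommRing S] [Algebra k S] (α β : CocycleSplit.Pts (k := k) (H := H) S),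
        C.κ α β = (Scheme.ΓSpecIso (CommRingCat.of S)).hom (cf (sp k S) (spMap α.ofConv) (spMap β.ofConv)) := by
  haveI : IsArtinianRing H := IsArtinianRing.of_finite k H
  haveI : DiscreteTopology ↥(sp k H).left := inferInstanceAs (DiscreteTopology (PrimeSpectrum H))
  obtain ⟨β₀, hβ₀⟩ := exists_pts_of_discrete hL x hx
  choose B0 hB0 hB0u using fun (T : Over (Spec (CommRingCat.of k))) (n : T ⟶ sp k H) => existsUnique_bc n β₀
  have hB0x : ∀ (T : Over (Spec (CommRingCat.of k))) (n : T ⟶ sp k H), IsOverPt (B0 T n) (n ≫ x) := fun T n =>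
    isOverPt_bc (hB0 T n) hβ₀
  have hB0nat : ∀ {T T' : Over (Spec (CommRingCat.of k))} (g : T' ⟶ T) (n : T ⟶ sp k H),
      IsBaseChange (B0 T' (g ≫ n)) g (B0 T n) := fun {T T'} g n => by
    obtain ⟨β', hβ', -⟩ := existsUnique_bc g (B0 T n)
    rw [← hB0u T' (g ≫ n) β' (isBaseChange_comp (hB0 T n) hβ')]
    exact hβ'
  have hover : ∀ {T : Over (Spec (CommRingCat.of k))} (n m : T ⟶ sp k H),
      IsOverPt (B0 T n * B0 T m) ((n * m) ≫ x) := fun {T} n m => by
    rw [MonObj.mul_comp, mul_comm]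
    exact isOverPt_mul (hB0x T n) (hB0x T m)
  choose cf hcf using fun (T : Over (Spec (CommRingCat.of k))) (n m : T ⟶ sp k H) =>
    exists_scalar hL (hB0x T (n * m)) (hover n m)
  have hcu : ∀ {T : Over (Spec (CommRingCat.of k))} (n m : T ⟶ sp k H) (c : Γ(T.left, ⊤)),
      (B0 T n * B0 T m).1.hom = bsc A L c ≫ (B0 T (n * m)).1.hom → cf T n m = c := fun {T} n m c h =>
    bsc_injective hL ((cancel_mono (B0 T (n * m)).1.hom).1 ((hcf T n m).symm.trans h))
  have hcnat : ∀ {T T' : Over (Spec (CommRingCat.of k))} (g : T' ⟶ T) (n m : T ⟶ sp k H),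
      g.left.appTop (cf T n m) = cf T' (g ≫ n) (g ≫ m) := fun {T T'} g n m => by
    refine (hcu (g ≫ n) (g ≫ m) _ ?_).symm
    refine cancel_cart (isCart_bcLift g) ?_ ?_
    · rw [CoGrothendieck.categoryStruct_comp_base]
      exact (hover (g ≫ n) (g ≫ m)).trans ((Category.id_comp _).trans (hB0x T' ((g ≫ n) * (g ≫ m)))).symm
    · rw [show ((B0 T' (g ≫ n) * B0 T' (g ≫ m)).1.hom) ≫ bcLift A L g = _ from
          isBaseChange_mul (hB0nat g n) (hB0nat g m), hcf, ← Category.assoc, ← bsc_bc, Category.assoc, Category.assoc,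
        ← show (B0 T' (g ≫ (n * m))).1.hom ≫ bcLift A L g = _ from hB0nat g (n * m), MonObj.comp_mul]
  have hcassoc : ∀ {T : Over (Spec (CommRingCat.of k))} (n m q : T ⟶ sp k H),
      cf T n m * cf T (n * m) q = cf T m q * cf T n (m * q) := fun {T} n m q => by
    have h1 : ((B0 T n * B0 T m) * B0 T q).1.hom =
        bsc A L (cf T (n * m) q * cf T n m) ≫ (B0 T (n * m * q)).1.hom := by
      show (B0 T q).1.hom ≫ (B0 T n * B0 T m).1.hom = _
      rw [hcf, ← Category.assoc, ← bsc_comm, Category.assoc,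
        show (B0 T q).1.hom ≫ (B0 T (n * m)).1.hom = _ from hcf T (n * m) q, ← Category.assoc, bsc_mul]
    have h2 : (B0 T n * (B0 T m * B0 T q)).1.hom =
        bsc A L (cf T n (m * q) * cf T m q) ≫ (B0 T (n * (m * q))).1.hom := by
      show (B0 T m * B0 T q).1.hom ≫ (B0 T n).1.hom = _
      rw [hcf, Category.assoc,
        show (B0 T (m * q)).1.hom ≫ (B0 T n).1.hom = _ from hcf T n (m * q), ← Category.assoc, bsc_mul]
    rw [_root_.mul_assoc n m q] at h1
    have h := bsc_injective hL ((cancel_mono (B0 T (n * (m * q))).1.hom).1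
      (h1.symm.trans ((congrArg (fun z : thetaPts A L T => z.1.hom)
        (_root_.mul_assoc (B0 T n) (B0 T m) (B0 T q))).trans h2)))
    rw [mul_comm, h, mul_comm]
  let ev : ∀ {S : Type u} [CommRing S] [Algebra k S], CocycleSplit.Pts (k := k) (H := H) S →
      CocycleSplit.Pts (k := k) (H := H) S → S := fun {S} _ _ α β =>
    (Scheme.ΓSpecIso (CommRingCat.of S)).hom (cf (sp k S) (spMap α.ofConv) (spMap β.ofConv))
  let C : CocycleSplit.Cochain (k := k) (H := H) :=
    { κ := ev
      isUnit := fun {S} _ _ α β => (isUnit_scalar hL (hB0x _ (spMap α.ofConv * spMap β.ofConv)) (hover _ _)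
        (hcf _ (spMap α.ofConv) (spMap β.ofConv))).map (Scheme.ΓSpecIso (CommRingCat.of S)).hom.hom
      nat := fun {S S'} _ _ _ _ φ α β => by
        show φ ((Scheme.ΓSpecIso (CommRingCat.of S)).hom (cf (sp k S) _ _)) =
          (Scheme.ΓSpecIso (CommRingCat.of S')).hom (cf (sp k S') _ _)
        rw [show spMap (CocycleSplit.push φ α).ofConv = spMap φ ≫ spMap α.ofConv from (spMap_comp φ α.ofConv).symm,
          show spMap (CocycleSplit.push φ β).ofConv = spMap φ ≫ spMap β.ofConv from (spMap_comp φ β.ofConv).symm,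
          ← hcnat]
        exact (congr($(Scheme.ΓSpecIso_naturality (CommRingCat.ofHom φ.toRingHom))
          (cf (sp k S) (spMap α.ofConv) (spMap β.ofConv)))).symm
      assoc := fun {S} _ _ α β γ' => by
        show (Scheme.ΓSpecIso (CommRingCat.of S)).hom _ * (Scheme.ΓSpecIso (CommRingCat.of S)).hom _ =
          (Scheme.ΓSpecIso (CommRingCat.of S)).hom _ * (Scheme.ΓSpecIso (CommRingCat.of S)).hom _
        rw [← map_mul, ← map_mul, show spMap (α * β).ofConv = spMap α.ofConv * spMap β.ofConv from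
            (spMap_mul _ _).symm, show spMap (β * γ').ofConv = spMap β.ofConv * spMap γ'.ofConv from
            (spMap_mul _ _).symm, hcassoc]
      comm := fun {S} _ _ α β => WithConv.ofConv_injective (GrpSchLib.AffineHopf.spMap_injective (by
        rw [show spMap (α * β).ofConv = spMap α.ofConv * spMap β.ofConv from (spMap_mul _ _).symm,
          show spMap (β * α).ofConv = spMap β.ofConv * spMap α.ofConv from (spMap_mul _ _).symm, mul_comm])) }
  exact ⟨B0, cf, C, hB0x, fun {T T'} g n => hB0nat g n, hcf, fun {T T'} g n m => hcnat g n m,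
    fun {S} _ _ α β => rfl⟩

/-- an isotropic finite subgroup of `K(L)` lifts multiplicatively -/
theorem exists_lifts_of_isotropic [IsAlgClosed k] (hL : PicF.IsInvertible L) {H : Type u} [CommRing H]
    [HopfAlgebra k H] [Module.Finite k H] (x : sp k H ⟶ A) [IsMonHom x] [IsCommMonObj (sp k H)]
    (hx : IsMumfordTriv A L x) (hiso : IsIsotropic L x) :
    ∃ Bn : ∀ {T : Over (Spec (CommRingCat.of k))}, (T ⟶ sp k H) → thetaPts A L T,
      (∀ {T : Over (Spec (CommRingCat.of k))} (n : T ⟶ sp k H), IsOverPt (Bn n) (n ≫ x)) ∧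
      (∀ {T T' : Over (Spec (CommRingCat.of k))} (g : T' ⟶ T) (n : T ⟶ sp k H),
        IsBaseChange (Bn (g ≫ n)) g (Bn n)) ∧
      ∀ {T : Over (Spec (CommRingCat.of k))} (n m : T ⟶ sp k H), Bn n * Bn m = Bn (n * m) := by
  obtain ⟨B0, cf, C₀, hB0x, hB0nat, hcf, hcnat, hCκ⟩ := exists_cochain hL x hx
  have hcu : ∀ {T : Over (Spec (CommRingCat.of k))} (n m : T ⟶ sp k H) (c : Γ(T.left, ⊤)),
      (B0 T n * B0 T m).1.hom = bsc A L c ≫ (B0 T (n * m)).1.hom → cf T n m = c := fun {T} n m c h =>
    bsc_injective hL ((cancel_mono (B0 T (n * m)).1.hom).1 ((hcf T n m).symm.trans h))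
  have hcsymm : ∀ {T : Over (Spec (CommRingCat.of k))} (n m : T ⟶ sp k H), cf T n m = cf T m n := fun {T} n m => by
    refine hcu n m _ ?_
    rw [hiso T n m _ _ (hB0x T n) (hB0x T m), mul_comm n m]
    exact hcf T m n
  let C : CocycleSplit.Cocycle (k := k) (H := H) :=
    { C₀ with symm := fun {S} _ _ α β => by rw [hCκ, hCκ, hcsymm] }
  obtain ⟨w, hw, hwκ⟩ := CocycleSplit.exists_split C
  let lam : ∀ (T : Over (Spec (CommRingCat.of k))) (_n : T ⟶ sp k H), Γ(T.left, ⊤) := fun T n =>
    n.left.appTop ((Scheme.ΓSpecIso (CommRingCat.of H)).inv w)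
  have hlu : ∀ T n, IsUnit (lam T n) := fun T n => (hw.map (Scheme.ΓSpecIso (CommRingCat.of H)).inv.hom).map _
  have hlnat : ∀ {T T' : Over (Spec (CommRingCat.of k))} (g : T' ⟶ T) (n : T ⟶ sp k H),
      g.left.appTop (lam T n) = lam T' (g ≫ n) := fun {T T'} g n => by
    show _ = (g.left ≫ n.left).appTop _
    rw [Scheme.Hom.comp_appTop]
    rfl
  have hmain : ∀ {T : Over (Spec (CommRingCat.of k))} (n m : T ⟶ sp k H),
      lam T n * lam T m * cf T n m = lam T (n * m) := by
    have huniv : lam _ (spMap (CocycleSplit.P₁ (k := k) (H := H)).ofConv) *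
        lam _ (spMap (CocycleSplit.P₂ (k := k) (H := H)).ofConv) *
        cf _ (spMap (CocycleSplit.P₁ (k := k) (H := H)).ofConv) (spMap (CocycleSplit.P₂ (k := k) (H := H)).ofConv) =
        lam _ (spMap (CocycleSplit.P₁ (k := k) (H := H)).ofConv * spMap (CocycleSplit.P₂ (k := k) (H := H)).ofConv) := by
      have hs : ∀ α : CocycleSplit.Pts (k := k) (H := H) (H ⊗[k] H),
          (Scheme.ΓSpecIso (CommRingCat.of (H ⊗[k] H))).hom (lam (sp k (H ⊗[k] H)) (spMap α.ofConv)) = α.ofConv w :=
        fun α => (congr($(Scheme.ΓSpecIso_naturality (CommRingCat.ofHom α.ofConv.toRingHom))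
          ((Scheme.ΓSpecIso (CommRingCat.of H)).inv w))).trans (congrArg α.ofConv congr($((Scheme.ΓSpecIso (CommRingCat.of H)).inv_hom_id) w))
      refine (ConcreteCategory.bijective_of_isIso (Scheme.ΓSpecIso (CommRingCat.of (H ⊗[k] H))).hom).1 ?_
      rw [spMap_mul, map_mul, map_mul, hs, hs]
      rw [← hCκ]
      exact (hwκ _ _).trans (hs (CocycleSplit.P₁ * CocycleSplit.P₂)).symm
    intro T n m
    obtain ⟨g, hn, hm⟩ := exists_univ_pair n m
    rw [← hn, ← hm, ← MonObj.comp_mul, ← hlnat, ← hlnat, ← hlnat, ← hcnat, ← map_mul, ← map_mul, huniv]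
  choose Bn hBn hBnx using fun (T : Over (Spec (CommRingCat.of k))) (n : T ⟶ sp k H) =>
    exists_smul_pts (hlu T n) (hB0x T n)
  refine ⟨fun {T} n => Bn T n, fun {T} n => hBnx T n, fun {T T'} g n => ?_, fun {T} n m => ?_⟩
  · show (Bn T' (g ≫ n)).1.hom ≫ bcLift A L g = bcLift A L g ≫ (Bn T n).1.hom
    rw [hBn, hBn, Category.assoc, show (B0 T' (g ≫ n)).1.hom ≫ bcLift A L g = _ from hB0nat g n, ← hlnat g n,
      ← Category.assoc, bsc_bc, Category.assoc]
  · refine pts_ext ?_
    show (Bn T m).1.hom ≫ (Bn T n).1.hom = (Bn T (n * m)).1.hom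
    rw [hBn, hBn, hBn, Category.assoc, ← Category.assoc (B0 T m).1.hom, ← bsc_comm, Category.assoc,
      show (B0 T m).1.hom ≫ (B0 T n).1.hom = _ from hcf T n m, ← Category.assoc, bsc_mul, ← Category.assoc, bsc_mul,
      ← hmain]
    congr 2
    ring

end Groth.Agent.AVTheta

end
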