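import Groth.Agent.AVTheta.Pull
import Groth.Agent.AVTheta.Desc
import Groth.Agent.IsogLib.Kernel
import Groth.Agent.GrpSchLib.ImageFlat
import Groth.Agent.FpqcDescLib.Group
import Groth.Agent.AVRosati.Factor

/-!
Points of `K(M)` and orthogonality to the kernel of a surjective homomorphism.
-/

noncomputable section

set_option autoImplicit false
set_option linter.style.haveILetI false
set_option linter.unusedSectionVars false
set_option backward.isDefEq.respectTransparency false
set_option backward.isDefEq.respectTransparency.types false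
set_option maxHeartbeats 1000000
set_option synthInstance.maxHeartbeats 400000

universe u

open CategoryTheory CategoryTheory.Limits AlgebraicGeometry MonoidalCategory CartesianMonoidalCategory TopologicalSpace
  Pseudofunctor Bicategory
open scoped MonObj Groth.Agent.H23.PicMul

namespace Groth.Agent.AVTheta

open ThetaGrp

section general

variable {S : Scheme.{u}} {A B : Over S} [GrpObj A] [GrpObj B] (f : A ⟶ B) [IsMonHom f] (M : B.left.Modules)

theorem exists_mapObj (T : Over S) :
    ∃ F : thetaObj A ((Scheme.Modules.pullback f.left).obj M) T ⟶ thetaObj B M T, IsCart F ∧ F.base = (f ▷ T).left ∧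
      F ≫ projObj B M T = projObj A _ T ≫ mkHom f.left (𝟙 _) := by
  have hb : (f ▷ T).left ≫ (projObj B M T).base =
      (projObj A ((Scheme.Modules.pullback f.left).obj M) T ≫ mkHom f.left (𝟙 _)).base := by
    rw [CoGrothendieck.categoryStruct_comp_base]
    show (f ▷ T).left ≫ (fst B T).left = (fst A T).left ≫ f.left
    rw [← Over.comp_left, ← Over.comp_left, whiskerRight_fst]
  obtain ⟨F, ⟨hFb, hF⟩, -⟩ := existsUnique_lift (isCart_projObj B M T)
    (projObj A ((Scheme.Modules.pullback f.left).obj M) T ≫ mkHom f.left (𝟙 _)) _ hb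
  exact ⟨F, isCart_of_comp (isCart_projObj B M T)
    (by rw [hF]; exact isCart_comp (isCart_projObj _ _ T) (isCart_mkHom _ _)), hFb, hF⟩

theorem mapObj_natural {T T' : Over S} (g : T' ⟶ T)
    {F : thetaObj A ((Scheme.Modules.pullback f.left).obj M) T ⟶ thetaObj B M T}
    {F' : thetaObj A ((Scheme.Modules.pullback f.left).obj M) T' ⟶ thetaObj B M T'}
    (hb : F.base = (f ▷ T).left) (hF : F ≫ projObj B M T = projObj A _ T ≫ mkHom f.left (𝟙 _))
    (hb' : F'.base = (f ▷ T').left) (hF' : F' ≫ projObj B M T' = projObj A _ T' ≫ mkHom f.left (𝟙 _)) :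
    bcLift A _ g ≫ F = F' ≫ bcLift B M g := by
  refine cancel_cart (isCart_projObj B M T) ?_ ?_
  · rw [CoGrothendieck.categoryStruct_comp_base, CoGrothendieck.categoryStruct_comp_base, hb, hb']
    show (A ◁ g).left ≫ (f ▷ T).left = (f ▷ T').left ≫ (B ◁ g).left
    rw [← Over.comp_left, ← Over.comp_left, MonoidalCategory.whisker_exchange]
  · rw [Category.assoc, hF, ← Category.assoc, bcLift_proj, Category.assoc, bcLift_proj, hF']

end general

variable {k : Type u} [Field k]

/-- factoring through a closed immersion is local -/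
theorem exists_factor_local {A K T : Over (Spec (CommRingCat.of k))} (i : K ⟶ A) [IsClosedImmersion i.left]
    (x : T ⟶ A) (h : ∀ t : T.left, ∃ U : T.left.Opens, t ∈ U ∧ ∃ y : ovOpen T U ⟶ K, y ≫ i = ovIncl T U ≫ x) :
    ∃ y : T ⟶ K, y ≫ i = x := by
  choose U hU y hy using h
  let 𝒰 : T.left.OpenCover := T.left.openCoverOfIsOpenCover U
    (IsOpenCover.mk (Opens.ext (Set.eq_univ_of_forall fun t => Opens.mem_iSup.2 ⟨t, hU t⟩)))
  have hf : ∀ t, (y t).left ≫ i.left = 𝒰.f t ≫ x.left := fun t => congrArg CommaMorphism.left (hy t)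
  let l := 𝒰.glueMorphisms (fun t => (y t).left) fun a b => by
    rw [← cancel_mono i.left, Category.assoc, Category.assoc, hf, hf, pullback.condition_assoc]
  have hl : l ≫ i.left = x.left := 𝒰.hom_ext _ _ fun t => by
    rw [← Category.assoc, 𝒰.ι_glueMorphisms, hf]
  exact ⟨Over.homMk l (by rw [← Over.w i, ← Category.assoc, hl, Over.w]), Over.OverMorphism.ext hl⟩

variable {A B : Over (Spec (CommRingCat.of k))} [GrpObj A] [IsCommMonObj A] [IsProper A.hom]
  [GeometricallyIntegral A.hom] [GrpObj B] [IsCommMonObj B] [IsProper B.hom] [GeometricallyIntegral B.hom]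
  (f : A ⟶ B) [IsMonHom f] {M : B.left.Modules}

theorem covers_of_surjective [Surjective f.left] : FpqcDescLib.Covers f.left := by
  haveI : IsIntegral B.left := H23.MaxAbelian.isIntegral_of_geometricallyIntegral
  haveI : IsSchemeTheoreticallyDominant f.left := IsSchemeTheoreticallyDominant.of_isDominant _
  haveI : Flat f.left := (GrpSchLib.ImageFlat.flat_surjective_of_dominant f).1
  haveI : IsProper (f.left ≫ B.hom) := by rw [Over.w]; infer_instance
  haveI : IsProper f.left := IsProper.of_comp _ B.hom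
  exact FpqcDescLib.covers_of_isCovering (FpqcDescLib.isCovering_of_quasiCompact f.left)

/-- points over `K(M)` lie over `K(f^*M)` -/
theorem mumford_pull_local (hM : PicF.IsInvertible M) {T : Over (Spec (CommRingCat.of k))} (x : T ⟶ A)
    (hx : IsMumfordTriv B M (x ≫ f)) (t : T.left) :
    ∃ U : T.left.Opens, t ∈ U ∧ IsMumfordTriv A ((Scheme.Modules.pullback f.left).obj M) (ovIncl T U ≫ x) := by
  obtain ⟨U, ht, β, hβ⟩ := exists_local_pts hM (x ≫ f) hx t
  obtain ⟨F, hF, hFb, -⟩ := exists_mapObj f M (ovOpen T U)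
  obtain ⟨θ, hθ, -⟩ := exists_pull_pts f hF hFb (ovIncl T U ≫ x) β (by simpa using hβ)
  exact ⟨U, ht, mumford_of_pts (PicClLib.isInvertible_pullback f.left hM) hθ⟩

/-- points over `K(M)` are orthogonal to the kernel -/
theorem isPerpPt_of_mumford (hM : PicF.IsInvertible M) {N : Over (Spec (CommRingCat.of k))} (i : N ⟶ A)
    (hif : i ≫ f = 1) {T : Over (Spec (CommRingCat.of k))} (x : T ⟶ A) (hx : IsMumfordTriv B M (x ≫ f))
    {K : Over (Spec (CommRingCat.of k))} {iK : K ⟶ B} (hK : IsKL B M iK) :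
    IsPerpPt ((Scheme.Modules.pullback f.left).obj M) i x := by
  intro T' g n α₁ α₂ h₁ h₂
  have hL := PicClLib.isInvertible_pullback f.left hM
  obtain ⟨c, hc, -⟩ := existsUnique_comm hL α₁ α₂
  refine (isComm_one_iff _ _).1 ?_
  suffices hc1 : c = 1 by rwa [hc1] at hc
  obtain ⟨y₀, hy₀⟩ := (hK.univ T _).1 hx
  have hmum : IsMumfordTriv B M ((g ≫ x) ≫ f) := (hK.univ T' _).2 ⟨g ≫ y₀, by simp only [Category.assoc, hy₀]⟩
  refine eq_of_local fun t => ?_
  obtain ⟨U, ht, β, hβ⟩ := exists_local_pts hM _ hmum t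
  refine ⟨U, ht, ?_⟩
  obtain ⟨ζ₁, hζ₁, -⟩ := existsUnique_bc (ovIncl T' U) α₁
  obtain ⟨ζ₂, hζ₂, -⟩ := existsUnique_bc (ovIncl T' U) α₂
  obtain ⟨F, hF, hFb, -⟩ := exists_mapObj f M (ovOpen T' U)
  obtain ⟨θ₁, hθ₁, hθ₁'⟩ := exists_pull_pts f hF hFb (ovIncl T' U ≫ g ≫ x) β (by simpa using hβ)
  obtain ⟨θ₂, hθ₂, hθ₂'⟩ := exists_pull_pts f hF hFb (ovIncl T' U ≫ n ≫ i) 1 (by
    simpa [hif] using (isOverPt_one (A := B) (L := M) (T := ovOpen T' U)))
  have hb : (θ₁ * θ₂).1.hom.base = (θ₂ * θ₁).1.hom.base :=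
    (isOverPt_mul hθ₁ hθ₂).trans (by rw [mul_comm]; exact (isOverPt_mul hθ₂ hθ₁).symm)
  have h := comm_eq_of_same_pts hL hθ₁ hθ₂ (isOverPt_bc hζ₁ h₁) (isOverPt_bc hζ₂ h₂)
    (isComm_pull f hF hFb hb hθ₁' hθ₂' ((isComm_one_iff β 1).2 (by rw [_root_.mul_one, _root_.one_mul])))
    (isComm_bc hζ₁ hζ₂ hc)
  exact h.symm.trans (map_one _).symm

/-- a point of the theta group of `f^*M` orthogonal to the kernel lies over `K(M)` -/
theorem mumford_of_isPerpPt [Surjective f.left] (hM : PicF.IsInvertible M) {N : Over (Spec (CommRingCat.of k))}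
    {i : N ⟶ A} (hN : AlgGrp.IsKernel i f) {T : Over (Spec (CommRingCat.of k))} {x : T ⟶ A}
    {β : thetaPts A ((Scheme.Modules.pullback f.left).obj M) T} (hβ : IsOverPt β x)
    (hperp : IsPerpPt ((Scheme.Modules.pullback f.left).obj M) i x) : IsMumfordTriv B M (x ≫ f) := by
  let L := (Scheme.Modules.pullback f.left).obj M
  obtain ⟨F, hF, hFb, hFp⟩ := exists_mapObj f M T
  let z := x ≫ f
  let Q' := (Scheme.Modules.pullback (transl B z).left).obj ((Scheme.Modules.pullback (fst B T).left).obj M)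
  let t₀ : (⟨(B ⊗ T).left, Q'⟩ : SM.{u}) ⟶ thetaObj B M T := mkHom (transl B z).left (𝟙 Q')
  have ht₀ : IsCart t₀ := isCart_mkHom _ _
  obtain ⟨q, ⟨hqb, hq⟩, -⟩ := existsUnique_lift ht₀ (β.1.hom ≫ F) (f ▷ T).left (by
    rw [CoGrothendieck.categoryStruct_comp_base, hFb, show β.1.hom.base = _ from hβ]
    show (f ▷ T).left ≫ (transl B z).left = (transl A x).left ≫ (f ▷ T).left
    rw [← Over.comp_left, ← Over.comp_left, transl_whiskerRight])
  have hqc : IsCart q := isCart_of_comp ht₀ (by rw [hq]; exact isCart_comp (isCart_pts β) hF)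
  obtain ⟨e⟩ : Nonempty ((Scheme.Modules.pullback (fst B T).left).obj M ≅ Q') := by
    refine nonempty_iso_of_desc (FpqcDescLib.covers_whiskerRight (covers_of_surjective f) T)
      (PicClLib.isInvertible_pullback _ hM)
      (PicClLib.isInvertible_pullback _ (PicClLib.isInvertible_pullback _ hM)) F q hF hqc hFb hqb fun R a b hab => ?_
    let Ro : Over (Spec (CommRingCat.of k)) := Over.mk (a ≫ (A ⊗ T).hom)
    let a' : Ro ⟶ A ⊗ T := Over.homMk a rfl
    let b' : Ro ⟶ A ⊗ T := Over.homMk b (by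
      show b ≫ (A ⊗ T).hom = a ≫ (A ⊗ T).hom
      rw [← Over.w (f ▷ T), ← Category.assoc, ← hab, Category.assoc])
    have hab' : a' ≫ (f ▷ T) = b' ≫ (f ▷ T) := Over.OverMorphism.ext hab
    have hr : b' ≫ snd A T = a' ≫ snd A T := by
      have h := congrArg (· ≫ snd B T) hab'
      simpa using h.symm
    have hf12 : (a' ≫ fst A T) ≫ f = (b' ≫ fst A T) ≫ f := by
      have h := congrArg (· ≫ fst B T) hab'
      simpa using h
    obtain ⟨n, hn⟩ := IsogLib.exists_kernel_lift f hN ((a' ≫ fst A T)⁻¹ * (b' ≫ fst A T)) (by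
      rw [MonObj.mul_comp, GrpObj.inv_comp, hf12, inv_mul_cancel])
    let r : Ro ⟶ T := a' ≫ snd A T
    let σ : Ro ⟶ A ⊗ Ro := lift (a' ≫ fst A T) (𝟙 Ro)
    obtain ⟨FR, hFR, hFRb, hFRp⟩ := exists_mapObj f M Ro
    obtain ⟨Bn, hBn, hBn'⟩ := exists_pull_pts f hFR hFRb (n ≫ i) 1 (by
      rw [Category.assoc, IsogLib.kernel_comp f hN, MonObj.comp_one]
      exact isOverPt_one)
    rw [show (1 : thetaPts B M Ro).1.hom = 𝟙 _ from rfl, Category.comp_id] at hBn'
    obtain ⟨βR, hβR, -⟩ := existsUnique_bc r β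
    have hcomm : Bn.1.hom ≫ βR.1.hom = βR.1.hom ≫ Bn.1.hom :=
      congrArg (fun (bb : thetaPts A L Ro) => bb.1.hom) (hperp Ro r n βR Bn (isOverPt_bc hβR hβ) hBn)
    let s : (⟨R, (Scheme.Modules.pullback σ.left).obj ((Scheme.Modules.pullback (fst A Ro).left).obj L)⟩ : SM.{u}) ⟶
        thetaObj A L Ro := mkHom σ.left (𝟙 _)
    have hs : IsCart s := isCart_mkHom _ _
    have hnat : bcLift A L r ≫ F = FR ≫ bcLift B M r := mapObj_natural f M r hFb hFp hFRb hFRp
    have hB : Bn.1.hom ≫ bcLift A L r ≫ F = bcLift A L r ≫ F := by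
      rw [hnat, reassoc_of% hBn']
    refine ⟨_, s ≫ bcLift A L r, s ≫ Bn.1.hom ≫ bcLift A L r, isCart_comp hs (isCart_bcLift r),
      isCart_comp hs (isCart_comp (isCart_pts Bn) (isCart_bcLift r)), ?_, ?_, ?_, ?_⟩
    · rw [CoGrothendieck.categoryStruct_comp_base]
      show σ.left ≫ (A ◁ r).left = a
      rw [← Over.comp_left]
      exact congrArg CommaMorphism.left (show σ ≫ (A ◁ r) = a' by
        apply CartesianMonoidalCategory.hom_ext <;> simp [σ, r])
    · rw [CoGrothendieck.categoryStruct_comp_base, CoGrothendieck.categoryStruct_comp_base,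
        show Bn.1.hom.base = _ from hBn]
      show σ.left ≫ (transl A (n ≫ i)).left ≫ (A ◁ r).left = b
      rw [← Over.comp_left, ← Over.comp_left]
      refine congrArg CommaMorphism.left (show σ ≫ transl A (n ≫ i) ≫ (A ◁ r) = b' from ?_)
      apply CartesianMonoidalCategory.hom_ext
      · simp [σ, transl, MonObj.comp_mul, hn]
      · simp [σ, r, transl, hr]
    · rw [Category.assoc, Category.assoc, Category.assoc, hB]
    · refine cancel_cart ht₀ ?_ ?_
      · rw [CoGrothendieck.categoryStruct_comp_base, CoGrothendieck.categoryStruct_comp_base _ q, hqb]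
        have h := congrArg CoGrothendieck.Hom.base (show (s ≫ bcLift A L r) ≫ F = (s ≫ Bn.1.hom ≫ bcLift A L r) ≫ F by
          rw [Category.assoc, Category.assoc, Category.assoc, hB])
        rwa [CoGrothendieck.categoryStruct_comp_base, CoGrothendieck.categoryStruct_comp_base _ F, hFb] at h
      · simp only [Category.assoc, hq]
        rw [← reassoc_of% (show βR.1.hom ≫ bcLift A L r = _ from hβR), reassoc_of% hcomm, hB]
  obtain ⟨ζ, -, hζ⟩ := exists_pts_of_cart z (mkHom (transl B z).left e.hom) (isCart_mkHom _ _) rfl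
  exact mumford_of_pts hM hζ

end Groth.Agent.AVTheta

end
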