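import Groth.Agent.RepLocal.Glue

/-!
Representability is local on a basis of affine opens of the base.
-/

set_option autoImplicit false
set_option linter.style.haveILetI false
set_option backward.isDefEq.respectTransparency false
set_option backward.isDefEq.respectTransparency.types false
set_option backward.defeqAttrib.useBackward true

universe u

open CategoryTheory CategoryTheory.Limits AlgebraicGeometry TopologicalSpace Opposite

namespace Groth.Agent.AVTheta.RepBasis

open Groth.Agent.RepLocal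

noncomputable section

variable {S : Scheme.{u}} (P : S.affineOpens → Prop) (hmono : ∀ {U V : S.affineOpens}, U ≤ V → P V → P U)
  (hP : ∀ x : S, ∃ U : S.affineOpens, P U ∧ x ∈ U.1)

/-- The small affine opens. -/
abbrev Idx : Type u := {U : S.affineOpens // P U}

include hmono hP in
theorem exists_small {O : S.Opens} {x : S} (hx : x ∈ O) : ∃ W : Idx P, x ∈ W.1.1 ∧ W.1.1 ≤ O := by
  obtain ⟨U, hU, hxU⟩ := hP x
  obtain ⟨W, hW, hxW, hle⟩ := exists_isAffineOpen_mem_and_subset (show x ∈ O ⊓ U.1 from ⟨hx, hxU⟩)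
  exact ⟨⟨⟨W, hW⟩, hmono (show (⟨W, hW⟩ : S.affineOpens) ≤ U from fun y hy => (hle hy).2) hU⟩, hxW,
    fun y hy => (hle hy).1⟩

/-- The cover by the small affine opens. -/
@[simps I₀ X f]
def basisCover : S.OpenCover where
  I₀ := Idx P
  X W := W.1.1.toScheme
  f W := W.1.1.ι
  mem₀ := by
    rw [Scheme.presieve₀_mem_precoverage_iff]
    refine ⟨fun x => ?_, inferInstance⟩
    obtain ⟨W, hW, -⟩ := exists_small P hmono hP (O := ⊤) (x := x) trivial
    exact ⟨W, ⟨⟨x, hW⟩, rfl⟩⟩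

instance : Preorder (basisCover P hmono hP).I₀ := inferInstanceAs (Preorder (Idx P))

instance : (basisCover P hmono hP).LocallyDirected :=
  .ofIsBasisOpensRange (by intros; simp) <| by
    refine Opens.isBasis_iff_nbhd.2 fun {O x} hx => ?_
    obtain ⟨W, hW, hle⟩ := exists_small P hmono hP hx
    exact ⟨W.1.1, ⟨W, by simp⟩, hW, hle⟩

instance : Quiver.IsThin (basisCover P hmono hP).I₀ := fun _ _ => inferInstanceAs (Subsingleton (_ ⟶ _))

instance : Small.{u} (basisCover P hmono hP).I₀ := inferInstanceAs (Small.{u} (Idx P))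

variable {F : (Over S)ᵒᵖ ⥤ Type u}

/-- Representability is local on the base. -/
theorem exists_univ_small (hF : IsLocal F)
    (Q : Over S → Prop) (chart : ∀ U : Idx P, ∃ (M : Over S) (ξ : F.obj (op M)), Q M ∧ IsUniv F U.1.1 M ξ)
    (hmono : ∀ {U V : S.affineOpens}, U ≤ V → P V → P U) (hP : ∀ x : S, ∃ U : S.affineOpens, P U ∧ x ∈ U.1) :
    ∃ (M : Over S) (ξ : F.obj (op M)), (∀ (T : Over S) (φ : F.obj (op T)), ∃! v : T ⟶ M, res F v ξ = φ) ∧
      ∀ U : Idx P, ∃ (M' : Over S) (e : M' ⟶ M), Q M' ∧ IsOpenImmersion e.left ∧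
        Set.range e.left = (M.hom ⁻¹ᵁ U.1.1 : Set M.left) := by
  choose M ξ hQ h using chart
  have hc : ∀ {U V : Idx P}, U ≤ V → ∃ c : M U ⟶ M V, res F c (ξ V) = ξ U := fun {U V} hle =>
    ((h V).2 (M U) ((h U).1.mono hle) (ξ U)).exists
  choose c hc using @hc
  have hc_id : ∀ U, c (le_refl U) = 𝟙 (M U) := fun U => (h U).unique (h U).1 (by rw [hc, res_id])
  have hc_comp : ∀ {U V W : Idx P} (a : U ≤ V) (b : V ≤ W), c (a.trans b) = c a ≫ c b :=
    fun {U V W} a b => (h W).unique ((h U).1.mono (a.trans b)) (by rw [hc, ← res_comp, hc, hc])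
  have hg : ∀ U : Idx P, Set.range (M U).hom ⊆ Set.range U.1.1.ι := fun U => by
    rintro _ ⟨x, rfl⟩
    rw [Scheme.Opens.range_ι]
    exact (h U).1 x
  let g : ∀ U : Idx P, (M U).left ⟶ U.1.1 := fun U => IsOpenImmersion.lift U.1.1.ι (M U).hom (hg U)
  have hgι : ∀ U, g U ≫ U.1.1.ι = (M U).hom := fun U => IsOpenImmersion.lift_fac _ _ _
  let Fn : (basisCover P hmono hP).I₀ ⥤ Scheme.{u} :=
    { obj := fun U => (M U).left
      map := fun {U V} f => (c (leOfHom f)).left
      map_id := fun U => congrArg CommaMorphism.left (hc_id U)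
      map_comp := fun f f' => congrArg CommaMorphism.left (hc_comp (leOfHom f) (leOfHom f')) }
  have hnat : ∀ {U V : Idx P} (hle : U ≤ V),
      (c hle).left ≫ g V = g U ≫ S.homOfLE hle := fun {U V} hle => by
    rw [← cancel_mono V.1.1.ι, Category.assoc, Category.assoc, hgι, Scheme.homOfLE_ι, hgι]
    exact Over.w (c hle)
  let ν : Fn ⟶ (basisCover P hmono hP).functorOfLocallyDirected :=
    { app := fun U => g U
      naturality := fun U V f => hnat (leOfHom f) }
  have hequi : ν.Equifibered := by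
    intro U V f
    have P := IsUniv.isPullback (leOfHom f : U.1.1 ≤ V.1.1) (h V) (h U) (c (leOfHom f)) (hc _) (g U) (hgι U)
    refine isPullback_of_mono V.1.1.ι (hnat (leOfHom f)) ?_
    rw [hgι]
    show IsPullback (c (leOfHom f)).left (g U) (M V).hom (S.homOfLE (leOfHom f : U.1.1 ≤ V.1.1) ≫ V.1.1.ι)
    rw [Scheme.homOfLE_ι]
    exact P.flip
  let d : Scheme.Cover.RelativeGluingData (basisCover P hmono hP) := ⟨Fn, ν, hequi⟩
  haveI : Quiver.IsThin (basisCover P hmono hP).I₀ := fun a b => ⟨fun f f' => Subsingleton.elim f f'⟩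
  haveI : (d.functor ⋙ Scheme.forget).IsLocallyDirected :=
    Scheme.Cover.RelativeGluingData.instIsLocallyDirectedI₀CompFunctorForgetOfIsThin ..
  haveI hopm : ∀ {i j : (basisCover P hmono hP).I₀} (f : i ⟶ j), IsOpenImmersion (d.functor.map f) := fun {i j} f => by
    apply MorphismProperty.of_isPullback (d.equifibered f).flip
    infer_instance
  haveI : HasColimit d.functor := Scheme.IsLocallyDirected.instHasColimit d.functor
  let G : Over S := Over.mk d.toBase
  let ι : ∀ U : Idx P, M U ⟶ G := fun U => Over.homMk (colimit.ι d.functor U) (by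
    show colimit.ι d.functor U ≫ d.toBase = (M U).hom
    rw [d.ι_toBase]
    exact hgι U)
  have hιc : ∀ {U V : Idx P} (hle : U ≤ V), c hle ≫ ι V = ι U := fun {U V} hle =>
    Over.OverMorphism.ext (colimit.w d.functor (homOfLE hle))
  have hrange : ∀ U : Idx P, (G.hom ⁻¹ᵁ U.1.1 : Set G.left) = Set.range (colimit.ι d.functor U) := fun U => by
    rw [← d.preimage_toBase_eq_range_ι U]
    show d.toBase ⁻¹' (U.1.1 : Set S) = d.toBase ⁻¹' Set.range U.1.1.ι
    rw [Scheme.Opens.range_ι]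
  haveI hιopen : ∀ U : Idx P, IsOpenImmersion (colimit.ι d.functor U) := fun U =>
    inferInstanceAs (IsOpenImmersion (d.cover.f U))
  have hlift : ∀ (T : Over S) (U : Idx P) (a : T ⟶ G), InU U.1.1 T → ∃ b : T ⟶ M U, b ≫ ι U = a := by
    intro T U a hT
    have hr : Set.range a.left ⊆ Set.range (colimit.ι d.functor U) := by
      rintro _ ⟨x, rfl⟩
      rw [← hrange U]
      show G.hom (a.left x) ∈ U.1.1
      rw [← Scheme.Hom.comp_apply, Over.w a]
      exact hT x
    refine ⟨Over.homMk (IsOpenImmersion.lift (colimit.ι d.functor U) a.left hr) ?_,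
      Over.OverMorphism.ext (IsOpenImmersion.lift_fac _ _ _)⟩
    rw [← Over.w (ι U)]
    show IsOpenImmersion.lift _ a.left hr ≫ colimit.ι d.functor U ≫ G.hom = _
    rw [IsOpenImmersion.lift_fac_assoc]
    exact Over.w a
  have hιmono : ∀ (U : Idx P) {T : Over S} {a b : T ⟶ M U}, a ≫ ι U = b ≫ ι U → a = b := by
    intro U T a b e
    refine Over.OverMorphism.ext ?_
    rw [← cancel_mono (colimit.ι d.functor U)]
    exact congrArg CommaMorphism.left e
  have hcov : ∀ x : S, ∃ U : Idx P, x ∈ U.1.1 := fun x => by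
    obtain ⟨U, hxU, -⟩ := exists_small P hmono hP (O := ⊤) (x := x) trivial
    exact ⟨U, hxU⟩
  choose j hj using fun U : Idx P =>
    hlift (opOver G (G.hom ⁻¹ᵁ U.1.1)) U (opIncl G _) (inU_preimage U.1.1 G)
  obtain ⟨Ξ, hΞ⟩ := hF.glue G (fun U : Idx P => G.hom ⁻¹ᵁ U.1.1) (fun x => hcov _)
    (fun U => res F (j U) (ξ U)) (fun U V => by
      let W₀ := G.hom ⁻¹ᵁ U.1.1 ⊓ G.hom ⁻¹ᵁ V.1.1
      refine hF.ext _ (fun W : {W : Idx P // W ≤ U ∧ W ≤ V} => (opOver G W₀).hom ⁻¹ᵁ W.1.1.1)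
        (fun x => ?_) _ _ fun W => ?_
      · obtain ⟨W, hxW, hle⟩ := exists_small P hmono hP
          (show (opOver G W₀).hom x ∈ U.1.1 ⊓ V.1.1 from by
            show (W₀.ι ≫ G.hom) x ∈ U.1.1 ⊓ V.1.1
            rw [Scheme.Hom.comp_apply]
            exact x.2)
        exact ⟨⟨W, fun y hy => (hle hy).1, fun y hy => (hle hy).2⟩, hxW⟩
      · let T := opOver (opOver G W₀) ((opOver G W₀).hom ⁻¹ᵁ W.1.1.1)
        obtain ⟨b, hb⟩ := hlift T W.1 (opIncl _ _ ≫ opIncl G W₀) (inU_preimage W.1.1.1 _)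
        have key : ∀ (X : Idx P) (le : W.1 ≤ X) (w : W₀ ≤ G.hom ⁻¹ᵁ X.1),
            res F (opIncl _ ((opOver G W₀).hom ⁻¹ᵁ W.1.1.1)) (res F (opMap G w) (res F (j X) (ξ X))) =
              res F b (ξ W.1) := by
          intro X le w
          rw [res_comp, res_comp, ← hc le, res_comp]
          congr 1
          apply hιmono X
          rw [Category.assoc, Category.assoc, hj, opMap_incl, Category.assoc, hιc, hb]
        rw [key U W.2.1 inf_le_left, key V W.2.2 inf_le_right])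
  have hres : ∀ U : Idx P, res F (ι U) Ξ = ξ U := by
    intro U
    obtain ⟨b, hb⟩ : ∃ b : M U ⟶ opOver G (G.hom ⁻¹ᵁ U.1.1), b ≫ opIncl G _ = ι U := by
      have hr : Set.range (ι U).left ⊆ Set.range (G.hom ⁻¹ᵁ U.1.1).ι := by
        rw [Scheme.Opens.range_ι, hrange]
        exact subset_rfl
      refine ⟨Over.homMk (IsOpenImmersion.lift _ (ι U).left hr) ?_, Over.OverMorphism.ext (IsOpenImmersion.lift_fac _ _ _)⟩
      show IsOpenImmersion.lift _ (ι U).left hr ≫ (G.hom ⁻¹ᵁ U.1.1).ι ≫ G.hom = _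
      rw [IsOpenImmersion.lift_fac_assoc]
      exact Over.w (ι U)
    have hbj : b ≫ j U = 𝟙 _ := hιmono U (by rw [Category.assoc, hj, hb, Category.id_comp])
    rw [← hb, ← res_comp, hΞ U, res_comp, hbj, res_id]
  have inj : ∀ (T : Over S) (a b : T ⟶ G), res F a Ξ = res F b Ξ → a = b := by
    intro T a b e
    refine hom_ext_opens (fun U : Idx P => T.hom ⁻¹ᵁ U.1.1) (fun x => hcov _) fun U => ?_
    obtain ⟨a', ha⟩ := hlift _ U (opIncl T (T.hom ⁻¹ᵁ U.1.1) ≫ a) (inU_preimage U.1.1 T)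
    obtain ⟨b', hb⟩ := hlift _ U (opIncl T (T.hom ⁻¹ᵁ U.1.1) ≫ b) (inU_preimage U.1.1 T)
    rw [← ha, ← hb]
    congr 1
    refine (h U).unique (inU_preimage U.1.1 T) ?_
    rw [← hres U, res_comp, res_comp, ha, hb, ← res_comp, e, res_comp]
  refine ⟨G, Ξ, fun T φ => ?_, fun U => ⟨M U, ι U, hQ U, hιopen U, (hrange U).symm⟩⟩
  choose v hv using fun U : Idx P =>
    ((h U).2 _ (inU_preimage U.1.1 T) (res F (opIncl T (T.hom ⁻¹ᵁ U.1.1)) φ)).exists
  obtain ⟨w, hw⟩ := exists_glue_hom (fun U : Idx P => T.hom ⁻¹ᵁ U.1.1) (fun x => hcov _)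
    (fun U => v U ≫ ι U) (fun U V => inj _ _ _ (by
      rw [← res_comp, ← res_comp, ← res_comp, ← res_comp, hres, hres, hv U, hv V, res_comp, res_comp,
        opMap_incl, opMap_incl]))
  have hwφ : res F w Ξ = φ :=
    hF.ext T (fun U : Idx P => T.hom ⁻¹ᵁ U.1.1) (fun x => hcov _) _ _ fun U => by
      rw [res_comp, hw U, ← res_comp, hres, hv U]
  exact ⟨w, hwφ, fun w' hw' => inj T _ _ (hw'.trans hwφ.symm)⟩


end

end Groth.Agent.AVTheta.RepBasis
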