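import Groth.Agent.AVTheta.GlueCart
import Groth.Agent.AVTheta.RepBasis
import Groth.Agent.AVTheta.KLExist
import Groth.Agent.AVTheta.Pull
import Mathlib.AlgebraicGeometry.AffineSpace

/-!
The theta group is representable.
-/

noncomputable section

set_option autoImplicit false
set_option linter.style.haveILetI false
set_option linter.unusedSectionVars false
set_option backward.isDefEq.respectTransparency false
set_option backward.isDefEq.respectTransparency.types false
set_option maxHeartbeats 1000000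
set_option synthInstance.maxHeartbeats 400000

universe u

open CategoryTheory CategoryTheory.Limits AlgebraicGeometry MonoidalCategory CartesianMonoidalCategory TopologicalSpace
  Opposite Pseudofunctor Bicategory
open scoped MonObj Groth.Agent.H23.PicMul

namespace Groth.Agent.AVTheta.GrpSch

open ThetaGrp Groth.Agent.AModX

section general

variable {S : Scheme.{u}} {A : Over S} [GrpObj A] {L : A.left.Modules}

theorem bcLift_id (T : Over S) : bcLift A L (𝟙 T) = 𝟙 _ := by
  refine cancel_cart (isCart_projObj A L T) ?_ ?_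
  · show (A ◁ 𝟙 T).left = (𝟙 (A ⊗ T) : A ⊗ T ⟶ A ⊗ T).left
    rw [MonoidalCategory.whiskerLeft_id]
  · rw [bcLift_proj, Category.id_comp]

theorem isBaseChange_id {T : Over S} (β : thetaPts A L T) : IsBaseChange β (𝟙 T) β := by
  show β.1.hom ≫ bcLift A L (𝟙 T) = bcLift A L (𝟙 T) ≫ β.1.hom
  rw [bcLift_id, Category.comp_id, Category.id_comp]

/-- the base change -/
def bc {T T' : Over S} (g : T' ⟶ T) (β : thetaPts A L T) : thetaPts A L T' := (existsUnique_bc g β).exists.choose

theorem bc_spec {T T' : Over S} (g : T' ⟶ T) (β : thetaPts A L T) : IsBaseChange (bc g β) g β :=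
  (existsUnique_bc g β).exists.choose_spec

theorem bc_eq {T T' : Over S} {g : T' ⟶ T} {β : thetaPts A L T} {β' : thetaPts A L T'} (h : IsBaseChange β' g β) :
    bc g β = β' := (existsUnique_bc g β).unique (bc_spec g β) h

theorem bc_id {T : Over S} (β : thetaPts A L T) : bc (𝟙 T) β = β := bc_eq (isBaseChange_id β)

theorem bc_comp {T T' T'' : Over S} (g : T'' ⟶ T') (g' : T' ⟶ T) (β : thetaPts A L T) :
    bc (g ≫ g') β = bc g (bc g' β) :=
  bc_eq (isBaseChange_comp (bc_spec g' β) (bc_spec g _))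

theorem bc_mul {T T' : Over S} (g : T' ⟶ T) (β ζ : thetaPts A L T) : bc g (β * ζ) = bc g β * bc g ζ :=
  bc_eq (isBaseChange_mul (bc_spec g β) (bc_spec g ζ))

/-- the projection of a change of base is a pullback -/
theorem isPullback_whisker (A : Over S) {T T' : Over S} (g : T' ⟶ T) :
    IsPullback (A ◁ g).left (snd A T').left (snd A T).left g.left := by
  refine IsPullback.of_right (h₁₂ := (fst A T).left) (v₁₃ := A.hom) (h₂₂ := T.hom) ?_ ?_
    (IsPullback.of_hasPullback A.hom T.hom)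
  · rw [← Over.comp_left, whiskerLeft_fst, Over.w g]
    exact IsPullback.of_hasPullback A.hom T'.hom
  · rw [← Over.comp_left, ← Over.comp_left, whiskerLeft_snd]

end general

variable {k : Type u} [Field k] (A : Over (Spec (CommRingCat.of k))) [GrpObj A] [IsProper A.hom]
  [GeometricallyIntegral A.hom] (L : A.left.Modules)

variable {A L}

theorem eq_one_of_local (hL : PicF.IsInvertible L) {T : Over (Spec (CommRingCat.of k))} {β : thetaPts A L T}
    {c : Γ(T.left, ⊤)} (h : ∀ t : T.left, ∃ U : T.left.Opens, t ∈ U ∧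
      ∀ β' : thetaPts A L (ovOpen T U), IsBaseChange β' (ovIncl T U) β →
        bsc A L (U.ι.appTop c) ≫ β'.1.hom = β'.1.hom) : c = 1 := by
  refine eq_of_local fun t => ?_
  obtain ⟨U, htU, hU⟩ := h t
  refine ⟨U, htU, ?_⟩
  rw [map_one]
  refine bsc_injective (A := A) (T := ovOpen T U) hL ?_
  rw [show (1 : Γ(U.toScheme, ⊤)) = (1 : Γ((ovOpen T U).left, ⊤)) from rfl, bsc_one,
    ← cancel_mono (bc (ovIncl T U) β).1.hom, Category.id_comp]
  exact hU _ (bc_spec _ β)

/-- points are determined locally -/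
theorem pts_ext_local (hL : PicF.IsInvertible L) {T : Over (Spec (CommRingCat.of k))} (β ζ : thetaPts A L T)
    {κ : Type u} (U : κ → T.left.Opens) (hU : ∀ t, ∃ i, t ∈ U i)
    (h : ∀ i, bc (ovIncl T (U i)) β = bc (ovIncl T (U i)) ζ) : β = ζ := by
  obtain ⟨x, hx⟩ := exists_pt β
  obtain ⟨y, hy⟩ := exists_pt ζ
  have hxy : x = y := by
    refine Over.OverMorphism.ext (Scheme.Cover.hom_ext (T.left.openCoverOfIsOpenCover U ?_) _ _ fun i => ?_)
    · rw [TopologicalSpace.IsOpenCover, eq_top_iff]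
      exact fun t _ => Opens.mem_iSup.mpr (hU t)
    · exact congrArg CommaMorphism.left (pt_unique (isOverPt_bc (bc_spec (ovIncl T (U i)) β) hx)
        (h i ▸ isOverPt_bc (bc_spec (ovIncl T (U i)) ζ) hy))
  subst hxy
  obtain ⟨c, hc⟩ := exists_scalar hL hx hy
  have hc1 : c = 1 := eq_one_of_local hL (β := β) fun t => by
    obtain ⟨i, hi⟩ := hU t
    refine ⟨U i, hi, fun β' hβ' => ?_⟩
    refine Eq.symm (cancel_cart (isCart_bcLift (ovIncl T (U i))) ?_ ?_)
    · rw [CoGrothendieck.categoryStruct_comp_base, bsc, sc_base, Category.id_comp]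
    · have hζ : IsBaseChange β' (ovIncl T (U i)) ζ := by
        rw [← bc_eq hβ', h i]; exact bc_spec _ _
      have a : β'.1.hom ≫ bcLift A L (ovIncl T (U i)) = bcLift A L (ovIncl T (U i)) ≫ β.1.hom := hβ'
      have b : β'.1.hom ≫ bcLift A L (ovIncl T (U i)) = bcLift A L (ovIncl T (U i)) ≫ ζ.1.hom := hζ
      have e := bsc_bc (A := A) (L := L) (ovIncl T (U i)) c
      calc β'.1.hom ≫ bcLift A L (ovIncl T (U i)) = bcLift A L (ovIncl T (U i)) ≫ bsc A L c ≫ β.1.hom := by rw [b, hc]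
        _ = bsc A L ((ovIncl T (U i)).left.appTop c) ≫ β'.1.hom ≫ bcLift A L (ovIncl T (U i)) := by
          rw [a, reassoc_of% e]
        _ = _ := (Category.assoc _ _ _).symm
  refine pts_ext ?_
  rw [hc, hc1, bsc_one, Category.id_comp]

variable [IsCommMonObj A]

/-- compatible local points glue -/
theorem exists_glue_pts (hL : PicF.IsInvertible L) {T : Over (Spec (CommRingCat.of k))} (x : T ⟶ A) {κ : Type u}
    (U : κ → T.left.Opens) (hU : ∀ t, ∃ i, t ∈ U i) (β : ∀ i, thetaPts A L (ovOpen T (U i)))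
    (hβ : ∀ i, IsOverPt (β i) (ovIncl T (U i) ≫ x))
    (hc : ∀ i j, bc (ovHomOfLE T (inf_le_left : U i ⊓ U j ≤ U i)) (β i) =
      bc (ovHomOfLE T (inf_le_right : U i ⊓ U j ≤ U j)) (β j)) :
    ∃ ψ : thetaPts A L T, IsOverPt ψ x ∧ ∀ i, bc (ovIncl T (U i)) ψ = β i := by
  let P := (thetaObj A L T).fiber
  let Zk : κ → Scheme.{u} := fun i => (A ⊗ ovOpen T (U i)).left
  let π : ∀ i, thetaObj A L (ovOpen T (U i)) ⟶ thetaObj A L T := fun i => bcLift A L (ovIncl T (U i))
  let φ : ∀ i, thetaObj A L (ovOpen T (U i)) ⟶ thetaObj A L T := fun i => (β i).1.hom ≫ π i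
  have hopen : ∀ i, IsOpenImmersion (A ◁ ovIncl T (U i)).left := fun i =>
    MorphismProperty.of_isPullback (P := @IsOpenImmersion) (isPullback_whisker A (ovIncl T (U i))).flip
      (inferInstanceAs (IsOpenImmersion (U i).ι))
  have hP : PicF.IsInvertible (Y := (thetaObj A L T).base) P := isInvertible_obj hL T
  have hcov : ∀ z : ↥(A ⊗ T).left, ∃ i, z ∈ Set.range (show Zk i ⟶ (A ⊗ T).left from (π i).base) := by
    intro z
    obtain ⟨i, hi⟩ := hU ((snd A T).left z)
    obtain ⟨w, hw, -⟩ := Scheme.exists_preimage_of_isPullback (isPullback_whisker A (ovIncl T (U i))) z ⟨_, hi⟩ rfl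
    exact ⟨i, w, hw⟩
  have hb' : ∀ i, (φ i).base = (π i).base ≫ (transl A x).left := by
    intro i
    show ((β i).1.hom ≫ π i).base = _
    rw [CoGrothendieck.categoryStruct_comp_base, show (β i).1.hom.base = _ from hβ i]
    show (transl A (ovIncl T (U i) ≫ x)).left ≫ (A ◁ ovIncl T (U i)).left = (A ◁ ovIncl T (U i)).left ≫ (transl A x).left
    rw [← Over.comp_left, transl_bc, Over.comp_left]
  have hh : ∀ (i j : κ) (R : Scheme.{u}) (M : R.Modules) (ρ₁ : (⟨R, M⟩ : SM.{u}) ⟶ thetaObj A L (ovOpen T (U i)))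
      (ρ₂ : (⟨R, M⟩ : SM.{u}) ⟶ thetaObj A L (ovOpen T (U j))), ρ₁ ≫ π i = ρ₂ ≫ π j → ρ₁ ≫ φ i = ρ₂ ≫ φ j := by
    intro i j R M ρ₁ ρ₂ h
    let O := U i ⊓ U j
    let O' := ovOpen T O
    have hb := congrArg CoGrothendieck.Hom.base h
    rw [CoGrothendieck.categoryStruct_comp_base, CoGrothendieck.categoryStruct_comp_base] at hb
    let p : R ⟶ (A ⊗ T).left := ρ₁.base ≫ (A ◁ ovIncl T (U i)).left
    have hsub : Set.range (p ≫ (snd A T).left) ⊆ Set.range O.ι := by
      rintro _ ⟨r, rfl⟩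
      rw [Scheme.Opens.range_ι]
      have h1 : p ≫ (snd A T).left = ρ₁.base ≫ (snd A (ovOpen T (U i))).left ≫ (U i).ι := by
        show (ρ₁.base ≫ _) ≫ _ = _
        rw [Category.assoc, (isPullback_whisker A (ovIncl T (U i))).w]
        rfl
      have h2 : p ≫ (snd A T).left = ρ₂.base ≫ (snd A (ovOpen T (U j))).left ≫ (U j).ι := by
        show (ρ₁.base ≫ _) ≫ _ = _
        rw [show ρ₁.base ≫ (A ◁ ovIncl T (U i)).left = ρ₂.base ≫ (A ◁ ovIncl T (U j)).left from hb, Category.assoc,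
          (isPullback_whisker A (ovIncl T (U j))).w]
        rfl
      exact ⟨by rw [h1]; exact ((snd A (ovOpen T (U i))).left (ρ₁.base r)).2,
        by rw [h2]; exact ((snd A (ovOpen T (U j))).left (ρ₂.base r)).2⟩
    let t := IsOpenImmersion.lift O.ι (p ≫ (snd A T).left) hsub
    have hp : IsPullback (A ◁ ovIncl T O).left (snd A O').left (snd A T).left O.ι := isPullback_whisker A (ovIncl T O)
    let b : R ⟶ (A ⊗ O').left := hp.lift p t (IsOpenImmersion.lift_fac _ _ _).symm
    obtain ⟨σ, ⟨hσb, hσ⟩, -⟩ := existsUnique_lift (isCart_bcLift (A := A) (L := L) (ovIncl T O)) (ρ₁ ≫ π i) b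
      (by rw [CoGrothendieck.categoryStruct_comp_base]; exact hp.lift_fst _ _ _)
    have key : ∀ (l : κ) (hl : O ≤ U l) (ρ : (⟨R, M⟩ : SM.{u}) ⟶ thetaObj A L (ovOpen T (U l))),
        ρ ≫ π l = ρ₁ ≫ π i → ρ ≫ φ l = σ ≫ (bc (ovHomOfLE T hl) (β l)).1.hom ≫ bcLift A L (ovIncl T O) := by
      intro l hl ρ hρ
      have hρσ : σ ≫ bcLift A L (ovHomOfLE T hl) = ρ := by
        refine cancel_cart (isCart_bcLift (ovIncl T (U l))) ?_ ?_
        · haveI := hopen l
          rw [← cancel_mono (A ◁ ovIncl T (U l)).left]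
          have e1 := congrArg CoGrothendieck.Hom.base
            (show (σ ≫ bcLift A L (ovHomOfLE T hl)) ≫ π l = ρ ≫ π l by
              rw [Category.assoc, bcLift_comp, ovHomOfLE_incl, hσ, hρ])
          exact e1
        · rw [Category.assoc, bcLift_comp, ovHomOfLE_incl, hσ]
          exact hρ.symm
      rw [← hρσ]
      show (σ ≫ _) ≫ (β l).1.hom ≫ bcLift A L (ovIncl T (U l)) = _
      rw [Category.assoc, ← Category.assoc (bcLift A L (ovHomOfLE T hl)),
        ← show (bc (ovHomOfLE T hl) (β l)).1.hom ≫ bcLift A L (ovHomOfLE T hl) = _ from bc_spec _ (β l),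
        Category.assoc, bcLift_comp, ovHomOfLE_incl]
    rw [key i inf_le_left ρ₁ rfl, key j inf_le_right ρ₂ h.symm, hc i j]
  obtain ⟨ψ, hψc, hψb, hψ⟩ := exists_glue_cart (Z := (A ⊗ T).left) (Y := (A ⊗ T).left) (P := P) (Q := P) hP hP
    (transl A x).left (Zk := Zk) (Pk := fun i => (thetaObj A L (ovOpen T (U i))).fiber) π
    (fun i => isCart_bcLift _) hopen hcov φ (fun i => isCart_comp (isCart_pts _) (isCart_bcLift _)) hb' hh
  obtain ⟨ψ', hψ', hψ'x⟩ := exists_pts_of_cart x ψ hψc hψb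
  refine ⟨ψ', hψ'x, fun i => bc_eq ?_⟩
  show (β i).1.hom ≫ π i = π i ≫ ψ'.1.hom
  rw [hψ']
  exact (hψ i).symm

/-- a unit times a point is a point -/
theorem exists_bsc_pts {T : Over (Spec (CommRingCat.of k))} {β : thetaPts A L T} {x : T ⟶ A} (hx : IsOverPt β x)
    (c : Γ(T.left, ⊤)) (hc : IsUnit c) :
    ∃ ζ : thetaPts A L T, ζ.1.hom = bsc A L c ≫ β.1.hom ∧ IsOverPt ζ x := by
  obtain ⟨v, rfl⟩ := hc
  refine exists_pts_of_cart x _ (isCart_comp ?_ (isCart_pts β)) ?_
  · exact isCart_iso (a := thetaObj A L T) (b := thetaObj A L T) ⟨bsc A L v, bsc A L ↑v⁻¹, by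
      rw [bsc_mul, Units.inv_mul, bsc_one], by rw [bsc_mul, Units.mul_inv, bsc_one]⟩
  · rw [CoGrothendieck.categoryStruct_comp_base, bsc, sc_base, show β.1.hom.base = _ from hx, Category.id_comp]

theorem isUnit_scalar (hL : PicF.IsInvertible L) {T : Over (Spec (CommRingCat.of k))} {β ζ : thetaPts A L T}
    {x : T ⟶ A} (hβ : IsOverPt β x) (hζ : IsOverPt ζ x) {c : Γ(T.left, ⊤)} (hc : ζ.1.hom = bsc A L c ≫ β.1.hom) :
    IsUnit c := by
  obtain ⟨d, hd⟩ := exists_scalar hL hζ hβ
  refine IsUnit.of_mul_eq_one d (bsc_injective hL ((cancel_mono β.1.hom).1 ?_))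
  rw [← bsc_mul, Category.assoc, bsc_one, Category.id_comp]
  exact (congrArg (bsc A L d ≫ ·) hc.symm).trans hd.symm

section functor

variable {K : Over (Spec (CommRingCat.of k))} (iK : K ⟶ A)

/-- a scheme over `K` over the field -/
abbrev toK (T : Over K.left) : Over (Spec (CommRingCat.of k)) := Over.mk (T.hom ≫ K.hom)

/-- a morphism over `K` over the field -/
abbrev toKmap {T T' : Over K.left} (g : T' ⟶ T) : toK T' ⟶ toK T :=
  Over.homMk g.left (by show g.left ≫ T.hom ≫ K.hom = T'.hom ≫ K.hom; rw [← Category.assoc, Over.w g])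

/-- the point of a scheme over `K` -/
abbrev ptK (T : Over K.left) : toK T ⟶ A := (Over.homMk T.hom : toK T ⟶ K) ≫ iK

theorem ptK_natural {T T' : Over K.left} (g : T' ⟶ T) : toKmap g ≫ ptK iK T = ptK iK T' := by
  rw [ptK, ptK, ← Category.assoc]
  exact congrArg (· ≫ iK) (Over.OverMorphism.ext (Over.w g))

theorem toKmap_id (T : Over K.left) : toKmap (𝟙 T) = 𝟙 (toK T) := Over.OverMorphism.ext rfl

theorem toKmap_comp {T T' T'' : Over K.left} (g : T'' ⟶ T') (g' : T' ⟶ T) :
    toKmap (g ≫ g') = toKmap g ≫ toKmap g' := Over.OverMorphism.ext rfl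

variable (A L) in
/-- the functor of lifts -/
def lifts : (Over K.left)ᵒᵖ ⥤ Type u where
  obj T := {β : thetaPts A L (toK (unop T)) // IsOverPt β (ptK iK (unop T))}
  map {T T'} g := TypeCat.ofHom fun β => ⟨bc (toKmap g.unop) β.1,
    ptK_natural iK g.unop ▸ isOverPt_bc (bc_spec (toKmap g.unop) β.1) β.2⟩
  map_id T := by
    refine ConcreteCategory.hom_ext _ _ fun β => ?_
    exact Subtype.ext ((congrArg (fun g => bc g β.1) (toKmap_id (unop T))).trans (bc_id β.1))
  map_comp g g' := by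
    refine ConcreteCategory.hom_ext _ _ fun β => ?_
    exact Subtype.ext ((congrArg (fun g => bc g β.1) (toKmap_comp g'.unop g.unop)).trans (bc_comp _ _ β.1))

variable {iK}

theorem lifts_res {T T' : Over K.left} (g : T' ⟶ T) (φ : (lifts A L iK).obj (op T)) :
    (RepLocal.res (lifts A L iK) g φ).1 = bc (toKmap g) φ.1 := rfl

theorem isLocal_lifts (hL : PicF.IsInvertible L) : RepLocal.IsLocal (lifts A L iK) where
  ext T κ U hU φ ψ h := Subtype.ext (pts_ext_local hL φ.1 ψ.1 U hU fun i => congrArg Subtype.val (h i))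
  glue T κ U hU φ h := by
    obtain ⟨ψ, hψx, hψ⟩ := exists_glue_pts (T := toK T) hL (ptK iK T) U hU (fun i => (φ i).1)
      (fun i => (ptK_natural iK (RepLocal.opIncl T (U i))).symm ▸ (φ i).2)
      fun i j => congrArg Subtype.val (h i j)
    exact ⟨⟨ψ, hψx⟩, fun i => Subtype.ext (hψ i)⟩

/-- charts -/
theorem exists_chart (hL : PicF.IsInvertible L) (U : K.left.Opens) (hU : IsAffineOpen U)
    (b : (lifts A L iK).obj (op (Over.mk U.ι))) :
    ∃ (M : Over K.left) (ξ : (lifts A L iK).obj (op M)),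
      (LocallyOfFiniteType M.hom ∧ CompactSpace M.left) ∧ RepLocal.IsUniv (lifts A L iK) U M ξ := by
  let A1 : Scheme.{u} := AffineSpace PUnit.{u + 1} U.toScheme
  let t : Γ(A1, ⊤) := AffineSpace.coord U.toScheme PUnit.unit
  let V : A1.Opens := A1.basicOpen t
  let M : Over K.left := Over.mk (V.ι ≫ (A1 ↘ U.toScheme) ≫ U.ι)
  let w : M ⟶ Over.mk U.ι := Over.homMk (V.ι ≫ (A1 ↘ U.toScheme)) (Category.assoc _ _ _)
  let β₀ := RepLocal.res (lifts A L iK) w b
  have ht : IsUnit (show Γ((toK M).left, ⊤) from V.ι.appTop t) := by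
    have h1 : IsUnit (resR (le_top : V ≤ ⊤) t) := RingedSpace.isUnit_res_basicOpen A1.toRingedSpace t
    have h2 : (show Γ(A1, V.ι ''ᵁ ⊤) from V.ι.appTop t) = resR V.ι_image_top.le (resR (le_top : V ≤ ⊤) t) := by
      rw [resR_resR]
      rfl
    show IsUnit (show Γ(A1, V.ι ''ᵁ ⊤) from V.ι.appTop t)
    rw [h2]
    exact h1.map (resR V.ι_image_top.le)
  obtain ⟨ξ, hξ, hξx⟩ := exists_bsc_pts β₀.2 (show Γ((toK M).left, ⊤) from V.ι.appTop t) ht
  haveI : IsAffine U.toScheme := hU
  haveI : IsAffine A1 := isAffine_of_isAffineHom (A1 ↘ U.toScheme)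
  haveI : IsAffine V.toScheme := (isAffineOpen_top A1).basicOpen t
  have hQ : LocallyOfFiniteType M.hom ∧ CompactSpace M.left :=
    ⟨inferInstanceAs (LocallyOfFiniteType (V.ι ≫ (A1 ↘ U.toScheme) ≫ U.ι)), inferInstanceAs (CompactSpace V.toScheme)⟩
  refine ⟨M, ⟨ξ, hξx⟩, hQ, fun m => ((A1 ↘ U.toScheme) (V.ι m)).2, fun T hT φ => ?_⟩
  have hr : Set.range T.hom ⊆ Set.range U.ι := by
    rintro _ ⟨z, rfl⟩
    rw [Scheme.Opens.range_ι]
    exact hT z
  let a : T ⟶ Over.mk U.ι := Over.homMk (IsOpenImmersion.lift U.ι T.hom hr) (IsOpenImmersion.lift_fac _ _ _)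
  let βT := RepLocal.res (lifts A L iK) a b
  -- morphisms to the chart
  have hres : ∀ v : T ⟶ M, (RepLocal.res (lifts A L iK) v ⟨ξ, hξx⟩).1.1.hom =
      bsc A L (show Γ((toK T).left, ⊤) from (v.left ≫ V.ι).appTop t) ≫ βT.1.1.hom := by
    intro v
    have hva : v ≫ w = a := Over.OverMorphism.ext (by
      rw [← cancel_mono U.ι]
      exact (Over.w (v ≫ w)).trans (Over.w a).symm)
    have hβ : βT = RepLocal.res (lifts A L iK) v β₀ := by
      show RepLocal.res (lifts A L iK) a b = RepLocal.res (lifts A L iK) v (RepLocal.res (lifts A L iK) w b)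
      rw [RepLocal.res_comp, hva]
    have hv : IsBaseChange βT.1 (toKmap v) β₀.1 := by rw [hβ]; exact bc_spec _ β₀.1
    refine cancel_cart (isCart_bcLift (toKmap v)) ?_ ?_
    · rw [show (RepLocal.res (lifts A L iK) v ⟨ξ, hξx⟩).1.1.hom.base = _ from
        (RepLocal.res (lifts A L iK) v ⟨ξ, hξx⟩).2, CoGrothendieck.categoryStruct_comp_base, bsc, sc_base,
        show βT.1.1.hom.base = _ from βT.2, Category.id_comp]
    · rw [show (RepLocal.res (lifts A L iK) v ⟨ξ, hξx⟩).1.1.hom ≫ _ = _ from bc_spec (toKmap v) ξ, Category.assoc,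
        show βT.1.1.hom ≫ _ = _ from hv, hξ, ← Category.assoc, ← bsc_bc, Category.assoc]
      congr 2
  obtain ⟨c, hc⟩ := exists_scalar hL βT.2 φ.2
  have hcu := isUnit_scalar hL βT.2 φ.2 hc
  let f₀ : T.left ⟶ A1 := AffineSpace.homOfVector a.left fun _ => (show Γ(T.left, ⊤) from c)
  have hf₀ : f₀.appTop t = c := AffineSpace.homOfVector_appTop_coord _ _ _
  have hf₁ : Set.range f₀ ⊆ Set.range V.ι := by
    rintro _ ⟨z, rfl⟩
    rw [Scheme.Opens.range_ι]
    show z ∈ f₀ ⁻¹ᵁ A1.basicOpen t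
    rw [Scheme.preimage_basicOpen_top, hf₀, Scheme.basicOpen_of_isUnit _ (show IsUnit (show Γ(T.left, ⊤) from c) from hcu)]
    trivial
  let v₀ : T ⟶ M := Over.homMk (IsOpenImmersion.lift V.ι f₀ hf₁) (by
    show IsOpenImmersion.lift V.ι f₀ hf₁ ≫ V.ι ≫ (A1 ↘ U.toScheme) ≫ U.ι = T.hom
    rw [IsOpenImmersion.lift_fac_assoc, ← Category.assoc, AffineSpace.homOfVector_over]
    exact Over.w a)
  refine ⟨v₀, Subtype.ext (pts_ext ?_), fun v hv => ?_⟩
  · rw [hres v₀, hc]
    congr 2
    show (IsOpenImmersion.lift V.ι f₀ hf₁ ≫ V.ι).appTop t = c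
    rw [IsOpenImmersion.lift_fac, hf₀]
  · have h1 := hres v
    rw [show RepLocal.res (lifts A L iK) v ⟨ξ, hξx⟩ = φ from hv, hc] at h1
    have h2 := bsc_injective hL ((cancel_mono βT.1.1.hom).1 h1)
    refine Over.OverMorphism.ext ?_
    rw [← cancel_mono V.ι]
    show v.left ≫ V.ι = IsOpenImmersion.lift V.ι f₀ hf₁ ≫ V.ι
    rw [IsOpenImmersion.lift_fac]
    refine AffineSpace.hom_ext ?_ fun _ => ?_
    · rw [AffineSpace.homOfVector_over, ← cancel_mono U.ι]
      exact (by simp only [Category.assoc]; rfl : _ = v.left ≫ V.ι ≫ (A1 ↘ U.toScheme) ≫ U.ι).trans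
        ((Over.w v).trans (Over.w a).symm)
    · exact (h2.symm).trans hf₀.symm

end functor

/-- the theta group is representable -/
theorem exists_thetaGrpSch' (hL : PicF.IsInvertible L) :
    ∃ (G : Over (Spec (CommRingCat.of k))) (_ : GrpObj G) (u : thetaPts A L G), IsThetaGrpSch A L G u ∧
      LocallyOfFiniteType G.hom ∧ QuasiCompact G.hom := by
  obtain ⟨K, iK, hi, hK⟩ := KLExist.exists_isKL A L hL
  haveI : Mono iK := by
    haveI : IsClosedImmersion iK.left := hi
    exact Over.mono_of_mono_left iK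
  let P : K.left.affineOpens → Prop := fun U => Nonempty ((lifts A L iK).obj (op (Over.mk U.1.ι)))
  have hmono : ∀ {U V : K.left.affineOpens}, U ≤ V → P V → P U := fun {U V} h ⟨b⟩ =>
    ⟨RepLocal.res (lifts A L iK) (Over.homMk (K.left.homOfLE h) (Scheme.homOfLE_ι _ h) : Over.mk U.1.ι ⟶ Over.mk V.1.ι) b⟩
  have hP : ∀ x : K.left, ∃ U : K.left.affineOpens, P U ∧ x ∈ U.1 := fun z => by
    obtain ⟨U, hzU, β, hβ⟩ := exists_local_pts hL iK ((hK K iK).2 ⟨𝟙 _, Category.id_comp _⟩) z
    obtain ⟨W, hW, hzW, hle⟩ := exists_isAffineOpen_mem_and_subset hzU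
    refine ⟨⟨W, hW⟩, ⟨RepLocal.res (lifts A L iK)
      (Over.homMk (K.left.homOfLE hle) (Scheme.homOfLE_ι _ hle) : Over.mk W.ι ⟶ Over.mk U.ι) ⟨β, ?_⟩⟩, hzW⟩
    exact hβ
  obtain ⟨M, Ξ, hM, hcharts⟩ := RepBasis.exists_univ_small P (isLocal_lifts hL)
    (fun M => LocallyOfFiniteType M.hom ∧ CompactSpace M.left)
    (fun U => exists_chart hL U.1.1 U.1.2 U.2.some) hmono hP
  choose Mc ec hMc hec hecr using hcharts
  haveI hKlft : LocallyOfFiniteType K.hom := by
    haveI : IsClosedImmersion iK.left := hi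
    rw [← Over.w iK]; infer_instance
  haveI hKqc : QuasiCompact K.hom := by
    haveI : IsClosedImmersion iK.left := hi
    rw [← Over.w iK]; infer_instance
  have hMlft : LocallyOfFiniteType M.hom := by
    have hco : ∀ x : M.left, ∃ U : RepBasis.Idx P, x ∈ Set.range (ec U).left := fun x => by
      obtain ⟨U, hU, hx⟩ := hP (M.hom x)
      exact ⟨⟨U, hU⟩, (hecr ⟨U, hU⟩).ge hx⟩
    choose Ux hUx using hco
    let 𝒰 : M.left.OpenCover :=
      { I₀ := M.left
        X := fun x => (Mc (Ux x)).left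
        f := fun x => (ec (Ux x)).left
        mem₀ := by
          rw [Scheme.presieve₀_mem_precoverage_iff]
          exact ⟨fun x => ⟨x, hUx x⟩, fun x => hec _⟩ }
    rw [IsZariskiLocalAtSource.iff_of_openCover (P := @LocallyOfFiniteType) 𝒰]
    intro x
    show LocallyOfFiniteType ((ec (Ux x)).left ≫ M.hom)
    rw [Over.w (ec (Ux x))]
    exact (hMc _).1
  have hMc' : CompactSpace M.left := by
    haveI : CompactSpace K.left := QuasiCompact.compactSpace_of_compactSpace K.hom
    choose Uk hUk hkU using hP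
    obtain ⟨s, hs⟩ := isCompact_univ.elim_finite_subcover (fun x : K.left => ((Uk x).1 : Set K.left))
      (fun x => (Uk x).1.2) (fun x _ => Set.mem_iUnion.2 ⟨x, hkU x⟩)
    refine ⟨?_⟩
    rw [show (Set.univ : Set M.left) = ⋃ x ∈ s, Set.range (ec ⟨Uk x, hUk x⟩).left from ?_]
    · exact s.isCompact_biUnion fun x _ => by
        haveI := (hMc ⟨Uk x, hUk x⟩).2
        exact isCompact_range (ec ⟨Uk x, hUk x⟩).left.continuous
    · refine (Set.eq_univ_of_forall fun y => ?_).symm
      obtain ⟨x, hx, hxy⟩ := Set.mem_iUnion₂.1 (hs (Set.mem_univ (M.hom y)))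
      exact Set.mem_iUnion₂.2 ⟨x, hx, (hecr _).ge hxy⟩
  let G : Over (Spec (CommRingCat.of k)) := toK M
  let u : thetaPts A L G := Ξ.1
  have huniv : ∀ (T : Over (Spec (CommRingCat.of k))) (β : thetaPts A L T), ∃! g : T ⟶ G, bc g u = β := by
    intro T β
    obtain ⟨x, hx⟩ := exists_pt β
    obtain ⟨z, hz⟩ := (hK T x).1 (mumford_of_pts hL hx)
    let TS : Over K.left := Over.mk z.left
    let e : toK TS ⟶ T := Over.homMk (𝟙 T.left) (by
      show 𝟙 T.left ≫ T.hom = z.left ≫ K.hom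
      rw [Category.id_comp, Over.w z])
    let e' : T ⟶ toK TS := Over.homMk (𝟙 T.left) (by
      show 𝟙 T.left ≫ z.left ≫ K.hom = T.hom
      rw [Category.id_comp, Over.w z])
    have he : e' ≫ e = 𝟙 T := Over.OverMorphism.ext (Category.id_comp _)
    have hpt : e ≫ x = ptK iK TS := by
      rw [ptK, ← hz, ← Category.assoc]
      exact congrArg (· ≫ iK) (Over.OverMorphism.ext (Category.id_comp _))
    obtain ⟨v, hv, hvu⟩ := hM TS ⟨bc e β, hpt ▸ isOverPt_bc (bc_spec e β) hx⟩
    have hv' : bc (toKmap v) u = bc e β := congrArg Subtype.val hv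
    refine ⟨e' ≫ toKmap v, ?_, fun g hg => ?_⟩
    · show bc (e' ≫ toKmap v) u = β
      rw [bc_comp, hv', ← bc_comp, he, bc_id]
    · have hgx : IsOverPt β (g ≫ ptK iK M) := hg ▸ isOverPt_bc (bc_spec g u) Ξ.2
      have hzg : g ≫ (Over.homMk M.hom : G ⟶ K) = z := by
        rw [← cancel_mono iK, Category.assoc, hz]
        exact pt_unique hgx hx
      let v' : TS ⟶ M := Over.homMk g.left (congrArg CommaMorphism.left hzg)
      have h2 : toKmap v' = e ≫ g := Over.OverMorphism.ext (Category.id_comp _).symm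
      have h3 : v' = v := hvu v' (Subtype.ext (by
        show bc (toKmap v') u = bc e β
        rw [h2, bc_comp, hg]))
      rw [← h3, h2, ← Category.assoc, he, Category.id_comp]
  choose inv hinv huinv using huniv
  let F : (Over (Spec (CommRingCat.of k)))ᵒᵖ ⥤ GrpCat.{u} :=
    { obj := fun T => GrpCat.of (thetaPts A L (unop T))
      map := fun g => GrpCat.ofHom (MonoidHom.mk' (bc g.unop) (bc_mul g.unop))
      map_id := fun T => GrpCat.hom_ext (MonoidHom.ext fun β => bc_id β)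
      map_comp := fun g g' => GrpCat.hom_ext (MonoidHom.ext fun β => bc_comp g'.unop g.unop β) }
  let α : (F ⋙ forget _).RepresentableBy G :=
    { homEquiv := fun {T} =>
        { toFun := fun g => bc g u
          invFun := inv T
          left_inv := fun g => (huinv T _ g rfl).symm
          right_inv := fun β => hinv T β }
      homEquiv_comp := fun g g' => bc_comp g g' u }
  letI grp : GrpObj G := GrpObj.ofRepresentableBy G F α
  haveI := hMlft
  haveI := hMc'
  refine ⟨G, grp, u, ⟨fun T β => ?_, fun T g => existsUnique_bc g u, fun T g g' β₁ β₂ h₁ h₂ => ?_⟩,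
    inferInstanceAs (LocallyOfFiniteType (M.hom ≫ K.hom)),
    (quasiCompact_iff_compactSpace G.hom).mpr hMc'⟩
  · exact ⟨inv T β, by have := bc_spec (inv T β) u; rwa [hinv T β] at this, fun g hg => huinv T β g (bc_eq hg)⟩
  · have hμ : bc (μ[G]) u = bc (fst G G) u * bc (snd G G) u := hinv (G ⊗ G) _
    have hgg : bc (g * g') u = β₁ * β₂ := by
      rw [show g * g' = lift g g' ≫ μ[G] from rfl, bc_comp, hμ, bc_mul, ← bc_comp, ← bc_comp, lift_fst, lift_snd,
        bc_eq h₁, bc_eq h₂]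
    exact hgg ▸ bc_spec (g * g') u

/-- the theta group is representable -/
theorem exists_thetaGrpSch (hL : PicF.IsInvertible L) :
    ∃ (G : Over (Spec (CommRingCat.of k))) (_ : GrpObj G) (u : thetaPts A L G), IsThetaGrpSch A L G u := by
  obtain ⟨G, g, u, h, -, -⟩ := exists_thetaGrpSch' hL
  exact ⟨G, g, u, h⟩

/-- every representing scheme is of finite type -/
theorem finiteType_of_isThetaGrpSch (hL : PicF.IsInvertible L) {G : Over (Spec (CommRingCat.of k))} [GrpObj G]
    {u : thetaPts A L G} (hG : IsThetaGrpSch A L G u) : LocallyOfFiniteType G.hom ∧ QuasiCompact G.hom := by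
  obtain ⟨G', g', u', hG', hlft, hqc⟩ := exists_thetaGrpSch' (A := A) hL
  obtain ⟨a, ha, -⟩ := hG'.univ G u
  obtain ⟨b, hb, -⟩ := hG.univ G' u'
  have hab : a ≫ b = 𝟙 G := (hG.univ G u).unique (isBaseChange_comp hb ha) (isBaseChange_id u)
  have hba : b ≫ a = 𝟙 G' := (hG'.univ G' u').unique (isBaseChange_comp ha hb) (isBaseChange_id u')
  haveI : IsIso a.left := ⟨b.left, by rw [← Over.comp_left, hab]; rfl, by rw [← Over.comp_left, hba]; rfl⟩
  rw [← Over.w a]
  exact ⟨inferInstance, inferInstance⟩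

end Groth.Agent.AVTheta.GrpSch

end
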