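import Groth.Agent.AVTheta.Local
import Groth.Agent.AVTheta.KLExist
import Groth.Agent.S19948
import Groth.Agent.S10606
import Groth.Agent.Lib.AVMulN
import Groth.Agent.GrpSchLib.HomFlat
import Groth.Agent.IsogLib.Kernel
import Groth.Agent.AVDegLib.MulN

/-!
# Descent along multiplication by `n`

If every point killed by `n²` lies in `K(L)`, then `L` descends along `[n]` (over an algebraically closed field):
the points killed by `n` are locally `n`-th powers of points of `K(L)`, so the commutator pairing is trivial on them.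
-/

noncomputable section

set_option autoImplicit false
set_option linter.style.haveILetI false
set_option linter.unusedSectionVars false
set_option backward.isDefEq.respectTransparency false
set_option backward.isDefEq.respectTransparency.types false
set_option maxHeartbeats 1000000
set_option synthInstance.maxHeartbeats 400000

universe u

open CategoryTheory CategoryTheory.Limits AlgebraicGeometry MonoidalCategory CartesianMonoidalCategory TopologicalSpace
  MonObj

attribute [-instance] CategoryTheory.catToReflQuiver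

namespace Groth.Agent.AVTheta

open ThetaGrp

/-- In a group, if `δεδ⁻¹ε⁻¹` is central and `εⁿ` commutes with `δ`, then `δⁿ` commutes with `ε`. -/
theorem commute_pow_left_of_pow_right {G : Type*} [Group G] {δ ε : G} {n : ℕ}
    (hc : ∀ g : G, Commute (δ * ε * δ⁻¹ * ε⁻¹) g) (h : Commute δ (ε ^ n)) : Commute (δ ^ n) ε := by
  generalize hcdef : δ * ε * δ⁻¹ * ε⁻¹ = c at hc
  have hde : δ * ε = c * ε * δ := by rw [← hcdef]; group
  have hr : δ * ε * δ⁻¹ = c * ε := by rw [hde]; group
  have hl : ε⁻¹ * δ * ε = c * δ := by rw [_root_.mul_assoc, hde, ← _root_.mul_assoc, ← _root_.mul_assoc, ← (hc ε⁻¹).eq]; group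
  have hcn : c ^ n = 1 := by
    have h1 : (δ * ε * δ⁻¹) ^ n = δ * ε ^ n * δ⁻¹ := conj_pow
    rw [hr, (hc ε).mul_pow, h.eq, _root_.mul_assoc (ε ^ n), mul_inv_cancel, _root_.mul_one] at h1
    exact mul_eq_right.1 h1
  have h2 : (ε⁻¹ * δ * ε) ^ n = ε⁻¹ * δ ^ n * ε := by
    simpa using conj_pow (a := ε⁻¹) (b := δ) (i := n)
  rw [hl, (hc δ).mul_pow, hcn, _root_.one_mul] at h2
  show δ ^ n * ε = ε * δ ^ n
  nth_rw 2 [h2]
  group

variable {k : Type u} [Field k] {A : Over (Spec (CommRingCat.of k))} [GrpObj A] [IsCommMonObj A] [IsProper A.hom]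
  [GeometricallyIntegral A.hom] {L : A.left.Modules}

theorem isOverPt_pow {T : Over (Spec (CommRingCat.of k))} {β : thetaPts A L T} {x : T ⟶ A} (hx : IsOverPt β x)
    (n : ℕ) : IsOverPt (β ^ n) (x ^ n) := by
  induction n with
  | zero => rw [pow_zero, pow_zero]; exact isOverPt_one
  | succ n ih => rw [pow_succ, pow_succ', ]; exact isOverPt_mul ih hx

theorem isOverPt_inv' {T : Over (Spec (CommRingCat.of k))} {β : thetaPts A L T} {x : T ⟶ A} (hx : IsOverPt β x) :
    IsOverPt β⁻¹ x⁻¹ := by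
  obtain ⟨y, hy⟩ := exists_pt β⁻¹
  have h := isOverPt_mul hy hx
  rw [inv_mul_cancel] at h
  rwa [show x⁻¹ = y from inv_eq_of_mul_eq_one_right (pt_unique h isOverPt_one)]

/-- points over the unit translation are central -/
theorem commute_of_over_one (hL : PicF.IsInvertible L) {T : Over (Spec (CommRingCat.of k))} {c : thetaPts A L T}
    (hc : IsOverPt c 1) (g : thetaPts A L T) : Commute c g := by
  obtain ⟨d, hd⟩ := exists_scalar hL (isOverPt_one (A := A) (L := L)) hc
  have hd' : c.1.hom = bsc A L d := by rw [hd]; exact Category.comp_id _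
  refine pts_ext ?_
  show g.1.hom ≫ c.1.hom = c.1.hom ≫ g.1.hom
  rw [hd', bsc_comm]

/-- `n`-th powers of points of `K(L)` commute with the `n`-torsion of `K(L)` -/
theorem commute_of_root (hL : PicF.IsInvertible L) {T : Over (Spec (CommRingCat.of k))} {n : ℕ} {x y : T ⟶ A}
    (hyn : y ^ n = 1) (hx : IsMumfordTriv A L x) (hy : IsMumfordTriv A L y) {α β : thetaPts A L T}
    (hα : IsOverPt α (x ^ n)) (hβ : IsOverPt β y) : α * β = β * α := by
  obtain ⟨c, hc, -⟩ := existsUnique_comm hL α β
  refine (isComm_one_iff _ _).1 ?_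
  suffices hc1 : c = 1 by rwa [hc1] at hc
  refine eq_of_local fun t => ?_
  obtain ⟨U₁, ht₁, b₁, hb₁⟩ := exists_local_pts hL x hx t
  obtain ⟨U₂, ht₂, b₂, hb₂⟩ := exists_local_pts hL y hy t
  let V := U₁ ⊓ U₂
  refine ⟨V, ⟨ht₁, ht₂⟩, ?_⟩
  obtain ⟨δ, hδ, -⟩ := existsUnique_bc (ovHomOfLE T (inf_le_left : V ≤ U₁)) b₁
  obtain ⟨ε, hε, -⟩ := existsUnique_bc (ovHomOfLE T (inf_le_right : V ≤ U₂)) b₂
  let g := ovIncl T V
  have hδ' : IsOverPt δ (g ≫ x) := by
    have h := isOverPt_bc hδ hb₁
    rwa [← Category.assoc, ovHomOfLE_incl] at h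
  have hε' : IsOverPt ε (g ≫ y) := by
    have h := isOverPt_bc hε hb₂
    rwa [← Category.assoc, ovHomOfLE_incl] at h
  have hεn : IsOverPt (ε ^ n) (1 : ovOpen T V ⟶ A) := by
    have h := isOverPt_pow hε' n
    rwa [← MonObj.comp_pow, hyn, MonObj.comp_one] at h
  have hcen : ∀ a, Commute (δ * ε * δ⁻¹ * ε⁻¹) a := fun a => by
    refine commute_of_over_one hL ?_ a
    have h := isOverPt_mul (isOverPt_mul (isOverPt_mul hδ' hε') (isOverPt_inv' hδ')) (isOverPt_inv' hε')
    rwa [mul_comm (g ≫ y) (g ≫ x), inv_mul_cancel_left, inv_mul_cancel] at h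
  have hcomm := commute_pow_left_of_pow_right hcen (commute_of_over_one hL hεn δ).symm
  obtain ⟨ζ₁, hζ₁, -⟩ := existsUnique_bc g α
  obtain ⟨ζ₂, hζ₂, -⟩ := existsUnique_bc g β
  have hz₁ : IsOverPt ζ₁ ((g ≫ x) ^ n) := by
    rw [← MonObj.comp_pow]
    exact isOverPt_bc hζ₁ hα
  have h := comm_eq_of_same_pts hL (isOverPt_pow hδ' n) hε' hz₁ (isOverPt_bc hζ₂ hβ)
    ((isComm_one_iff _ _).2 hcomm.eq) (isComm_bc hζ₁ hζ₂ hc)
  exact h.symm.trans (map_one _).symm

/-- `L` descends along `[n]` once all points killed by `n²` lie in `K(L)` -/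
theorem exists_descent_pow [IsAlgClosed k] (hL : PicF.IsInvertible L) {n : ℕ} (hn : 1 ≤ n)
    (hK : ∀ {T : Over (Spec (CommRingCat.of k))} (z : T ⟶ A), z ^ (n * n) = 1 → IsMumfordTriv A L z) :
    ∃ M : A.left.Modules, PicF.IsInvertible M ∧
      Nonempty ((Scheme.Modules.pullback (𝟙 A ^ n : A ⟶ A).left).obj M ≅ L) := by
  let f : A ⟶ A := 𝟙 A ^ n
  haveI : IsMonHom f := AVDegLib.isMonHom_pow (A := A) n
  haveI : IsFinite f.left := AVMulN.isFinite_pow n hn
  haveI : Surjective f.left := AVMulN.surjective_pow n hn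
  haveI : IsIntegral A.left := GeometricallyIntegral.isIntegral_of_subsingleton A.hom
  haveI : IsReduced A.left := inferInstance
  haveI : Flat f.left := GrpSchLib.flat_of_surjective_hom f
  let N : Over (Spec (CommRingCat.of k)) := pullback f η[A]
  let i : N ⟶ A := pullback.fst f η[A]
  have hker : IsPullback i (toUnit N) f η[A] := by
    have h := IsPullback.of_hasPullback f η[A]
    rwa [toUnit_unique (toUnit N) (pullback.snd f η[A])]
  obtain ⟨sN, hi⟩ := IsogLib.exists_grpObj_kernel f hker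
  letI := sN
  haveI := hi
  obtain ⟨K, iK, hKL⟩ := KLExist.exists_isKL A L hL
  have hi1 : i ^ n = 1 := by
    have h := IsogLib.kernel_comp f hker
    rwa [MonObj.comp_pow, Category.comp_id] at h
  refine (S19948.result k A A f inferInstance N i hker L hL K iK hKL).2
    ⟨(hKL.univ N i).1 (hK i (by rw [pow_mul, hi1, one_pow])), fun T x y α β hα hβ => ?_⟩
  obtain ⟨c, hc, -⟩ := existsUnique_comm hL α β
  refine (isComm_one_iff _ _).1 ?_
  suffices hc1 : c = 1 by rwa [hc1] at hc
  let T' : Over (Spec (CommRingCat.of k)) := Over.mk (pullback.fst (x ≫ i).left f.left ≫ T.hom)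
  let g : T' ⟶ T := Over.homMk (pullback.fst (x ≫ i).left f.left) rfl
  let z : T' ⟶ A := Over.homMk (pullback.snd (x ≫ i).left f.left) (by
    show pullback.snd (x ≫ i).left f.left ≫ A.hom = pullback.fst (x ≫ i).left f.left ≫ T.hom
    rw [← Over.w (x ≫ i), ← Category.assoc, pullback.condition, Category.assoc, Over.w f])
  have hz : z ^ n = g ≫ x ≫ i := by
    have h : z ≫ f = g ≫ x ≫ i := Over.OverMorphism.ext pullback.condition.symm
    rwa [MonObj.comp_pow, Category.comp_id] at h
  haveI : Flat g.left := inferInstanceAs (Flat (pullback.fst (x ≫ i).left f.left))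
  haveI : Surjective g.left := inferInstanceAs (Surjective (pullback.fst (x ≫ i).left f.left))
  refine S10606.appTop_injective_of_flat_surjective g.left ?_
  have hzn : z ^ (n * n) = 1 := by
    rw [pow_mul, hz, ← MonObj.comp_pow, ← MonObj.comp_pow, hi1, MonObj.comp_one, MonObj.comp_one]
  have hyn : ((g ≫ y) ≫ i) ^ n = 1 := by rw [← MonObj.comp_pow, hi1, MonObj.comp_one]
  obtain ⟨α', hα', -⟩ := existsUnique_bc g α
  obtain ⟨β', hβ', -⟩ := existsUnique_bc g β
  have ha : IsOverPt α' (z ^ n) := by rw [hz]; exact isOverPt_bc hα' hα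
  have hb : IsOverPt β' ((g ≫ y) ≫ i) := by rw [Category.assoc]; exact isOverPt_bc hβ' hβ
  have h := commute_of_root hL hyn (hK z hzn) (hK _ (by rw [pow_mul, hyn, one_pow])) ha hb
  rw [map_one]
  exact isComm_unique hL (isComm_bc hα' hβ' hc) ((isComm_one_iff _ _).2 h)

end Groth.Agent.AVTheta

end
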