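import Groth.Agent.AVTheta.GlueCart
import Groth.Agent.DescLib.ModDesc.Equivalence
import Groth.Agent.PicGlue.Glue
import Mathlib.AlgebraicGeometry.Limits

/-!
Effective descent of invertible modules along flat quasi-compact surjections.
-/

noncomputable section

set_option autoImplicit false
set_option linter.style.haveILetI false
set_option linter.unusedSectionVars false
set_option backward.isDefEq.respectTransparency false
set_option backward.isDefEq.respectTransparency.types false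
set_option maxHeartbeats 1000000
set_option synthInstance.maxHeartbeats 400000

universe u

open CategoryTheory CategoryTheory.Limits AlgebraicGeometry TopologicalSpace Pseudofunctor Bicategory

namespace Groth.Agent.AVTheta.Effective

open Groth.Agent.AModX Groth.Agent.InvX

/-- every open of the source lies over the whole -/
theorem topLe {X Y : Scheme.{u}} (g : X ⟶ Y) : (⊤ : X.Opens) ≤ g ⁻¹ᵁ ⊤ := fun _ _ => trivial

open TensorProduct in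
/-- a pair of points of a chart lifts to the tensor square -/
theorem exists_lift_tensor (R S : Type u) [CommRing R] [CommRing S] [Algebra R S] {T : Scheme.{u}}
    (a b : T ⟶ Spec (CommRingCat.of S))
    (h0 : a ≫ Spec.map (CommRingCat.ofHom (algebraMap R S)) = b ≫ Spec.map (CommRingCat.ofHom (algebraMap R S))) :
    ∃ t : T ⟶ Spec (CommRingCat.of (S ⊗[R] S)),
      t ≫ Spec.map (CommRingCat.ofHom (Algebra.TensorProduct.includeLeft : S →ₐ[R] S ⊗[R] S).toRingHom) = a ∧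
      t ≫ Spec.map (CommRingCat.ofHom (Algebra.TensorProduct.includeRight : S →ₐ[R] S ⊗[R] S).toRingHom) = b := by
  refine ⟨pullback.lift a b h0 ≫ (pullbackSpecIso R S S).hom, ?_, ?_⟩
  · have h : (Algebra.TensorProduct.includeLeft : S →ₐ[R] S ⊗[R] S).toRingHom = Algebra.TensorProduct.includeLeftRingHom := RingHom.ext fun _ => rfl
    rw [h, Category.assoc, pullbackSpecIso_hom_fst, pullback.lift_fst]
  · rw [Category.assoc]
    exact (congrArg (pullback.lift a b h0 ≫ ·) (pullbackSpecIso_hom_snd R S S)).trans (pullback.lift_snd _ _ _)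

/-- a descent datum on a module, as the relation between corresponding identifications -/
structure Datum {Z Y : Scheme.{u}} (p : Z ⟶ Y) (L : Z.Modules) where
  R : ∀ {T : Scheme.{u}} {M : T.Modules}, ((⟨T, M⟩ : SM.{u}) ⟶ ⟨Z, L⟩) → ((⟨T, M⟩ : SM.{u}) ⟶ ⟨Z, L⟩) → Prop
  base_eq : ∀ {T : Scheme.{u}} {M : T.Modules} {φ ψ : (⟨T, M⟩ : SM.{u}) ⟶ ⟨Z, L⟩}, R φ ψ →
    φ.base ≫ p = ψ.base ≫ p
  cart : ∀ {T : Scheme.{u}} {M : T.Modules} {φ ψ : (⟨T, M⟩ : SM.{u}) ⟶ ⟨Z, L⟩}, R φ ψ → IsCart φ → IsCart ψ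
  exists_unique : ∀ {T : Scheme.{u}} {M : T.Modules} (φ : (⟨T, M⟩ : SM.{u}) ⟶ ⟨Z, L⟩), IsCart φ →
    ∀ b : T ⟶ Z, φ.base ≫ p = b ≫ p → ∃! ψ : (⟨T, M⟩ : SM.{u}) ⟶ ⟨Z, L⟩, ψ.base = b ∧ R φ ψ
  precomp : ∀ {T T' : Scheme.{u}} {M : T.Modules} {M' : T'.Modules} {φ ψ : (⟨T, M⟩ : SM.{u}) ⟶ ⟨Z, L⟩}
    (τ : (⟨T', M'⟩ : SM.{u}) ⟶ ⟨T, M⟩), IsCart τ → IsCart φ → R φ ψ → R (τ ≫ φ) (τ ≫ ψ)
  trans : ∀ {T : Scheme.{u}} {M : T.Modules} {φ ψ χ : (⟨T, M⟩ : SM.{u}) ⟶ ⟨Z, L⟩}, IsCart φ → R φ ψ → R ψ χ → R φ χ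

namespace Datum

variable {Z Y : Scheme.{u}} {p : Z ⟶ Y} {L : Z.Modules} (D : Datum p L)

theorem eq_of_R {T : Scheme.{u}} {M : T.Modules} {φ ψ ψ' : (⟨T, M⟩ : SM.{u}) ⟶ ⟨Z, L⟩} (hφ : IsCart φ)
    (h : D.R φ ψ) (h' : D.R φ ψ') (hb : ψ.base = ψ'.base) : ψ = ψ' :=
  (D.exists_unique φ hφ ψ.base (D.base_eq h)).unique ⟨rfl, h⟩ ⟨hb.symm, h'⟩

theorem refl {T : Scheme.{u}} {M : T.Modules} (φ : (⟨T, M⟩ : SM.{u}) ⟶ ⟨Z, L⟩) (hφ : IsCart φ) : D.R φ φ := by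
  obtain ⟨ψ, ⟨hψb, hψ⟩, -⟩ := D.exists_unique φ hφ φ.base rfl
  have hψc := D.cart hψ hφ
  obtain ⟨ψ', ⟨hψ'b, hψ'⟩, -⟩ := D.exists_unique ψ hψc ψ.base rfl
  have e := D.eq_of_R hφ (D.trans hφ hψ hψ') hψ hψ'b
  rw [e] at hψ'
  obtain ⟨v, ⟨hvb, hv⟩, -⟩ := existsUnique_lift hψc φ (𝟙 T) (by rw [hψb]; exact Category.id_comp _)
  have h := D.precomp v (isCart_of_comp hψc (by rw [hv]; exact hφ)) hψc hψ'
  rwa [hv] at h

theorem symm {T : Scheme.{u}} {M : T.Modules} {φ ψ : (⟨T, M⟩ : SM.{u}) ⟶ ⟨Z, L⟩} (hφ : IsCart φ) (h : D.R φ ψ) :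
    D.R ψ φ := by
  obtain ⟨χ, ⟨hχb, hχ⟩, -⟩ := D.exists_unique ψ (D.cart h hφ) φ.base (D.base_eq h).symm
  rwa [D.eq_of_R hφ (D.trans hφ h hχ) (D.refl φ hφ) hχb] at hχ

section coef

variable {W : Scheme.{u}} {LW : W.Modules} {E : (⟨W, LW⟩ : SM.{u}) ⟶ ⟨Z, L⟩} (hE : IsCart E)
  {e : Γ(LW, ⊤)} (he : IsFrame e)

variable (E e) in
/-- the coefficient comparing the frame at two points -/
def IsCoef {T : Scheme.{u}} (a b : T ⟶ W) (c : Γ(T, ⊤)) : Prop :=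
  ∀ (T' : Scheme.{u}) (t : T' ⟶ T) (M : T'.Modules) (σ₁ σ₂ : (⟨T', M⟩ : SM.{u}) ⟶ ⟨W, LW⟩),
    IsCart σ₁ → σ₁.base = t ≫ a → σ₂.base = t ≫ b → D.R (σ₁ ≫ E) (σ₂ ≫ E) →
      ∀ (m₁ m₂ : Γ(M, ⊤)), IsAct σ₁ (topLe σ₁.base) e m₁ → IsAct σ₂ (topLe σ₂.base) e m₂ →
        m₂ = t.appTop c • m₁

include hE he

/-- a standard pair -/
theorem exists_pair {T : Scheme.{u}} (a b : T ⟶ W) (h : a ≫ E.base ≫ p = b ≫ E.base ≫ p) :
    ∃ (M : T.Modules) (σ₁ σ₂ : (⟨T, M⟩ : SM.{u}) ⟶ ⟨W, LW⟩) (m₁ m₂ : Γ(M, ⊤)), IsCart σ₁ ∧ IsCart σ₂ ∧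
      σ₁.base = a ∧ σ₂.base = b ∧ D.R (σ₁ ≫ E) (σ₂ ≫ E) ∧ IsFrame m₁ ∧ IsFrame m₂ ∧
      IsAct σ₁ (topLe σ₁.base) e m₁ ∧ IsAct σ₂ (topLe σ₂.base) e m₂ := by
  let σ₁ : (⟨T, (Scheme.Modules.pullback a).obj LW⟩ : SM.{u}) ⟶ ⟨W, LW⟩ := mkHom a (𝟙 _)
  have hσ₁ : IsCart σ₁ := isCart_mkHom _ _
  have hb : (σ₁ ≫ E).base ≫ p = (b ≫ E.base) ≫ p := by
    rw [CoGrothendieck.categoryStruct_comp_base]
    exact (Category.assoc _ _ _).trans (h.trans (Category.assoc _ _ _).symm)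
  obtain ⟨ψ, ⟨hψb, hψ⟩, -⟩ := D.exists_unique (σ₁ ≫ E) (isCart_comp hσ₁ hE) _ hb
  obtain ⟨σ₂, ⟨hσ₂b, hσ₂⟩, -⟩ := existsUnique_lift hE ψ b hψb.symm
  have hσ₂c : IsCart σ₂ := isCart_of_comp hE (by rw [hσ₂]; exact D.cart hψ (isCart_comp hσ₁ hE))
  obtain ⟨m₁, hm₁, -⟩ := exists_act hσ₁ (topLe σ₁.base) e
  obtain ⟨m₂, hm₂, -⟩ := exists_act hσ₂c (topLe σ₂.base) e
  exact ⟨_, σ₁, σ₂, m₁, m₂, hσ₁, hσ₂c, rfl, hσ₂b, by rw [hσ₂]; exact hψ, isFrame_of_act hσ₁ he hm₁,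
    isFrame_of_act hσ₂c he hm₂, hm₁, hm₂⟩

theorem exists_coef {T : Scheme.{u}} (a b : T ⟶ W) (h : a ≫ E.base ≫ p = b ≫ E.base ≫ p) :
    ∃ c, D.IsCoef E e a b c := by
  obtain ⟨M₀, σ₁, σ₂, m₁, m₂, h₁, h₂, rfl, rfl, hR, hf₁, -, ha₁, ha₂⟩ := D.exists_pair hE he a b h
  obtain ⟨c, hc⟩ := hf₁.exists_coord le_rfl m₂
  rw [res_self] at hc
  refine ⟨c, fun T' t M σ₁' σ₂' h₁' hb₁ hb₂ hR' n₁ n₂ hn₁ hn₂ => ?_⟩
  obtain ⟨τ, ⟨hτb, hτ⟩, -⟩ := existsUnique_lift h₁ σ₁' t hb₁.symm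
  have hτc : IsCart τ := isCart_of_comp h₁ (by rw [hτ]; exact h₁')
  have hb₂' : σ₂'.base = (τ ≫ σ₂).base := by
    rw [CoGrothendieck.categoryStruct_comp_base, hb₂, hτb]
  have hτ₂ : σ₂' = τ ≫ σ₂ := by
    refine cancel_cart hE hb₂' ?_
    have hR'' := D.precomp τ hτc (isCart_comp h₁ hE) hR
    rw [← Category.assoc, ← Category.assoc, hτ] at hR''
    refine D.eq_of_R (isCart_comp h₁' hE) hR' hR'' ?_
    rw [CoGrothendieck.categoryStruct_comp_base, CoGrothendieck.categoryStruct_comp_base, hb₂']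
  obtain ⟨x, hx, -⟩ := exists_act hτc (topLe τ.base) m₁
  have hx₁ : x = n₁ := act_unique h₁' (act_congr hτ (topLe σ₁'.base) (act_comp σ₁ ha₁ hx (topLe _))) hn₁
  have hy : IsAct τ (topLe τ.base) (c • m₁) (τ.base.appLE ⊤ ⊤ (topLe τ.base) c • x) := act_smul c hx
  rw [← hc] at hy
  have hy₂ := act_congr hτ₂.symm (topLe σ₂'.base) (act_comp σ₂ ha₂ hy (topLe _))
  rw [act_unique (by rw [hτ₂]; exact isCart_comp hτc h₂) hn₂ hy₂, hx₁, appLE_congr_hom hτb ⊤ ⊤ (topLe _) (topLe _)]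
  exact congrArg (fun z : Γ(T', ⊤) => z • n₁) congr($((Scheme.Hom.app_eq_appLE t (U := ⊤)).symm) c)

/-- the coefficient -/
def coef {T : Scheme.{u}} (a b : T ⟶ W) (h : a ≫ E.base ≫ p = b ≫ E.base ≫ p) : Γ(T, ⊤) :=
  (D.exists_coef hE he a b h).choose

theorem coef_spec {T : Scheme.{u}} (a b : T ⟶ W) (h : a ≫ E.base ≫ p = b ≫ E.base ≫ p) :
    D.IsCoef E e a b (D.coef hE he a b h) :=
  (D.exists_coef hE he a b h).choose_spec

theorem coef_spec_id {T : Scheme.{u}} {a b : T ⟶ W} (h : a ≫ E.base ≫ p = b ≫ E.base ≫ p) {M : T.Modules}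
    {σ₁ σ₂ : (⟨T, M⟩ : SM.{u}) ⟶ ⟨W, LW⟩} (h₁ : IsCart σ₁) (hb₁ : σ₁.base = a) (hb₂ : σ₂.base = b)
    (hR : D.R (σ₁ ≫ E) (σ₂ ≫ E)) {m₁ m₂ : Γ(M, ⊤)} (ha₁ : IsAct σ₁ (topLe σ₁.base) e m₁)
    (ha₂ : IsAct σ₂ (topLe σ₂.base) e m₂) : m₂ = D.coef hE he a b h • m₁ := by
  have := D.coef_spec hE he a b h T (𝟙 T) M σ₁ σ₂ h₁ (by rw [hb₁, Category.id_comp])
    (by rw [hb₂, Category.id_comp]) hR m₁ m₂ ha₁ ha₂
  simpa using this

theorem coef_unique {T : Scheme.{u}} {a b : T ⟶ W} (h : a ≫ E.base ≫ p = b ≫ E.base ≫ p) {c : Γ(T, ⊤)}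
    (hc : D.IsCoef E e a b c) : D.coef hE he a b h = c := by
  obtain ⟨M₀, σ₁, σ₂, m₁, m₂, h₁, h₂, hb₁, hb₂, hR, hf₁, -, ha₁, ha₂⟩ := D.exists_pair hE he a b h
  have e1 := D.coef_spec_id hE he h h₁ hb₁ hb₂ hR ha₁ ha₂
  have e2 := hc T (𝟙 T) M₀ σ₁ σ₂ h₁ (by rw [hb₁, Category.id_comp]) (by rw [hb₂, Category.id_comp]) hR m₁ m₂ ha₁ ha₂
  refine hf₁.coord_unique le_rfl ?_
  rw [res_self, ← e1]
  simpa using e2

theorem coef_nat {T T' : Scheme.{u}} (t : T' ⟶ T) (a b : T ⟶ W) (h : a ≫ E.base ≫ p = b ≫ E.base ≫ p)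
    (h' : (t ≫ a) ≫ E.base ≫ p = (t ≫ b) ≫ E.base ≫ p) :
    D.coef hE he (t ≫ a) (t ≫ b) h' = t.appTop (D.coef hE he a b h) := by
  refine D.coef_unique hE he h' fun T'' t' M σ₁ σ₂ h₁ hb₁ hb₂ hR m₁ m₂ ha₁ ha₂ => ?_
  have := D.coef_spec hE he a b h T'' (t' ≫ t) M σ₁ σ₂ h₁ (by rw [hb₁, Category.assoc])
    (by rw [hb₂, Category.assoc]) hR m₁ m₂ ha₁ ha₂
  rw [this, Scheme.Hom.comp_appTop]
  rfl

theorem coef_self {T : Scheme.{u}} (a : T ⟶ W) : D.coef hE he a a rfl = 1 := by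
  obtain ⟨M₀, σ₁, σ₂, m₁, m₂, h₁, h₂, hb₁, hb₂, hR, hf₁, -, ha₁, ha₂⟩ := D.exists_pair hE he a a rfl
  have e1 := D.coef_spec_id hE he rfl h₁ hb₁ hb₁ (D.refl _ (isCart_comp h₁ hE)) ha₁ ha₁
  refine hf₁.coord_unique le_rfl ?_
  rw [res_self, one_smul, ← e1]

theorem coef_trans {T : Scheme.{u}} (a b d : T ⟶ W) (h : a ≫ E.base ≫ p = b ≫ E.base ≫ p)
    (h' : b ≫ E.base ≫ p = d ≫ E.base ≫ p) :
    D.coef hE he a d (h.trans h') = D.coef hE he b d h' * D.coef hE he a b h := by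
  obtain ⟨M₀, σ₁, σ₂, m₁, m₂, h₁, h₂, hb₁, hb₂, hR, hf₁, hf₂, ha₁, ha₂⟩ := D.exists_pair hE he a b h
  have hb : (σ₂ ≫ E).base ≫ p = (d ≫ E.base) ≫ p := by
    rw [CoGrothendieck.categoryStruct_comp_base, hb₂]
    exact (Category.assoc _ _ _).trans (h'.trans (Category.assoc _ _ _).symm)
  obtain ⟨ψ, ⟨hψb, hψ⟩, -⟩ := D.exists_unique (σ₂ ≫ E) (isCart_comp h₂ hE) _ hb
  obtain ⟨σ₃, ⟨hσ₃b, hσ₃⟩, -⟩ := existsUnique_lift hE ψ d hψb.symm
  have hσ₃c : IsCart σ₃ := isCart_of_comp hE (by rw [hσ₃]; exact D.cart hψ (isCart_comp h₂ hE))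
  obtain ⟨m₃, ha₃, -⟩ := exists_act hσ₃c (topLe σ₃.base) e
  rw [← hσ₃] at hψ
  have e12 := D.coef_spec_id hE he h h₁ hb₁ hb₂ hR ha₁ ha₂
  have e23 := D.coef_spec_id hE he h' h₂ hb₂ hσ₃b hψ ha₂ ha₃
  have e13 := D.coef_spec_id hE he (h.trans h') h₁ hb₁ hσ₃b (D.trans (isCart_comp h₁ hE) hR hψ) ha₁ ha₃
  refine hf₁.coord_unique le_rfl ?_
  rw [res_self, ← e13, e23, e12, mul_smul]

theorem isUnit_coef {T : Scheme.{u}} (a b : T ⟶ W) (h : a ≫ E.base ≫ p = b ≫ E.base ≫ p) :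
    IsUnit (D.coef hE he a b h) :=
  IsUnit.of_mul_eq_one (D.coef hE he b a h.symm) (by
    rw [mul_comm, ← D.coef_trans hE he a b a h h.symm, D.coef_self hE he])

theorem coef_congr {T : Scheme.{u}} {a a' b b' : T ⟶ W} (ha : a = a') (hb : b = b')
    (h : a ≫ E.base ≫ p = b ≫ E.base ≫ p) :
    D.coef hE he a b h = D.coef hE he a' b' (ha ▸ hb ▸ h) := by
  subst ha; subst hb; rfl

/-- a function on the chart defining an invariant section -/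
def IsInv (n : Γ(W, ⊤)) : Prop :=
  ∀ (T : Scheme.{u}) (a b : T ⟶ W) (h : a ≫ E.base ≫ p = b ≫ E.base ≫ p),
    a.appTop n = b.appTop n * D.coef hE he a b h

/-- sections given on two parts of a chart by an invariant function correspond -/
theorem eq_of_inv_chart {n : Γ(W, ⊤)} (hn : D.IsInv hE he n) {V V' : Z.Opens} {O O' : W.Opens}
    {hO : O ≤ E.base ⁻¹ᵁ V} {hO' : O' ≤ E.base ⁻¹ᵁ V'} {s : Γ(L, V)} {s' : Γ(L, V')}
    (hs : IsAct E hO s (res LW (le_top : O ≤ ⊤) (n • e))) (hs' : IsAct E hO' s' (res LW (le_top : O' ≤ ⊤) (n • e)))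
    {T : Scheme.{u}} {M : T.Modules} {φ ψ : (⟨T, M⟩ : SM.{u}) ⟶ ⟨Z, L⟩} (hφ : IsCart φ) (hR : D.R φ ψ)
    {a : T ⟶ W} (ha : a ≫ E.base = φ.base) (haO : ∀ t, a t ∈ O)
    {a' : T ⟶ W} (ha' : a' ≫ E.base = ψ.base) (haO' : ∀ t, a' t ∈ O')
    {h₁ : ⊤ ≤ φ.base ⁻¹ᵁ V} {h₂ : ⊤ ≤ ψ.base ⁻¹ᵁ V'} {m₁ m₂ : Γ(M, ⊤)}
    (hm₁ : IsAct φ h₁ s m₁) (hm₂ : IsAct ψ h₂ s' m₂) : m₁ = m₂ := by
  have side : ∀ (χ : (⟨T, M⟩ : SM.{u}) ⟶ ⟨Z, L⟩) (V : Z.Opens) (O : W.Opens) (hO : O ≤ E.base ⁻¹ᵁ V)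
      (s : Γ(L, V)) (a : T ⟶ W) (h : ⊤ ≤ χ.base ⁻¹ᵁ V) (m : Γ(M, ⊤)), a ≫ E.base = χ.base → (∀ t, a t ∈ O) →
      IsAct E hO s (res LW (le_top : O ≤ ⊤) (n • e)) → IsCart χ → IsAct χ h s m →
      ∃ (σ : (⟨T, M⟩ : SM.{u}) ⟶ ⟨W, LW⟩) (x : Γ(M, ⊤)),
        IsCart σ ∧ σ ≫ E = χ ∧ IsAct σ (topLe σ.base) e x ∧ m = σ.base.appTop n • x := by
    intro χ V O hO s a h m hab haO hs hχ hm
    obtain ⟨σ, ⟨hσb, hσ⟩, -⟩ := existsUnique_lift hE χ a hab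
    have hσc : IsCart σ := isCart_of_comp hE (by rw [hσ]; exact hχ)
    obtain ⟨x, hx, -⟩ := exists_act hσc (topLe σ.base) e
    have hO₁ : (⊤ : T.Opens) ≤ σ.base ⁻¹ᵁ O := fun t _ => by
      show σ.base t ∈ O
      rw [hσb]
      exact haO t
    have h₂' := act_res (le_top : O ≤ ⊤) (le_refl (⊤ : T.Opens)) hO₁ (act_smul n hx)
    rw [res_self] at h₂'
    refine ⟨σ, x, hσc, hσ, hx, act_unique hχ hm ?_⟩
    have h₃ := act_congr hσ h (act_comp E hs h₂' (by rw [hσ]; exact h))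
    rw [Scheme.Hom.appTop, Scheme.Hom.app_eq_appLE]
    exact h₃
  obtain ⟨σ₁, x₁, hσ₁, hσ₁E, hx₁, rfl⟩ := side φ V O hO s a h₁ m₁ ha haO hs hφ hm₁
  obtain ⟨σ₂, x₂, hσ₂, hσ₂E, hx₂, rfl⟩ := side ψ V' O' hO' s' a' h₂ m₂ ha' haO' hs' (D.cart hR hφ) hm₂
  have hb : σ₁.base ≫ E.base ≫ p = σ₂.base ≫ E.base ≫ p := by
    have := D.base_eq hR
    rw [← hσ₁E, ← hσ₂E, CoGrothendieck.categoryStruct_comp_base, CoGrothendieck.categoryStruct_comp_base,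
      Category.assoc, Category.assoc] at this
    exact this
  rw [D.coef_spec_id hE he hb hσ₁ rfl rfl (by rw [hσ₁E, hσ₂E]; exact hR) hx₁ hx₂, ← mul_smul]
  exact congrArg (· • x₁) (hn T σ₁.base σ₂.base hb)

end coef

section ring

open TensorProduct

variable {R S : Type u} [CommRing R] [CommRing S] [Algebra R S]
  {LW : (Spec (CommRingCat.of S)).Modules} {E : (⟨Spec (CommRingCat.of S), LW⟩ : SM.{u}) ⟶ ⟨Z, L⟩}
  (hE : IsCart E) {e : Γ(LW, ⊤)} (he : IsFrame e)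
  (g : Spec (CommRingCat.of R) ⟶ Y)
  (hq : E.base ≫ p = Spec.map (CommRingCat.ofHom (algebraMap R S)) ≫ g)

/-- the point of an algebra map -/
abbrev sp {B : Type u} [CommRing B] [Algebra R B] (α : S →ₐ[R] B) : Spec (CommRingCat.of B) ⟶ Spec (CommRingCat.of S) :=
  Spec.map (CommRingCat.ofHom α.toRingHom)

include hq in
theorem sp_eq {B : Type u} [CommRing B] [Algebra R B] (α β : S →ₐ[R] B) :
    sp α ≫ E.base ≫ p = sp β ≫ E.base ≫ p := by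
  rw [hq, ← Category.assoc, ← Category.assoc, ← Spec.map_comp, ← Spec.map_comp]
  refine congrArg (Spec.map · ≫ g) ?_
  ext r
  exact (α.commutes r).trans (β.commutes r).symm

/-- the coefficient of two algebra maps -/
def kap {B : Type u} [CommRing B] [Algebra R B] (α β : S →ₐ[R] B) : B :=
  (Scheme.ΓSpecIso (CommRingCat.of B)).hom (D.coef hE he (sp α) (sp β) (sp_eq g hq α β))

theorem sp_comp {B B' : Type u} [CommRing B] [Algebra R B] [CommRing B'] [Algebra R B'] (φ : B →ₐ[R] B')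
    (α : S →ₐ[R] B) : sp (φ.comp α) = Spec.map (CommRingCat.ofHom φ.toRingHom) ≫ sp α := by
  rw [sp, sp, ← Spec.map_comp]
  rfl

include hE he hq

theorem kap_map {B B' : Type u} [CommRing B] [Algebra R B] [CommRing B'] [Algebra R B'] (φ : B →ₐ[R] B')
    (α β : S →ₐ[R] B) : φ (D.kap hE he g hq α β) = D.kap hE he g hq (φ.comp α) (φ.comp β) := by
  unfold kap
  rw [D.coef_congr hE he (sp_comp φ α) (sp_comp φ β), D.coef_nat hE he _ (sp α) (sp β) (sp_eq g hq α β)]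
  exact (congr($(Scheme.ΓSpecIso_naturality (CommRingCat.ofHom φ.toRingHom))
    (D.coef hE he (sp α) (sp β) (sp_eq g hq α β)))).symm

theorem kap_self {B : Type u} [CommRing B] [Algebra R B] (α : S →ₐ[R] B) : D.kap hE he g hq α α = 1 := by
  unfold kap
  rw [D.coef_self hE he, map_one]

theorem kap_trans {B : Type u} [CommRing B] [Algebra R B] (α β γ' : S →ₐ[R] B) :
    D.kap hE he g hq α γ' = D.kap hE he g hq β γ' * D.kap hE he g hq α β := by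
  unfold kap
  rw [D.coef_trans hE he (sp α) (sp β) (sp γ') (sp_eq g hq α β) (sp_eq g hq β γ'), map_mul]

/-- first factor -/
abbrev inlA : S →ₐ[R] S ⊗[R] S := Algebra.TensorProduct.includeLeft

/-- second factor -/
abbrev inrA : S →ₐ[R] S ⊗[R] S := Algebra.TensorProduct.includeRight

/-- the coaction -/
def coact : S →ₗ[S] S ⊗[R] S where
  toFun n := inlA (R := R) n * D.kap hE he g hq inrA inlA
  map_add' a b := by rw [map_add, add_mul]
  map_smul' s n := by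
    simp only [RingHom.id_apply]
    rw [← smul_mul_assoc]
    congr 1

theorem coact_coassoc : DescLib.ModDesc.Coassoc ((D.coact hE he g hq).restrictScalars R) := by
  intro n
  let κ₂ := D.kap hE he g hq (inrA (R := R) (S := S)) inlA
  let e₁₂ : S ⊗[R] S →ₐ[R] S ⊗[R] (S ⊗[R] S) := Algebra.TensorProduct.map (AlgHom.id R S) inlA
  let e₁₃ : S ⊗[R] S →ₐ[R] S ⊗[R] (S ⊗[R] S) := Algebra.TensorProduct.map (AlgHom.id R S) inrA
  let e₂₃ : S ⊗[R] S →ₐ[R] S ⊗[R] (S ⊗[R] S) := Algebra.TensorProduct.includeRight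
  let ρ := (D.coact hE he g hq).restrictScalars R
  have h1 : ∀ z, ρ.lTensor S z = e₁₂ z * e₂₃ κ₂ := fun z => by
    induction z using TensorProduct.induction_on with
    | zero => simp
    | tmul a b =>
      rw [LinearMap.lTensor_tmul]
      show a ⊗ₜ (inlA (R := R) b * κ₂) = (a ⊗ₜ[R] inlA (R := R) b) * ((1 : S) ⊗ₜ[R] κ₂)
      rw [Algebra.TensorProduct.tmul_mul_tmul, mul_one]
    | add z w hz hw => rw [map_add, map_add, hz, hw, add_mul]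
  have h2 : ∀ z, (TensorProduct.mk R S S 1).lTensor S z = e₁₃ z := fun z => by
    induction z using TensorProduct.induction_on with
    | zero => simp
    | tmul a b => rfl
    | add z w hz hw => rw [map_add, map_add, hz, hw]
  rw [h1, h2]
  show e₁₂ (inlA (R := R) n * κ₂) * e₂₃ κ₂ = e₁₃ (inlA (R := R) n * κ₂)
  rw [map_mul, map_mul, show e₁₂ (inlA (R := R) n) = e₁₃ (inlA (R := R) n) from rfl, _root_.mul_assoc]
  congr 1
  let q₁ := e₁₂.comp (inlA (R := R) (S := S))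
  let q₂ := e₁₂.comp (inrA (R := R) (S := S))
  let q₃ := e₁₃.comp (inrA (R := R) (S := S))
  have hq₁ : e₁₃.comp (inlA (R := R) (S := S)) = q₁ := AlgHom.ext fun s => rfl
  have hq₂ : e₂₃.comp (inlA (R := R) (S := S)) = q₂ := AlgHom.ext fun s => rfl
  have hq₃ : e₂₃.comp (inrA (R := R) (S := S)) = q₃ := AlgHom.ext fun s => rfl
  rw [D.kap_map hE he g hq e₁₂, D.kap_map hE he g hq e₁₃, D.kap_map hE he g hq e₂₃, hq₁, hq₂, hq₃,
    D.kap_trans hE he g hq q₃ q₂ q₁]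

theorem coact_counit (n : S) : LinearMap.liftBaseChange S (LinearMap.id : S →ₗ[R] S) (D.coact hE he g hq n) = n := by
  let μ' : S ⊗[R] S →ₐ[R] S := Algebra.TensorProduct.lmul' R
  have h : ∀ z : S ⊗[R] S, LinearMap.liftBaseChange S (LinearMap.id : S →ₗ[R] S) z = μ' z := fun z => by
    induction z using TensorProduct.induction_on with
    | zero => simp
    | tmul a b => simp [μ']
    | add z w hz hw => rw [map_add, map_add, hz, hw]
  rw [h]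
  show μ' (inlA (R := R) n * D.kap hE he g hq inrA inlA) = n
  rw [map_mul, D.kap_map hE he g hq μ', show μ'.comp (inrA (R := R) (S := S)) = AlgHom.id R S from
      AlgHom.ext fun s => by simp [μ'], show μ'.comp (inlA (R := R) (S := S)) = AlgHom.id R S from
      AlgHom.ext fun s => by simp [μ'], D.kap_self hE he g hq, mul_one]
  simp [μ']

/-- invariant functions avoid every prime -/
theorem exists_inv_notMem [Module.FaithfullyFlat R S] [Mono g] (P : PrimeSpectrum S) :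
    ∃ m : S, m ∉ P.asIdeal ∧ D.IsInv hE he ((Scheme.ΓSpecIso (CommRingCat.of S)).inv m) := by
  obtain ⟨x, hx⟩ := (DescLib.ModDesc.bijective_liftBaseChange (D.coact hE he g hq)
    DescLib.ModDesc.univInjective_of_faithfullyFlat (D.coact_coassoc hE he g hq) (D.coact_counit hE he g hq)).2 1
  by_contra H
  push Not at H
  have hmem : ∀ m ∈ DescLib.ModDesc.inv ((D.coact hE he g hq).restrictScalars R), m ∈ P.asIdeal := by
    intro m hm
    by_contra hmP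
    refine H m hmP fun T a b h => ?_
    rw [DescLib.ModDesc.mem_inv] at hm
    let K := CommRingCat.of (S ⊗[R] S)
    have h0 : a ≫ Spec.map (CommRingCat.ofHom (algebraMap R S)) = b ≫ Spec.map (CommRingCat.ofHom (algebraMap R S)) := by
      rw [← cancel_mono g, Category.assoc, Category.assoc, ← hq]
      exact h
    obtain ⟨t, ha, hb⟩ := exists_lift_tensor R S a b h0
    have hm' : inlA (R := R) m * D.kap hE he g hq inrA inlA = inrA (R := R) m := hm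
    let s0 := (Scheme.ΓSpecIso (CommRingCat.of S)).inv m
    have key : (sp (inlA (R := R) (S := S))).appTop s0 *
        D.coef hE he (sp inrA) (sp inlA) (sp_eq g hq inrA inlA) = (sp (inrA (R := R) (S := S))).appTop s0 := by
      have h' := congrArg (Scheme.ΓSpecIso K).inv hm'
      rw [map_mul, kap] at h'
      have e1 : ∀ φ : S →ₐ[R] S ⊗[R] S, (Scheme.ΓSpecIso K).inv (φ m) = (sp φ).appTop s0 := fun φ =>
        congr($(Scheme.ΓSpecIso_inv_naturality (CommRingCat.ofHom φ.toRingHom)) m)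
      rw [e1, e1, Iso.hom_inv_id_apply] at h'
      exact h'
    have h' := congrArg t.appTop key
    have e2 : ∀ φ : S →ₐ[R] S ⊗[R] S, t.appTop ((sp φ).appTop s0) = (t ≫ sp φ).appTop s0 := fun φ =>
      congr($((Scheme.Hom.comp_appTop t (sp φ)).symm) s0)
    subst ha hb
    rw [map_mul, ← D.coef_nat hE he t _ _ (sp_eq g hq inrA inlA) h.symm, e2, e2] at h'
    rw [← h', _root_.mul_assoc]
    exact ((congrArg (_ * ·) ((D.coef_trans hE he _ _ _ h h.symm).symm.trans (D.coef_self hE he _))).trans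
      (mul_one _)).symm
  refine P.2.ne_top ((Ideal.eq_top_iff_one _).2 ?_)
  rw [← hx]
  clear hx
  induction x using TensorProduct.induction_on with
  | zero => simp
  | tmul a m =>
    rw [LinearMap.liftBaseChange_tmul]
    exact Ideal.mul_mem_left _ a (hmem m.1 m.2)
  | add z w hz hw => rw [map_add]; exact Ideal.add_mem _ hz hw

end ring

end Datum

section glue

/-- functions on a member and on its copy in a chart correspond -/
theorem bijective_appLE_of_comp_eq {Z W : Scheme.{u}} {V : Z.Opens} (w : W ⟶ Z) (o : V.toScheme ⟶ W)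
    [IsOpenImmersion o] (how : o ≫ w = V.ι) (hle : o.opensRange ≤ w ⁻¹ᵁ V) :
    Function.Bijective (w.appLE V o.opensRange hle) := by
  have ho : (⊤ : V.toScheme.Opens) ≤ o ⁻¹ᵁ o.opensRange := fun x _ => ⟨x, rfl⟩
  haveI := o.isIso_app o.opensRange le_rfl
  haveI : IsIso (homOfLE ho : (⊤ : V.toScheme.Opens) ⟶ o ⁻¹ᵁ o.opensRange) :=
    ⟨homOfLE le_top, Subsingleton.elim _ _, Subsingleton.elim _ _⟩
  haveI : IsIso (o.appLE o.opensRange ⊤ ho) := by rw [Scheme.Hom.appLE]; infer_instance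
  have hι : (⊤ : V.toScheme.Opens) ≤ V.ι ⁻¹ᵁ V := fun x _ => x.2
  haveI := V.ι.isIso_app V V.opensRange_ι.ge
  haveI : IsIso (homOfLE hι : (⊤ : V.toScheme.Opens) ⟶ V.ι ⁻¹ᵁ V) :=
    ⟨homOfLE le_top, Subsingleton.elim _ _, Subsingleton.elim _ _⟩
  haveI : IsIso (V.ι.appLE V ⊤ hι) := by rw [Scheme.Hom.appLE]; infer_instance
  have e : w.appLE V o.opensRange hle ≫ o.appLE o.opensRange ⊤ ho = V.ι.appLE V ⊤ hι := by
    rw [Scheme.Hom.appLE_comp_appLE]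
    exact appLE_congr_hom how _ _ _ _
  haveI : IsIso (w.appLE V o.opensRange hle) := by
    haveI : IsIso (w.appLE V o.opensRange hle ≫ o.appLE o.opensRange ⊤ ho) := by rw [e]; infer_instance
    exact IsIso.of_isIso_comp_right _ (o.appLE o.opensRange ⊤ ho)
  exact ConcreteCategory.bijective_of_isIso _

variable {Z : Scheme.{u}} {L : Z.Modules}

/-- a scalar multiple of a restricted section -/
theorem act_smul_res {A B : Scheme.{u}} {P : A.Modules} {Q : B.Modules} {φ : (⟨A, P⟩ : SM.{u}) ⟶ ⟨B, Q⟩}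
    {V : B.Opens} {W W' : A.Opens} {h : W ≤ φ.base ⁻¹ᵁ V} (hW : W ≤ W') {n : Γ(A, W')} {e : Γ(P, W')}
    {d : Γ(B, V)} {x : Γ(P, W)} {s : Γ(Q, V)}
    (hd : φ.base.appLE V W h d = resR hW n) (hx : res P hW e = x) (hs : IsAct φ h s x) :
    IsAct φ h (d • s) (res P hW (n • e)) := by
  rw [res_smul, hx, ← hd]
  exact act_smul d hs

/-- sections acting equally along an open inclusion are equal -/
theorem eq_of_act_ι {V V' : Z.Opens} (hV : V ≤ V') {e : Γ(L, V')} (he : IsFrame e)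
    (h : (⊤ : V.toScheme.Opens) ≤ V.ι ⁻¹ᵁ V) {s s' : Γ(L, V)} {m : Γ((Scheme.Modules.pullback V.ι).obj L, ⊤)}
    (hs : IsAct (mkHom (M := (Scheme.Modules.pullback V.ι).obj L) (N := L) V.ι (𝟙 _)) h s m)
    (hs' : IsAct (mkHom (M := (Scheme.Modules.pullback V.ι).obj L) (N := L) V.ι (𝟙 _)) h s' m) : s = s' := by
  let ρ := mkHom (M := (Scheme.Modules.pullback V.ι).obj L) (N := L) V.ι (𝟙 _)
  have hρ : IsCart ρ := isCart_mkHom _ _
  obtain ⟨r, hr⟩ := he.exists_coord hV s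
  obtain ⟨r', hr'⟩ := he.exists_coord hV s'
  obtain ⟨x, hx, -⟩ := exists_act hρ h (res L hV e)
  have hxf := isFrame_of_act hρ (he.res hV) hx
  have e1 : m = V.ι.appLE V ⊤ h r • x := act_unique hρ (hr ▸ hs) (act_smul r hx)
  have e2 : m = V.ι.appLE V ⊤ h r' • x := act_unique hρ (hr' ▸ hs') (act_smul r' hx)
  have hrr : r = r' := appLE_ι_injective h (hxf.coord_unique le_rfl (by rw [res_self]; exact e1.symm.trans e2))
  rw [hr, hr', hrr]

end glue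

variable {Z Y : Scheme.{u}} {p : Z ⟶ Y} {L : Z.Modules} (D : Datum p L)

/-- invariance of a section -/
def IsInvSec {P : Z.Opens} (s : Γ(L, P)) : Prop :=
  ∀ (T : Scheme.{u}) (M : T.Modules) (φ ψ : (⟨T, M⟩ : SM.{u}) ⟶ ⟨Z, L⟩), IsCart φ → D.R φ ψ →
    ∀ (h₁ : ⊤ ≤ φ.base ⁻¹ᵁ P) (h₂ : ⊤ ≤ ψ.base ⁻¹ᵁ P) (m₁ m₂ : Γ(M, ⊤)),
      IsAct φ h₁ s m₁ → IsAct ψ h₂ s m₂ → m₁ = m₂

variable [Flat p] [Surjective p] [QuasiCompact p]

/-- an invariant frame from an invariant function on a chart -/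
theorem exists_frame_of_chart (hq : Topology.IsQuotientMap p) {U : Y.Opens} {y : Y} (hyU : y ∈ U) {ι : Type u}
    (Wz : ι → Z.Opens) (hWU : ∀ z, Wz z ≤ p ⁻¹ᵁ U) (hcov : ∀ z₀, p z₀ ∈ U → ∃ z, z₀ ∈ Wz z)
    (ez : ∀ z, Γ(L, Wz z)) (hez : ∀ z, IsFrame (ez z)) (d : ∀ z, Γ(Z, Wz z))
    {W : Scheme.{u}} (O : ι → W.Opens) (w : W ⟶ Z) (hOW : ∀ z, O z ≤ w ⁻¹ᵁ Wz z)
    (hsurj : ∀ z₀, p z₀ ∈ U → ∃ z x, x ∈ O z ∧ w x = z₀) (hO : ∀ z, ∀ z₁ ∈ Wz z, ∃ x, x ∈ O z ∧ w x = z₁) (n : Γ(W, ⊤))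
    (hd : ∀ z, w.appLE (Wz z) (O z) (hOW z) (d z) = resR (le_top : O z ≤ ⊤) n)
    {x₀ : W} (hwx : p (w x₀) = y) (hnx₀ : x₀ ∈ W.basicOpen n)
    (hinv' : ∀ (T : Scheme.{u}) (a b : T ⟶ W), a ≫ w ≫ p = b ≫ w ≫ p → ∃ c, a.appTop n = b.appTop n * c)
    (key : ∀ (T : Scheme.{u}) (M : T.Modules) (φ ψ : (⟨T, M⟩ : SM.{u}) ⟶ ⟨Z, L⟩), IsCart φ → D.R φ ψ →
      ∀ (z z' : ι) (h₁ : ⊤ ≤ φ.base ⁻¹ᵁ Wz z) (h₂ : ⊤ ≤ ψ.base ⁻¹ᵁ Wz z') (m₁ m₂ : Γ(M, ⊤)),
        IsAct φ h₁ (d z • ez z) m₁ → IsAct ψ h₂ (d z' • ez z') m₂ → m₁ = m₂) :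
    ∃ V : Y.Opens, y ∈ V ∧ ∃ s : Γ(L, p ⁻¹ᵁ V), IsFrame s ∧ IsInvSec D s := by
  classical
  -- glue on the preimage
  let P := p ⁻¹ᵁ U
  obtain ⟨s, hs, -⟩ := existsUnique_glue (M := L) (V := P) (fun z : ι => Wz z) (fun z => hWU z)
    (fun z₀ hz => by
      exact hcov z₀ hz) (fun z => d z • ez z) fun z z' => by
      let T := Wz z ⊓ Wz z'
      let ρ := mkHom (M := (Scheme.Modules.pullback T.ι).obj L) (N := L) T.ι (𝟙 _)
      have hρ : IsCart ρ := isCart_mkHom _ _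
      have hT : (⊤ : T.toScheme.Opens) ≤ ρ.base ⁻¹ᵁ T := fun x _ => x.2
      obtain ⟨a₁, ha₁, -⟩ := exists_act hρ (show (⊤ : T.toScheme.Opens) ≤ ρ.base ⁻¹ᵁ Wz z from fun x _ => x.2.1) (d z • ez z)
      obtain ⟨a₂, ha₂, -⟩ := exists_act hρ (show (⊤ : T.toScheme.Opens) ≤ ρ.base ⁻¹ᵁ Wz z' from fun x _ => x.2.2) (d z' • ez z')
      have hk := key _ _ ρ ρ hρ (D.refl ρ hρ) z z' _ _ a₁ a₂ ha₁ ha₂
      subst hk
      have b₁ := act_res (inf_le_left : T ≤ Wz z) (le_refl (⊤ : T.toScheme.Opens)) hT ha₁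
      have b₂ := act_res (inf_le_right : T ≤ Wz z') (le_refl (⊤ : T.toScheme.Opens)) hT ha₂
      exact eq_of_act_ι (inf_le_left : T ≤ Wz z) (hez z) hT b₁ b₂
  -- the good locus
  let Good : Z.Opens := ⨆ z : ι, Z.basicOpen (d z)
  have hsat : ∀ (x₀ : W), x₀ ∈ W.basicOpen n → p (w x₀) ∈ U → ∀ z₂ : Z, p z₂ = p (w x₀) → z₂ ∈ Good := by
    intro x₀ hnx₀ hxU z₂ hz₂
    obtain ⟨z, x, hxO, hx⟩ := hsurj z₂ (hz₂.symm ▸ hxU)
    refine Opens.mem_iSup.2 ⟨z, ?_⟩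
    -- transport the non-vanishing
    have hqe : (w ≫ p) x₀ = (w ≫ p) x := by
      rw [Scheme.Hom.comp_apply, Scheme.Hom.comp_apply, hx, hz₂]
    obtain ⟨r, hr₁, hr₂⟩ := Scheme.Pullback.exists_preimage_pullback (f := w ≫ p) (g := w ≫ p) x₀ x hqe
    obtain ⟨c, h⟩ := hinv' _ (pullback.fst (w ≫ p) (w ≫ p)) (pullback.snd (w ≫ p) (w ≫ p)) pullback.condition
    have h1 : r ∈ (pullback.fst (w ≫ p) (w ≫ p)) ⁻¹ᵁ W.basicOpen n := by
      show (pullback.fst (w ≫ p) (w ≫ p)) r ∈ W.basicOpen n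
      rw [hr₁]; exact hnx₀
    rw [Scheme.preimage_basicOpen_top, h, Scheme.basicOpen_mul, ← Scheme.preimage_basicOpen_top] at h1
    have hxn : x ∈ W.basicOpen n := hr₂ ▸ h1.1
    have h2 : x ∈ W.basicOpen (w.appLE (Wz z) (O z) (hOW z) (d z)) := by
      rw [hd z]
      exact (Scheme.basicOpen_res _ _ _).ge ⟨hxO, hxn⟩
    rw [Scheme.basicOpen_appLE] at h2
    exact hx ▸ h2.2
  have hgood : ∀ z₂ : Z, p z₂ = y → z₂ ∈ Good := fun z₂ hz₂ =>
    hsat x₀ hnx₀ (hwx.symm ▸ hyU) z₂ (hz₂.trans hwx.symm)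
  have hclass : ∀ z₁ z₂ : Z, z₁ ∈ Good → p z₁ ∈ U → p z₂ = p z₁ → z₂ ∈ Good := by
    intro z₁ z₂ h₁ hU₁ h₁₂
    obtain ⟨z, hz⟩ := Opens.mem_iSup.1 h₁
    obtain ⟨x, hxO, rfl⟩ := hO z z₁ (Z.basicOpen_le _ hz)
    refine hsat x ?_ hU₁ z₂ h₁₂
    have h2 : x ∈ W.basicOpen (w.appLE (Wz z) (O z) (hOW z) (d z)) := by
      rw [Scheme.basicOpen_appLE]
      exact ⟨hxO, hz⟩
    rw [hd z] at h2
    exact ((Scheme.basicOpen_res _ _ _).le h2).2
  let Bad : Set Z := (Good : Set Z)ᶜ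
  have hopen : IsOpen {v : Y | v ∈ U ∧ ∀ z₂ : Z, p z₂ = v → z₂ ∈ Good} := by
    rw [← hq.isOpen_preimage]
    have he : p ⁻¹' {v : Y | v ∈ U ∧ ∀ z₂ : Z, p z₂ = v → z₂ ∈ Good} = ↑(P ⊓ Good) :=
      Set.ext fun z₁ => ⟨fun h => ⟨h.1, h.2 z₁ rfl⟩, fun h => ⟨h.1, fun z₂ e => hclass z₁ z₂ h.2 h.1 e⟩⟩
    rw [he]
    exact (P ⊓ Good).isOpen
  let V : Y.Opens := ⟨_, hopen⟩
  have hyV : y ∈ V := ⟨hyU, hgood⟩
  have hVP : p ⁻¹ᵁ V ≤ P := fun x hx => hx.1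
  refine ⟨V, hyV, res L hVP s, H23.TrivBasic.isFrame_of_germwise fun z₂ hz₂ => ?_, ?_⟩
  · have hgd : z₂ ∈ Good := by
      exact hz₂.2 z₂ rfl
    obtain ⟨z, hz⟩ := Opens.mem_iSup.1 hgd
    refine ⟨p ⁻¹ᵁ V ⊓ Z.basicOpen (d z), inf_le_left, ⟨hz₂, hz⟩, ?_⟩
    have hle : p ⁻¹ᵁ V ⊓ Z.basicOpen (d z) ≤ Wz z := inf_le_right.trans (Z.basicOpen_le _)
    have h1 : res L hle (res L (hWU z) s) = resR hle (d z) • res L hle (ez z) := by
      rw [hs z, res_smul]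
    rw [res_res] at h1
    rw [res_res, h1]
    refine ((hez z).res hle).isUnit_smul ?_
    have hb : IsUnit (resR (Z.basicOpen_le (d z)) (d z)) := RingedSpace.isUnit_res_basicOpen Z.toRingedSpace (d z)
    have hb' := hb.map (resR (inf_le_right : p ⁻¹ᵁ V ⊓ Z.basicOpen (d z) ≤ Z.basicOpen (d z)))
    rwa [resR_resR] at hb'
  · intro T M φ ψ hφ hR h₁ h₂ m₁ m₂ hm₁ hm₂
    have hm₁P := act_res (le_refl (p ⁻¹ᵁ V)) (le_refl (⊤ : T.Opens)) h₁ hm₁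
    -- coordinates
    have hf : IsFrame m₁ := isFrame_of_act hφ (H23.TrivBasic.isFrame_of_germwise fun z₂ hz₂ => by
      obtain ⟨z, hz⟩ := Opens.mem_iSup.1 (show z₂ ∈ Good by
        exact hz₂.2 z₂ rfl)
      refine ⟨p ⁻¹ᵁ V ⊓ Z.basicOpen (d z), inf_le_left, ⟨hz₂, hz⟩, ?_⟩
      have hle : p ⁻¹ᵁ V ⊓ Z.basicOpen (d z) ≤ Wz z := inf_le_right.trans (Z.basicOpen_le _)
      have h1 : res L hle (res L (hWU z) s) = resR hle (d z) • res L hle (ez z) := by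
        rw [hs z, res_smul]
      rw [res_res] at h1
      rw [res_res, h1]
      refine ((hez z).res hle).isUnit_smul ?_
      have hb : IsUnit (resR (Z.basicOpen_le (d z)) (d z)) := RingedSpace.isUnit_res_basicOpen Z.toRingedSpace (d z)
      have hb' := hb.map (resR (inf_le_right : p ⁻¹ᵁ V ⊓ Z.basicOpen (d z) ≤ Z.basicOpen (d z)))
      rwa [resR_resR] at hb') hm₁
    obtain ⟨r, hr⟩ := hf.exists_coord le_rfl m₂
    rw [res_self] at hr
    suffices h : r = 1 by rw [hr, h, one_smul]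
    refine AVTheta.eq_of_local fun t => ?_
    obtain ⟨z, hzz⟩ := hcov _ ((h₁ (show t ∈ (⊤ : T.Opens) from trivial)).1)
    obtain ⟨z', hzz'⟩ := hcov _ ((h₂ (show t ∈ (⊤ : T.Opens) from trivial)).1)
    let T' : T.Opens := φ.base ⁻¹ᵁ Wz z ⊓ ψ.base ⁻¹ᵁ Wz z'
    refine ⟨T', ⟨hzz, hzz'⟩, ?_⟩
    let τ := mkHom (M := (Scheme.Modules.pullback T'.ι).obj M) (N := M) T'.ι (𝟙 _)
    have hτ : IsCart τ := isCart_mkHom _ _
    obtain ⟨ν, hν, -⟩ := exists_act hτ (topLe T'.ι) m₁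
    have hνf := isFrame_of_act hτ hf hν
    have hν₂ := act_smul r hν
    rw [← hr] at hν₂
    have c₁ := act_comp φ hm₁ hν (fun x _ => h₁ (show τ.base x ∈ (⊤ : T.Opens) from trivial))
    have c₂ := act_comp ψ hm₂ hν₂ (fun x _ => h₂ (show τ.base x ∈ (⊤ : T.Opens) from trivial))
    have lw₁ : (⊤ : T'.toScheme.Opens) ≤ (τ ≫ φ).base ⁻¹ᵁ Wz z := fun x _ => x.2.1
    have lw₂ : (⊤ : T'.toScheme.Opens) ≤ (τ ≫ ψ).base ⁻¹ᵁ Wz z' := fun x _ => x.2.2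
    obtain ⟨a₁, ha₁, -⟩ := exists_act (isCart_comp hτ hφ) lw₁ (d z • ez z)
    obtain ⟨a₂, ha₂, -⟩ := exists_act (isCart_comp hτ (D.cart hR hφ)) lw₂ (d z' • ez z')
    have conv : ∀ (χ : (⟨T'.toScheme, (Scheme.Modules.pullback T'.ι).obj M⟩ : SM.{u}) ⟶ ⟨Z, L⟩) (z : ι)
        (hP : (⊤ : T'.toScheme.Opens) ≤ χ.base ⁻¹ᵁ p ⁻¹ᵁ V) (hW : (⊤ : T'.toScheme.Opens) ≤ χ.base ⁻¹ᵁ Wz z)
        (a b : Γ((Scheme.Modules.pullback T'.ι).obj M, ⊤)), IsCart χ → IsAct χ hP (res L hVP s) a →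
          IsAct χ hW (d z • ez z) b → a = b := by
      intro χ z hP hW a b hχ ha hb
      have hPW : (⊤ : T'.toScheme.Opens) ≤ χ.base ⁻¹ᵁ (p ⁻¹ᵁ V ⊓ Wz z) := fun x hx => ⟨hP hx, hW hx⟩
      have a' := act_res (inf_le_left : p ⁻¹ᵁ V ⊓ Wz z ≤ p ⁻¹ᵁ V) (le_refl (⊤ : T'.toScheme.Opens)) hPW ha
      have b' := act_res (inf_le_right : p ⁻¹ᵁ V ⊓ Wz z ≤ Wz z) (le_refl (⊤ : T'.toScheme.Opens)) hPW hb
      rw [res_self] at a' b'
      rw [← hs z, res_res] at b'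
      rw [res_res] at a'
      exact act_unique hχ a' b'
    have e₁ := conv _ z _ lw₁ ν a₁ (isCart_comp hτ hφ) c₁ ha₁
    have e₂ := conv _ z' _ lw₂ _ a₂ (isCart_comp hτ (D.cart hR hφ)) c₂ ha₂
    have e₁₂ := key _ _ _ _ (isCart_comp hτ hφ) (D.precomp τ hτ hφ hR) z z' lw₁ lw₂ a₁ a₂ ha₁ ha₂
    rw [map_one]
    refine hνf.coord_unique le_rfl ?_
    rw [res_self, one_smul, Scheme.Hom.appTop, Scheme.Hom.app_eq_appLE]
    exact (e₂.trans e₁₂.symm).trans e₁.symm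

/-- near every point of the base there is an invariant frame -/
theorem exists_invariant_frame (hL : PicF.IsInvertible L) (y : Y) :
    ∃ V : Y.Opens, y ∈ V ∧ ∃ s : Γ(L, p ⁻¹ᵁ V), IsFrame s ∧ IsInvSec D s := by
  classical
  obtain ⟨U, hU, hyU, -⟩ := exists_isAffineOpen_mem_and_subset (show y ∈ (⊤ : Y.Opens) from trivial)
  -- a finite cover by trivialising affines
  have hloc : ∀ z : (p ⁻¹ᵁ U : Z.Opens), ∃ W : Z.Opens, IsAffineOpen W ∧ z.1 ∈ W ∧ W ≤ p ⁻¹ᵁ U ∧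
      ∃ e : Γ(L, W), IsFrame e := fun z => by
    obtain ⟨W₀, hz, e, he⟩ := InvX.exists_frame hL z.1
    obtain ⟨W, hW, hzW, hle⟩ := exists_isAffineOpen_mem_and_subset (show z.1 ∈ W₀ ⊓ p ⁻¹ᵁ U from ⟨hz, z.2⟩)
    exact ⟨W, hW, hzW, fun x hx => (hle hx).2, _, he.res (fun x hx => (hle hx).1)⟩
  choose Wz hWaff hzW hWU ez hez using hloc
  obtain ⟨fs, hfs⟩ := (p.isCompact_preimage hU.isCompact).elim_finite_subcover (fun z => (Wz z : Set Z))
    (fun z => (Wz z).2) (fun z hz => Set.mem_iUnion.2 ⟨⟨z, hz⟩, hzW ⟨z, hz⟩⟩)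
  let X : fs → Scheme.{u} := fun z => (Wz z.1).toScheme
  haveI : ∀ z, IsAffine (X z) := fun z => hWaff z.1
  let j₀ : (∐ X) ⟶ Z := Sigma.desc fun z => (Wz z.1).ι
  let S : Type u := Γ(∐ X, ⊤)
  let w : Spec (CommRingCat.of S) ⟶ Z := (∐ X).isoSpec.inv ≫ j₀
  let O : fs → (Spec (CommRingCat.of S)).Opens := fun z => (Sigma.ι X z ≫ (∐ X).isoSpec.hom).opensRange
  have hOcov : ∀ x, ∃ z, x ∈ O z := fun x => by
    obtain ⟨z, x', hx'⟩ := (sigmaOpenCover X).exists_eq ((∐ X).isoSpec.inv x)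
    refine ⟨z, x', ?_⟩
    rw [Scheme.Hom.comp_apply]
    exact (congrArg _ hx').trans (by rw [← Scheme.Hom.comp_apply, Iso.inv_hom_id]; rfl)
  have hOW : ∀ z, O z ≤ w ⁻¹ᵁ Wz z.1 := fun z => by
    rintro _ ⟨x', rfl⟩
    show ((Sigma.ι X z ≫ (∐ X).isoSpec.hom) ≫ w) x' ∈ Wz z.1
    rw [Category.assoc, Iso.hom_inv_id_assoc, Sigma.ι_desc]
    exact x'.2
  have how : ∀ z : fs, (Sigma.ι X z ≫ (∐ X).isoSpec.hom) ≫ w = (Wz z.1).ι := fun z => by
    show (Sigma.ι X z ≫ _) ≫ _ ≫ j₀ = _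
    rw [Category.assoc, Iso.hom_inv_id_assoc, Sigma.ι_desc]
  -- lifts to the chart
  have hlift : ∀ (z : fs) (T : Scheme.{u}) (a : T ⟶ Z), (∀ x, a x ∈ Wz z.1) →
      ∃ a' : T ⟶ Spec (CommRingCat.of S), a' ≫ w = a ∧ ∀ x, a' x ∈ O z := by
    intro z T a ha
    have hr : Set.range a ⊆ Set.range (Wz z.1).ι := by
      rintro _ ⟨x, rfl⟩
      rw [Scheme.Opens.range_ι]
      exact ha x
    let a₀ : T ⟶ X z := IsOpenImmersion.lift (Wz z.1).ι a hr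
    refine ⟨a₀ ≫ Sigma.ι X z ≫ (∐ X).isoSpec.hom, ?_, fun x => ⟨a₀ x, (Scheme.Hom.comp_apply _ _ _).symm⟩⟩
    simp only [w, Category.assoc, Iso.hom_inv_id_assoc]
    rw [Sigma.ι_desc]
    exact IsOpenImmersion.lift_fac _ _ _
  -- the frame on the chart
  let LW := (Scheme.Modules.pullback w).obj L
  let E : (⟨Spec (CommRingCat.of S), LW⟩ : SM.{u}) ⟶ ⟨Z, L⟩ := mkHom w (𝟙 _)
  have hE : IsCart E := isCart_mkHom _ _
  choose eO heO using fun z : fs => (exists_act hE (hOW z) (ez z.1)).exists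
  obtain ⟨e, hee, -⟩ := existsUnique_glue (M := LW) (V := ⊤) O (fun _ => le_top) (fun x _ => hOcov x) eO
    fun z z' => by
      by_cases hzz : z = z'
      · subst hzz; rfl
      · refine eq_of_locally _ _ fun x hx => False.elim ?_
        obtain ⟨⟨x₁, h₁⟩, x₂, h₂⟩ := hx
        rw [Scheme.Hom.comp_apply] at h₁ h₂
        have h := (∐ X).isoSpec.hom.isOpenEmbedding.injective (h₁.trans h₂.symm)
        exact (disjoint_iff.1 (disjoint_opensRange_sigmaι X z z' hzz)).le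
          (show Sigma.ι X z x₁ ∈ (Sigma.ι X z).opensRange ⊓ (Sigma.ι X z').opensRange from ⟨⟨x₁, rfl⟩, x₂, h.symm⟩)
  have hfr : ∀ z : fs, IsFrame (eO z) := fun z =>
    isFrame_of_act (h := hOW z) hE (hez z.1) (heO z)
  have he : IsFrame e := H23.TrivBasic.isFrame_of_germwise fun x _ => by
    exact (hOcov x).elim fun z hz => ⟨O z, le_top, hz, by rw [hee z]; exact hfr z⟩
  -- the chart over the affine
  have hwU : Set.range (w ≫ p) ⊆ Set.range U.ι := by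
    rintro _ ⟨x, rfl⟩
    rw [Scheme.Opens.range_ι]
    obtain ⟨z, hz⟩ := hOcov x
    exact hWU z.1 (hOW z hz)
  let q : Spec (CommRingCat.of S) ⟶ Spec (CommRingCat.of Γ(Y, U)) :=
    IsOpenImmersion.lift hU.fromSpec (w ≫ p) (hwU.trans (by rw [Scheme.Opens.range_ι]; exact hU.range_fromSpec.ge))
  have hqg : q ≫ hU.fromSpec = w ≫ p := IsOpenImmersion.lift_fac _ _ _
  obtain ⟨χ, hχ⟩ := Spec.map_surjective q
  letI : Algebra Γ(Y, U) S := χ.hom.toAlgebra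
  have hsurj : ∀ z₀ : Z, p z₀ ∈ U → ∃ (z : fs) (x : Spec (CommRingCat.of S)), x ∈ O z ∧ w x = z₀ := fun z₀ h => by
    obtain ⟨z, hz, hzz⟩ := Set.mem_iUnion₂.1 (hfs h)
    refine ⟨⟨z, hz⟩, (Sigma.ι X ⟨z, hz⟩ ≫ (∐ X).isoSpec.hom) ⟨z₀, hzz⟩, ⟨_, rfl⟩, ?_⟩
    exact congr($(how ⟨z, hz⟩) ⟨z₀, hzz⟩)
  have hflat : Flat q := by
    haveI : ∀ z : fs, Flat ((Wz z.1).ι ≫ p) := fun z => inferInstance
    haveI : Flat (j₀ ≫ p) := by
      rw [IsZariskiLocalAtSource.iff_of_openCover (P := @Flat) (sigmaOpenCover X)]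
      intro z
      show Flat (Sigma.ι X z ≫ j₀ ≫ p)
      rw [← Category.assoc, Sigma.ι_desc]
      infer_instance
    haveI : Flat (q ≫ hU.fromSpec) := by
      rw [hqg]
      show Flat ((_ ≫ j₀) ≫ p)
      rw [Category.assoc]
      infer_instance
    exact MorphismProperty.of_postcomp (W := @Flat) (W' := @IsOpenImmersion) q hU.fromSpec inferInstance ‹_›
  have hqsurj : Function.Surjective q := fun v => by
    obtain ⟨z₀, hz₀⟩ := p.surjective (hU.fromSpec v)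
    obtain ⟨z, x, -, hx⟩ := hsurj z₀ (by rw [hz₀]; exact hU.range_fromSpec.le ⟨v, rfl⟩)
    refine ⟨x, hU.fromSpec.isOpenEmbedding.injective ?_⟩
    exact congr($hqg x).trans ((congrArg p hx).trans hz₀)
  haveI : Module.FaithfullyFlat Γ(Y, U) S := by
    haveI : Module.Flat Γ(Y, U) S := by
      have h := (HasRingHomProperty.Spec_iff (P := @Flat)).1 (hχ.symm ▸ hflat : Flat (Spec.map χ))
      exact h
    refine Module.FaithfullyFlat.of_comap_surjective ?_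
    rw [← hχ] at hqsurj
    exact hqsurj
  have hq : E.base ≫ p = Spec.map (CommRingCat.ofHom (algebraMap Γ(Y, U) S)) ≫ hU.fromSpec := by
    show w ≫ p = Spec.map χ ≫ hU.fromSpec
    rw [hχ, hqg]
  -- an invariant function not vanishing over the point
  obtain ⟨z₀, hz₀⟩ := p.surjective y
  obtain ⟨z₁, x₀, -, hx₀⟩ := hsurj z₀ (hz₀.symm ▸ hyU)
  obtain ⟨m, hm, hinv⟩ := D.exists_inv_notMem hE he hU.fromSpec hq x₀
  let n : Γ(Spec (CommRingCat.of S), ⊤) := (Scheme.ΓSpecIso (CommRingCat.of S)).inv m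
  have hnx₀ : x₀ ∈ (Spec (CommRingCat.of S)).basicOpen n := by
    rw [basicOpen_eq_of_affine]
    exact hm
  -- the sections on the members
  have hwbij : ∀ z : fs, Function.Bijective (w.appLE (Wz z.1) (O z) (hOW z)) := fun z =>
    bijective_appLE_of_comp_eq w (Sigma.ι X z ≫ (∐ X).isoSpec.hom) (how z) (hOW z)
  choose d hd using fun z : fs => (hwbij z).2 (resR (le_top : O z ≤ ⊤) n)
  have hEd : ∀ z : fs, IsAct E (hOW z) (d z • ez z.1) (res LW (le_top : O z ≤ ⊤) (n • e)) := fun z =>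
    act_smul_res (φ := E) (h := hOW z) (le_top : O z ≤ ⊤) (hd z) (hee z) (heO z)
  -- the compatibility
  have key : ∀ (T : Scheme.{u}) (M : T.Modules) (φ ψ : (⟨T, M⟩ : SM.{u}) ⟶ ⟨Z, L⟩), IsCart φ → D.R φ ψ →
      ∀ (z z' : fs) (h₁ : ⊤ ≤ φ.base ⁻¹ᵁ Wz z.1) (h₂ : ⊤ ≤ ψ.base ⁻¹ᵁ Wz z'.1) (m₁ m₂ : Γ(M, ⊤)),
        IsAct φ h₁ (d z • ez z.1) m₁ → IsAct ψ h₂ (d z' • ez z'.1) m₂ → m₁ = m₂ := by
    intro T M φ ψ hφ hR z z' h₁ h₂ m₁ m₂ hm₁ hm₂
    obtain ⟨a, hab, haO⟩ := hlift z T φ.base fun x => h₁ (show x ∈ (⊤ : T.Opens) from trivial)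
    obtain ⟨a', hab', haO'⟩ := hlift z' T ψ.base fun x => h₂ (show x ∈ (⊤ : T.Opens) from trivial)
    exact D.eq_of_inv_chart hE he hinv (hEd z) (hEd z') hφ hR hab haO hab' haO' hm₁ hm₂
  exact exists_frame_of_chart D (Flat.isQuotientMap_of_surjective p) hyU (fun z : fs => Wz z.1) (fun z => hWU z.1)
    (fun z₀ h => by
      obtain ⟨z, hz, hzz⟩ := Set.mem_iUnion₂.1 (hfs h)
      exact ⟨⟨z, hz⟩, hzz⟩)
    (fun z => ez z.1) (fun z => hez z.1) d O w hOW hsurj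
    (fun z z₁ hz => ⟨_, ⟨⟨z₁, hz⟩, rfl⟩, congr($(how z) ⟨z₁, hz⟩)⟩) n hd (x₀ := x₀) ((congrArg p hx₀).trans hz₀) hnx₀
    (fun T a b h => ⟨_, hinv T a b h⟩) key

/-- gluing by a cocycle, with the cartesian morphism to the glued module -/
theorem exists_glue_cart {Z Y : Scheme.{u}} (p : Z ⟶ Y) {L : Z.Modules} {V : Y → Y.Opens} (hV : ∀ y, y ∈ V y)
    (s : ∀ y, Γ(L, p ⁻¹ᵁ V y)) (hs : ∀ y, IsFrame (s y)) (t : H23.CocycleMod.Cocycle V)
    (ht : ∀ a b, res L (p.preimage_mono (inf_le_left : V a ⊓ V b ≤ V a)) (s a) =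
      p.app (V a ⊓ V b) (t.g a b : Γ(Y, V a ⊓ V b)) • res L (p.preimage_mono (inf_le_right : V a ⊓ V b ≤ V b)) (s b)) :
    ∃ M : Y.Modules, PicF.IsInvertible M ∧ ∃ e : ∀ y, Γ(M, V y), (∀ y, IsFrame (e y)) ∧
      ∃ G : (⟨Z, L⟩ : SM.{u}) ⟶ ⟨Y, M⟩, IsCart G ∧ ∃ hGb : G.base = p,
        ∀ y, IsAct G (show p ⁻¹ᵁ V y ≤ G.base ⁻¹ᵁ V y by rw [hGb]) (e y) (s y) := by
  let N := H23.CocycleMod.mod t
  have hN : PicF.IsInvertible N := H23.CocycleMod.isInvertible t (eq_top_iff.2 fun y _ => Opens.mem_iSup.2 ⟨y, hV y⟩)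
  have hf : ∀ i, IsFrame (pullElt p (H23.CocycleMod.frame t i)) := fun i =>
    isFrame_pullElt p (H23.CocycleMod.isFrame_frame t i)
  have hcov : ∀ x : Z, ∃ a, x ∈ p ⁻¹ᵁ V a := fun x => ⟨p x, hV (p x)⟩
  have hc : ∀ (a b : Y) (W : Z.Opens) (ha : W ≤ p ⁻¹ᵁ V a) (hb : W ≤ p ⁻¹ᵁ V b) (g : Γ(Z, W)),
      res L hb (s b) = g • res L ha (s a) →
        res _ hb (pullElt p (H23.CocycleMod.frame t b)) = g • res _ ha (pullElt p (H23.CocycleMod.frame t a)) := by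
    intro a b W ha hb g hg
    have hW : W ≤ p ⁻¹ᵁ (V b ⊓ V a) := fun x hx => ⟨hb hx, ha hx⟩
    have h1 := congrArg (pullElt p) (H23.CocycleMod.res_frame t b a)
    rw [pullElt_smul, ← res_pullElt p inf_le_left, ← res_pullElt p inf_le_right] at h1
    have h2 := congrArg (res _ hW) h1
    rw [res_res, res_smul, res_res] at h2
    have h3 := congrArg (res L hW) (ht b a)
    rw [res_res, res_smul, res_res] at h3
    rw [(hs a).coord_unique ha (hg.symm.trans h3)]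
    exact h2
  have hc' : ∀ (a b : Y) (W : Z.Opens) (ha : W ≤ p ⁻¹ᵁ V a) (hb : W ≤ p ⁻¹ᵁ V b) (g : Γ(Z, W)),
      res _ hb (pullElt p (H23.CocycleMod.frame t b)) = g • res _ ha (pullElt p (H23.CocycleMod.frame t a)) →
        res L hb (s b) = g • res L ha (s a) := fun a b W ha hb g h => by
    obtain ⟨g', hg'⟩ := (hs a).exists_coord ha (res L hb (s b))
    rw [(hf a).coord_unique ha (h.symm.trans (hc a b W ha hb g' hg'))]
    exact hg'
  let e : L ≅ (Scheme.Modules.pullback p).obj N :=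
    { hom := ofFrames hcov hs hc
      inv := ofFrames hcov hf hc'
      hom_inv_id := hom_ext_of_frames (fun a => p ⁻¹ᵁ V a) hcov s hs fun a => by
        show (ofFrames hcov hf hc').app (p ⁻¹ᵁ V a) ((ofFrames hcov hs hc).app (p ⁻¹ᵁ V a) (s a)) = s a
        rw [ofFrames_app, ofFrames_app]
      inv_hom_id := hom_ext_of_frames (fun a => p ⁻¹ᵁ V a) hcov (fun a => pullElt p (H23.CocycleMod.frame t a)) hf fun a => by
        show (ofFrames hcov hs hc).app (p ⁻¹ᵁ V a) ((ofFrames hcov hf hc').app (p ⁻¹ᵁ V a)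
          (pullElt p (H23.CocycleMod.frame t a))) = pullElt p (H23.CocycleMod.frame t a)
        rw [ofFrames_app, ofFrames_app] }
  refine ⟨N, hN, fun y => H23.CocycleMod.frame t y, fun y => H23.CocycleMod.isFrame_frame t y, mkHom p e.hom,
    @isCart_mkHom _ _ _ _ p e.hom e.isIso_hom, rfl, fun y => ?_⟩
  show (ofFrames hcov hs hc).app (p ⁻¹ᵁ V y) (s y) = _
  rw [ofFrames_app]
  exact (QCoh.map_id' _ _).symm

omit [Flat p] [Surjective p] [QuasiCompact p] in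
/-- effective descent from invariant frames, with the identifications -/
theorem exists_descent_of_frames (D : Datum p L) (hp : FpqcDescLib.Covers p)
    (hfr : ∀ y : Y, ∃ V : Y.Opens, y ∈ V ∧ ∃ s : Γ(L, p ⁻¹ᵁ V), IsFrame s ∧ IsInvSec D s) :
    ∃ M : Y.Modules, PicF.IsInvertible M ∧ ∃ G : (⟨Z, L⟩ : SM.{u}) ⟶ ⟨Y, M⟩, IsCart G ∧ G.base = p ∧
      ∀ {T : Scheme.{u}} {M' : T.Modules} {φ ψ : (⟨T, M'⟩ : SM.{u}) ⟶ ⟨Z, L⟩}, IsCart φ → D.R φ ψ → φ ≫ G = ψ ≫ G := by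
  choose V hV s hs hinv using hfr
  choose g hg using fun a b : Y => show ∃ g : Γ(Y, V a ⊓ V b),
      res L (p.preimage_mono (inf_le_left : V a ⊓ V b ≤ V a)) (s a) =
        p.app (V a ⊓ V b) g • res L (p.preimage_mono (inf_le_right : V a ⊓ V b ≤ V b)) (s b) by
    obtain ⟨c, hc⟩ := (hs b).exists_coord (p.preimage_mono (inf_le_right : V a ⊓ V b ≤ V b))
      (res L (p.preimage_mono (inf_le_left : V a ⊓ V b ≤ V a)) (s a))
    suffices h : ∃ d, p.app (V a ⊓ V b) d = c by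
      obtain ⟨d, rfl⟩ := h
      exact ⟨d, hc⟩
    refine exists_desc_open hp _ c fun T x₁ x₂ e h₁ h₂ => ?_
    let φ := mkHom (M := (Scheme.Modules.pullback x₁).obj L) (N := L) x₁ (𝟙 _)
    have hφ : IsCart φ := isCart_mkHom _ _
    have k₁ : (⊤ : T.Opens) ≤ φ.base ⁻¹ᵁ p ⁻¹ᵁ (V a ⊓ V b) := h₁
    obtain ⟨ψ, ⟨hψb, hψ⟩, -⟩ := D.exists_unique φ hφ x₂ e
    obtain ⟨ma, hma, -⟩ := exists_act hφ k₁ (res L (p.preimage_mono (inf_le_left : V a ⊓ V b ≤ V a)) (s a))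
    obtain ⟨mb, hmb, -⟩ := exists_act hφ k₁ (res L (p.preimage_mono (inf_le_right : V a ⊓ V b ≤ V b)) (s b))
    have hψc := D.cart hψ hφ
    have h₂' : (⊤ : T.Opens) ≤ ψ.base ⁻¹ᵁ p ⁻¹ᵁ (V a ⊓ V b) := by rw [hψb]; exact h₂
    obtain ⟨na, hna, -⟩ := exists_act hψc h₂' (res L (p.preimage_mono (inf_le_left : V a ⊓ V b ≤ V a)) (s a))
    obtain ⟨nb, hnb, -⟩ := exists_act hψc h₂' (res L (p.preimage_mono (inf_le_right : V a ⊓ V b ≤ V b)) (s b))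
    have hpair : ∀ (y : Y) (hy : V a ⊓ V b ≤ V y) (m n : Γ((Scheme.Modules.pullback x₁).obj L, ⊤)),
        IsAct φ k₁ (res L (p.preimage_mono hy) (s y)) m → IsAct ψ h₂' (res L (p.preimage_mono hy) (s y)) n → m = n := by
      intro y hy m n hm hn
      have l₁ : (⊤ : T.Opens) ≤ φ.base ⁻¹ᵁ p ⁻¹ᵁ V y := fun x hx => hy (k₁ hx)
      have l₂ : (⊤ : T.Opens) ≤ ψ.base ⁻¹ᵁ p ⁻¹ᵁ V y := fun x hx => hy (h₂' hx)
      obtain ⟨m', hm', -⟩ := exists_act hφ l₁ (s y)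
      obtain ⟨n', hn', -⟩ := exists_act hψc l₂ (s y)
      have a₁ := act_res (p.preimage_mono hy) (le_refl (⊤ : T.Opens)) k₁ hm'
      have a₂ := act_res (p.preimage_mono hy) (le_refl (⊤ : T.Opens)) h₂' hn'
      rw [res_self] at a₁ a₂
      rw [act_unique hφ hm a₁, act_unique hψc hn a₂]
      exact hinv y T _ φ ψ hφ hψ l₁ l₂ m' n' hm' hn'
    obtain rfl := hpair a inf_le_left ma na hma hna
    obtain rfl := hpair b inf_le_right mb nb hmb hnb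
    rw [hc] at hma hna
    have f₁ := act_unique hφ hma (act_smul c hmb)
    have f₂ := act_unique hψc hna (act_smul c hnb)
    have hf := isFrame_of_act hφ ((hs b).res _) hmb
    have := hf.coord_unique le_rfl (show φ.base.appLE (p ⁻¹ᵁ (V a ⊓ V b)) ⊤ k₁ c • res _ le_rfl mb =
      ψ.base.appLE (p ⁻¹ᵁ (V a ⊓ V b)) ⊤ h₂' c • res _ le_rfl mb by rw [res_self]; exact f₁.symm.trans f₂)
    exact this.trans (congr($(appLE_congr_hom hψb (p ⁻¹ᵁ (V a ⊓ V b)) ⊤ h₂' h₂) c))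
  have htr : ∀ (a b c : Y) (W : Y.Opens) (ha : W ≤ V a) (hb : W ≤ V b) (hc : W ≤ V c),
      resR (le_inf ha hc) (g a c) = resR (le_inf hb hc) (g b c) * resR (le_inf ha hb) (g a b) := by
    intro a b c W ha hb hc
    refine desc_open_injective hp W ?_
    have e : ∀ (x y : Y) (hx : W ≤ V x) (hy : W ≤ V y), res L (p.preimage_mono hx) (s x) =
        p.app W (resR (le_inf hx hy) (g x y)) • res L (p.preimage_mono hy) (s y) := by
      intro x y hx hy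
      have h := congrArg (res L (p.preimage_mono (le_inf hx hy))) (hg x y)
      rw [res_smul, res_res, res_res, PicGlue.app_resR] at h
      exact h
    refine (hs c).coord_unique (p.preimage_mono hc) ?_
    rw [map_mul, ← e a c ha hc, mul_comm, mul_smul, ← e b c hb hc, ← e a b ha hb]
  have hunit : ∀ a b, IsUnit (g a b) := by
    intro a b
    let W := V a ⊓ V b
    have h1 : resR (le_inf (inf_le_left : W ≤ V a) (inf_le_left : W ≤ V a)) (g a a) = 1 := by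
      refine desc_open_injective hp W ?_
      refine (hs a).coord_unique (p.preimage_mono (inf_le_left : W ≤ V a)) ?_
      have h := congrArg (res L (p.preimage_mono (le_inf (inf_le_left : W ≤ V a) (inf_le_left : W ≤ V a)))) (hg a a)
      rw [res_smul, res_res, PicGlue.app_resR] at h
      case h => exact le_inf inf_le_left inf_le_left
      rw [← h, map_one, one_smul]
    have h := htr a b a W inf_le_left inf_le_right inf_le_left
    rw [h1, resR_self] at h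
    exact IsUnit.of_mul_eq_one _ (by rw [mul_comm]; exact h.symm)
  let t : H23.CocycleMod.Cocycle V :=
    { g := fun a b => (hunit a b).unit
      trans := fun a b c W ha hb hc => htr a b c W ha hb hc }
  have hg' : ∀ a b, res L (p.preimage_mono (inf_le_left : V a ⊓ V b ≤ V a)) (s a) =
      p.app (V a ⊓ V b) (t.g a b : Γ(Y, V a ⊓ V b)) • res L (p.preimage_mono (inf_le_right : V a ⊓ V b ≤ V b)) (s b) :=
    fun a b => hg a b
  obtain ⟨M, hM, e, he, G, hG, hGb, hGs⟩ := exists_glue_cart p hV s hs t hg'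
  refine ⟨M, hM, G, hG, hGb, fun {T M' φ ψ} hφ hR => ?_⟩
  have hψ := D.cart hR hφ
  have hb : (φ ≫ G).base = (ψ ≫ G).base := by
    rw [CoGrothendieck.categoryStruct_comp_base, CoGrothendieck.categoryStruct_comp_base, hGb]
    exact D.base_eq hR
  -- the opens of the source
  let O : Y → T.Opens := fun a => φ.base ⁻¹ᵁ p ⁻¹ᵁ V a
  have h₁ : ∀ a, O a ≤ φ.base ⁻¹ᵁ p ⁻¹ᵁ V a := fun a => le_rfl
  have h₂ : ∀ a, O a ≤ ψ.base ⁻¹ᵁ p ⁻¹ᵁ V a := fun a => by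
    rw [← Scheme.Hom.comp_preimage, ← D.base_eq hR]
    exact le_rfl
  choose m hm _ using fun a => exists_act hφ (h₁ a) (s a)
  choose m' hm' _ using fun a => exists_act hψ (h₂ a) (s a)
  have hmm : ∀ a, m a = m' a := by
    intro a
    let τ := mkHom (M := (Scheme.Modules.pullback (O a).ι).obj M') (N := M') (O a).ι (𝟙 _)
    have hτ : IsCart τ := isCart_mkHom _ _
    have hO : (⊤ : (O a).toScheme.Opens) ≤ τ.base ⁻¹ᵁ O a := fun x _ => x.2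
    obtain ⟨x, hx, -⟩ := exists_act hτ hO (m a)
    obtain ⟨x', hx', -⟩ := exists_act hτ hO (m' a)
    have h1 := act_comp φ (hm a) hx (fun z hz => h₁ a (hO hz))
    have h2 := act_comp ψ (hm' a) hx' (fun z hz => h₂ a (hO hz))
    have hxx := hinv a _ _ (τ ≫ φ) (τ ≫ ψ) (isCart_comp hτ hφ) (D.precomp τ hτ hφ hR) _ _ x x' h1 h2
    subst hxx
    exact eq_of_act_ι le_rfl (isFrame_of_act hφ (hs a) (hm a)) hO hx hx'
  refine hom_ext_act hb O V (fun t => ⟨_, hV (p (φ.base t))⟩) (fun a => e a) m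
    (fun a => isFrame_of_act hφ (hs a) (hm a)) (fun a => ?_) (fun a => ?_) (fun a => ?_) (fun a => ?_)
  · rw [CoGrothendieck.categoryStruct_comp_base, hGb]
    exact le_rfl
  · rw [CoGrothendieck.categoryStruct_comp_base, hGb]
    exact h₂ a
  · exact act_comp G (hGs a) (hm a) _
  · rw [hmm a]
    exact act_comp G (hGs a) (hm' a) _

/-- effective descent of invertible modules -/
theorem exists_descent (D : Datum p L) (hL : PicF.IsInvertible L) :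
    ∃ M : Y.Modules, PicF.IsInvertible M ∧ Nonempty ((Scheme.Modules.pullback p).obj M ≅ L) := by
  obtain ⟨M, hM, G, hG, hGb, -⟩ := exists_descent_of_frames D
    (FpqcDescLib.covers_of_isCovering (FpqcDescLib.isCovering_of_quasiCompact p)) (exists_invariant_frame D hL)
  haveI : IsIso (show L ⟶ (Scheme.Modules.pullback G.base).obj M from G.fiber) := hG
  exact ⟨M, hM, ⟨((Scheme.Modules.pullbackCongr hGb.symm).app M) ≪≫
    (asIso (show L ⟶ (Scheme.Modules.pullback G.base).obj M from G.fiber)).symm⟩⟩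

end Groth.Agent.AVTheta.Effective

end
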