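import Groth.Agent.AVTheta.Desc

/-!
Gluing of cartesian morphisms along open coverings.
-/

noncomputable section

set_option autoImplicit false
set_option linter.style.haveILetI false
set_option linter.unusedSectionVars false
set_option backward.isDefEq.respectTransparency false
set_option backward.isDefEq.respectTransparency.types false
set_option maxHeartbeats 1000000
set_option synthInstance.maxHeartbeats 400000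

universe u

open CategoryTheory CategoryTheory.Limits AlgebraicGeometry TopologicalSpace Opposite Pseudofunctor Bicategory

namespace Groth.Agent.AVTheta

open Groth.Agent.AModX Groth.Agent.InvX

variable {X Y : Scheme.{u}} {P : X.Modules} {Q : Y.Modules}

theorem act_congr {φ φ' : (⟨X, P⟩ : SM.{u}) ⟶ ⟨Y, Q⟩} (e : φ = φ') {W : X.Opens} {V : Y.Opens}
    {h : W ≤ φ.base ⁻¹ᵁ V} (h' : W ≤ φ'.base ⁻¹ᵁ V) {s : Γ(Q, V)} {m : Γ(P, W)} (hm : IsAct φ h s m) :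
    IsAct φ' h' s m := by
  subst e; exact hm

/-- frames go to frames -/
theorem isFrame_of_act {φ : (⟨X, P⟩ : SM.{u}) ⟶ ⟨Y, Q⟩} (hφ : IsCart φ) {W : X.Opens} {V : Y.Opens}
    {h : W ≤ φ.base ⁻¹ᵁ V} {s : Γ(Q, V)} (hs : IsFrame s) {m : Γ(P, W)} (hm : IsAct φ h s m) : IsFrame m := by
  obtain ⟨w, hw, -⟩ := exists_act hφ (le_refl (φ.base ⁻¹ᵁ V)) s
  have hw' := act_res (le_refl _) h h hw
  rw [res_self] at hw'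
  rw [act_unique hφ hm hw']
  exact (isFrame_act hφ hs hw).res _

/-- morphisms agreeing on frames are equal -/
theorem hom_ext_act {φ φ' : (⟨X, P⟩ : SM.{u}) ⟶ ⟨Y, Q⟩} (hb : φ.base = φ'.base) {ι : Type u}
    (O : ι → X.Opens) (V : ι → Y.Opens) (hcov : ∀ x, ∃ i, x ∈ O i) (q : ∀ i, Γ(Q, V i)) (m : ∀ i, Γ(P, O i))
    (hm : ∀ i, IsFrame (m i)) (h : ∀ i, O i ≤ φ.base ⁻¹ᵁ V i) (h' : ∀ i, O i ≤ φ'.base ⁻¹ᵁ V i)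
    (ha : ∀ i, IsAct φ (h i) (q i) (m i)) (ha' : ∀ i, IsAct φ' (h' i) (q i) (m i)) : φ = φ' := by
  obtain ⟨b, f⟩ := φ
  obtain ⟨b', f'⟩ := φ'
  obtain rfl : b = b' := hb
  refine hom_ext_fiber rfl ?_
  rw [eqToHom_refl]
  show f = f' ≫ 𝟙 _
  rw [Category.comp_id]
  exact hom_ext_of_frames O hcov m hm fun i => (ha i).trans (ha' i).symm

theorem appLE_ι_injective {W : X.Opens} (h : (⊤ : W.toScheme.Opens) ≤ W.ι ⁻¹ᵁ W) :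
    Function.Injective (W.ι.appLE W ⊤ h) := by
  haveI := W.ι.isIso_app W W.opensRange_ι.ge
  haveI : IsIso (homOfLE h : (⊤ : W.toScheme.Opens) ⟶ W.ι ⁻¹ᵁ W) :=
    ⟨homOfLE le_top, Subsingleton.elim _ _, Subsingleton.elim _ _⟩
  have : IsIso (W.ι.appLE W ⊤ h) := by
    rw [Scheme.Hom.appLE]
    infer_instance
  exact (ConcreteCategory.bijective_of_isIso _).1

/-- on an overlap the transition functions of two pairs of corresponding frames agree -/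
theorem coef_eq {Z Z₁ Z₂ : Scheme.{u}} {P : Z.Modules} {P₁ : Z₁.Modules} {P₂ : Z₂.Modules} (g : Z ⟶ Y)
    (π₁ : (⟨Z₁, P₁⟩ : SM.{u}) ⟶ ⟨Z, P⟩) (π₂ : (⟨Z₂, P₂⟩ : SM.{u}) ⟶ ⟨Z, P⟩) (hπ₁ : IsCart π₁) (hπ₂ : IsCart π₂)
    (ho₁ : IsOpenImmersion (show Z₁ ⟶ Z from π₁.base)) (ho₂ : IsOpenImmersion (show Z₂ ⟶ Z from π₂.base))
    (φ₁ : (⟨Z₁, P₁⟩ : SM.{u}) ⟶ ⟨Y, Q⟩) (φ₂ : (⟨Z₂, P₂⟩ : SM.{u}) ⟶ ⟨Y, Q⟩) (hφ₁ : IsCart φ₁)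
    (hb₁ : φ₁.base = π₁.base ≫ g)
    (hc : ∀ (R : Scheme.{u}) (M : R.Modules) (ρ₁ : (⟨R, M⟩ : SM.{u}) ⟶ ⟨Z₁, P₁⟩)
      (ρ₂ : (⟨R, M⟩ : SM.{u}) ⟶ ⟨Z₂, P₂⟩), ρ₁ ≫ π₁ = ρ₂ ≫ π₂ → ρ₁ ≫ φ₁ = ρ₂ ≫ φ₂)
    {Va Vb : Y.Opens} {qa : Γ(Q, Va)} {qb : Γ(Q, Vb)} {W Wa Wb : Z.Opens} {pa : Γ(P, Wa)} {pb : Γ(P, Wb)}
    (hpa : IsFrame pa) (ha : W ≤ Wa) (hb : W ≤ Wb) (hra : Wa ≤ Scheme.Hom.opensRange (show Z₁ ⟶ Z from π₁.base))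
    (hrb : Wb ≤ Scheme.Hom.opensRange (show Z₂ ⟶ Z from π₂.base))
    {hga : Wa ≤ g ⁻¹ᵁ Va} {hgb : Wb ≤ g ⁻¹ᵁ Vb}
    {ma : Γ(P₁, (show Z₁ ⟶ Z from π₁.base) ⁻¹ᵁ Wa)} {mb : Γ(P₂, (show Z₂ ⟶ Z from π₂.base) ⁻¹ᵁ Wb)}
    (hπa : IsAct π₁ le_rfl pa ma) (hπb : IsAct π₂ le_rfl pb mb)
    {hla : (show Z₁ ⟶ Z from π₁.base) ⁻¹ᵁ Wa ≤ φ₁.base ⁻¹ᵁ Va} {hlb : (show Z₂ ⟶ Z from π₂.base) ⁻¹ᵁ Wb ≤ φ₂.base ⁻¹ᵁ Vb}
    (hφa : IsAct φ₁ hla qa ma) (hφb : IsAct φ₂ hlb qb mb)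
    (r : Γ(Z, W)) (hr : res P hb pb = r • res P ha pa) (s : Γ(Y, Va ⊓ Vb))
    (hs : res Q (inf_le_right : Va ⊓ Vb ≤ Vb) qb = s • res Q (inf_le_left : Va ⊓ Vb ≤ Va) qa)
    (hV : W ≤ g ⁻¹ᵁ (Va ⊓ Vb)) : g.appLE (Va ⊓ Vb) W hV s = r := by
  let M := (Scheme.Modules.pullback W.ι).obj P
  let ρ : (⟨W.toScheme, M⟩ : SM.{u}) ⟶ ⟨Z, P⟩ := mkHom W.ι (𝟙 _)
  have hρ : IsCart ρ := isCart_mkHom _ _
  let j₁ : Z₁ ⟶ Z := π₁.base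
  let j₂ : Z₂ ⟶ Z := π₂.base
  haveI : IsOpenImmersion j₁ := ho₁
  haveI : IsOpenImmersion j₂ := ho₂
  have hra' : Set.range W.ι ⊆ Set.range j₁ := by
    rw [Scheme.Opens.range_ι]
    exact fun z hz => hra (ha hz)
  have hrb' : Set.range W.ι ⊆ Set.range j₂ := by
    rw [Scheme.Opens.range_ι]
    exact fun z hz => hrb (hb hz)
  obtain ⟨ρ₁, ⟨hρ₁b, hρ₁⟩, -⟩ := existsUnique_lift hπ₁ ρ (IsOpenImmersion.lift j₁ W.ι hra')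
    (IsOpenImmersion.lift_fac j₁ W.ι hra')
  obtain ⟨ρ₂, ⟨hρ₂b, hρ₂⟩, -⟩ := existsUnique_lift hπ₂ ρ (IsOpenImmersion.lift j₂ W.ι hrb')
    (IsOpenImmersion.lift_fac j₂ W.ι hrb')
  have hk1 : IsCart ρ₁ := isCart_of_comp hπ₁ (by rw [hρ₁]; exact hρ)
  have hk2 : IsCart ρ₂ := isCart_of_comp hπ₂ (by rw [hρ₂]; exact hρ)
  have htopι : (⊤ : W.toScheme.Opens) ≤ W.ι ⁻¹ᵁ W := fun z _ => z.2
  have htop₁ : (⊤ : W.toScheme.Opens) ≤ ρ₁.base ⁻¹ᵁ (j₁ ⁻¹ᵁ Wa) := fun z _ => by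
    show (ρ₁.base ≫ j₁) z ∈ Wa
    rw [hρ₁b, IsOpenImmersion.lift_fac]
    exact ha z.2
  have htop₂ : (⊤ : W.toScheme.Opens) ≤ ρ₂.base ⁻¹ᵁ (j₂ ⁻¹ᵁ Wb) := fun z _ => by
    show (ρ₂.base ≫ j₂) z ∈ Wb
    rw [hρ₂b, IsOpenImmersion.lift_fac]
    exact hb z.2
  obtain ⟨x₁, hx₁, -⟩ := exists_act hk1 htop₁ ma
  obtain ⟨x₂, hx₂, -⟩ := exists_act hk2 htop₂ mb
  have e₁ : IsAct ρ (fun z _ => ha z.2 : (⊤ : W.toScheme.Opens) ≤ W.ι ⁻¹ᵁ Wa) pa x₁ :=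
    act_congr hρ₁ _ (act_comp π₁ (h₂ := htop₁) hπa hx₁ (fun z _ => htop₁ (show z ∈ ⊤ from trivial)))
  have e₂ : IsAct ρ (fun z _ => hb z.2 : (⊤ : W.toScheme.Opens) ≤ W.ι ⁻¹ᵁ Wb) pb x₂ :=
    act_congr hρ₂ _ (act_comp π₂ (h₂ := htop₂) hπb hx₂ (fun z _ => htop₂ (show z ∈ ⊤ from trivial)))
  have hle' : (⊤ : W.toScheme.Opens) ≤ ρ.base ⁻¹ᵁ W := htopι
  have e₁' := act_res ha (le_refl (⊤ : W.toScheme.Opens)) hle' e₁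
  have e₂' := act_res hb (le_refl (⊤ : W.toScheme.Opens)) hle' e₂
  rw [res_self] at e₁' e₂'
  rw [hr] at e₂'
  have hx21 : x₂ = W.ι.appLE W ⊤ htopι r • x₁ := act_unique hρ e₂' (act_smul r e₁')
  have hψb : (ρ₁ ≫ φ₁).base = W.ι ≫ g := by
    rw [CoGrothendieck.categoryStruct_comp_base, hb₁, hρ₁b, ← Category.assoc]
    exact congrArg (· ≫ g) (IsOpenImmersion.lift_fac j₁ W.ι hra')
  have htopψ : ∀ V : Y.Opens, W ≤ g ⁻¹ᵁ V → (⊤ : W.toScheme.Opens) ≤ (ρ₁ ≫ φ₁).base ⁻¹ᵁ V := fun V h z _ => by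
    show (ρ₁ ≫ φ₁).base z ∈ V
    rw [hψb]
    exact h z.2
  have hsame := hc W.toScheme M ρ₁ ρ₂ (hρ₁.trans hρ₂.symm)
  have f₁ : IsAct (ρ₁ ≫ φ₁) (htopψ Va (ha.trans hga)) qa x₁ := act_comp φ₁ hφa hx₁ _
  have f₂ : IsAct (ρ₁ ≫ φ₁) (htopψ Vb (hb.trans hgb)) qb x₂ := act_congr hsame.symm _
    (act_comp φ₂ hφb hx₂ (fun z _ => by
      rw [← hsame]
      exact htopψ Vb (hb.trans hgb) trivial))
  have f₁' := act_res (inf_le_left : Va ⊓ Vb ≤ Va) le_rfl (htopψ _ hV) f₁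
  have f₂' := act_res (inf_le_right : Va ⊓ Vb ≤ Vb) le_rfl (htopψ _ hV) f₂
  rw [res_self] at f₁' f₂'
  rw [hs] at f₂'
  have hx21' := act_unique (isCart_comp hk1 hφ₁) f₂' (act_smul s f₁')
  rw [hx21] at hx21'
  have hx₁f : IsFrame x₁ := isFrame_of_act hk1 (isFrame_of_act hπ₁ hpa hπa) hx₁
  have hx3 : (show Γ(W.toScheme, ⊤) from W.ι.appLE W ⊤ htopι r) • x₁ =
      (show Γ(W.toScheme, ⊤) from (ρ₁ ≫ φ₁).base.appLE (Va ⊓ Vb) ⊤ (htopψ _ hV) s) • x₁ := hx21'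
  have hx4 := congrArg (res M (le_refl ⊤)) hx3
  rw [res_smul, res_smul, resR_self, resR_self] at hx4
  have hcu : (show Γ(W.toScheme, ⊤) from W.ι.appLE W ⊤ htopι r) =
      (show Γ(W.toScheme, ⊤) from (ρ₁ ≫ φ₁).base.appLE (Va ⊓ Vb) ⊤ (htopψ _ hV) s) :=
    hx₁f.coord_unique le_rfl hx4
  apply appLE_ι_injective htopι
  rw [← ConcreteCategory.comp_apply, Scheme.Hom.appLE_comp_appLE,
    ← appLE_congr_hom hψb (Va ⊓ Vb) ⊤ (htopψ _ hV) (fun z _ => hV z.2)]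
  exact hcu.symm

/-- cartesian morphisms glue -/
theorem exists_glue_cart {Z : Scheme.{u}} {P : Z.Modules} (hP : PicF.IsInvertible P) (hQ : PicF.IsInvertible Q)
    (g : Z ⟶ Y) {κ : Type u} {Zk : κ → Scheme.{u}} {Pk : ∀ k, (Zk k).Modules}
    (π : ∀ k, (⟨Zk k, Pk k⟩ : SM.{u}) ⟶ ⟨Z, P⟩) (hπ : ∀ k, IsCart (π k))
    (hopen : ∀ k, IsOpenImmersion (show Zk k ⟶ Z from (π k).base))
    (hcov : ∀ z : Z, ∃ k, z ∈ Set.range (show Zk k ⟶ Z from (π k).base))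
    (φ : ∀ k, (⟨Zk k, Pk k⟩ : SM.{u}) ⟶ ⟨Y, Q⟩) (hφ : ∀ k, IsCart (φ k))
    (hb : ∀ k, (φ k).base = (π k).base ≫ g)
    (hc : ∀ k l (R : Scheme.{u}) (M : R.Modules) (ρ₁ : (⟨R, M⟩ : SM.{u}) ⟶ ⟨Zk k, Pk k⟩)
      (ρ₂ : (⟨R, M⟩ : SM.{u}) ⟶ ⟨Zk l, Pk l⟩), ρ₁ ≫ π k = ρ₂ ≫ π l → ρ₁ ≫ φ k = ρ₂ ≫ φ l) :
    ∃ ψ : (⟨Z, P⟩ : SM.{u}) ⟶ ⟨Y, Q⟩, IsCart ψ ∧ ψ.base = g ∧ ∀ k, π k ≫ ψ = φ k := by
  let j : ∀ k, Zk k ⟶ Z := fun k => (π k).base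
  have hlep : ∀ {k : κ} {W : Z.Opens} {V : Y.Opens}, W ≤ g ⁻¹ᵁ V → j k ⁻¹ᵁ W ≤ (φ k).base ⁻¹ᵁ V := by
    intro k W V h
    rw [hb k]
    exact fun x hx => h hx
  -- data
  let Ok : ∀ (k : κ) (V : Y.Opens) (_ : Γ(Q, V)) (W : Z.Opens) (_ : Γ(P, W)), Prop := fun k V q W p =>
    IsFrame q ∧ IsFrame p ∧ W ≤ (j k).opensRange ∧ ∃ h : W ≤ g ⁻¹ᵁ V, ∃ m : Γ(Pk k, j k ⁻¹ᵁ W),
      IsAct (π k) le_rfl p m ∧ IsAct (φ k) (hlep h) q m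
  let I : Type u := Σ (k : κ) (V : Y.Opens) (q : Γ(Q, V)) (W : Z.Opens), {p : Γ(P, W) // Ok k V q W p}
  have hdata : ∀ k (z' : Zk k), ∃ i : I, i.1 = k ∧ j k z' ∈ i.2.2.2.1 := by
    intro k z'
    obtain ⟨V, hzV, q, hq⟩ := InvX.exists_frame hQ (g (j k z'))
    obtain ⟨W₀, hzW, p₀, hp₀⟩ := InvX.exists_frame hP (j k z')
    let W := W₀ ⊓ g ⁻¹ᵁ V ⊓ (j k).opensRange
    have hW₀ : W ≤ W₀ := inf_le_left.trans inf_le_left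
    have hgV : W ≤ g ⁻¹ᵁ V := inf_le_left.trans inf_le_right
    obtain ⟨m, hm, -⟩ := exists_act (hφ k) (hlep hgV) q
    obtain ⟨m₀, hm₀, -⟩ := exists_act (hπ k) (le_refl (j k ⁻¹ᵁ W)) (res P hW₀ p₀)
    have hmf := isFrame_of_act (hφ k) hq hm
    have hm₀f := isFrame_of_act (hπ k) (hp₀.res hW₀) hm₀
    obtain ⟨c, hcc⟩ := hm₀f.exists_coord le_rfl m
    obtain ⟨c', hcc'⟩ := hmf.exists_coord le_rfl m₀
    rw [res_self] at hcc hcc'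
    haveI := (j k).isIso_app W inf_le_right
    have hbij := ConcreteCategory.bijective_of_isIso ((j k).app W)
    obtain ⟨d, hd⟩ := hbij.2 c
    have hu : IsUnit c := IsUnit.of_mul_eq_one c' (hm₀f.coord_unique le_rfl (by
      rw [res_self, one_smul, mul_comm, mul_smul, ← hcc, ← hcc']))
    have hdu : IsUnit d := by
      obtain ⟨d', hd'⟩ := hbij.2 (↑hu.unit⁻¹ : Γ(Zk k, j k ⁻¹ᵁ W))
      exact IsUnit.of_mul_eq_one d' (hbij.1 (by rw [map_mul, hd, hd', map_one, IsUnit.mul_val_inv]))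
    have hmp : IsAct (π k) le_rfl (d • res P hW₀ p₀) m := by
      have h := act_smul d hm₀
      have h2 : (j k).appLE W (j k ⁻¹ᵁ W) le_rfl d • m₀ = m := by
        rw [hcc, ← hd, ← Scheme.Hom.app_eq_appLE]
      exact h2 ▸ h
    exact ⟨⟨k, V, q, W, d • res P hW₀ p₀, hq, (hp₀.res hW₀).isUnit_smul hdu, inf_le_right, hgV, m, hmp, hm⟩, rfl,
      ⟨hzW, hzV⟩, z', rfl⟩
  have hcovI : ∀ z : Z, ∃ i : I, z ∈ i.2.2.2.1 := fun z => by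
    obtain ⟨k, z', rfl⟩ := hcov z
    obtain ⟨i, -, hi⟩ := hdata k z'
    exact ⟨i, hi⟩
  have hgle : ∀ i : I, i.2.2.2.1 ≤ g ⁻¹ᵁ i.2.1 := fun i => i.2.2.2.2.2.2.2.2.1
  let n : ∀ i : I, Γ((Scheme.Modules.pullback g).obj Q, i.2.2.2.1) := fun i => QCoh.pullSec g Q (hgle i) i.2.2.1
  have hn : ∀ i, IsFrame (n i) := fun i => (isFrame_pullElt g i.2.2.2.2.2.1).res (hgle i)
  have hcompat : ∀ (a b : I) (W : Z.Opens) (ha : W ≤ a.2.2.2.1) (hb' : W ≤ b.2.2.2.1) (r : Γ(Z, W)),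
      res P hb' b.2.2.2.2.1 = r • res P ha a.2.2.2.2.1 → res _ hb' (n b) = r • res _ ha (n a) := by
    rintro ⟨k, Va, qa, Wa, pa, hqa, hpa, hra, hga, ma, hπa, hφa⟩ ⟨l, Vb, qb, Wb, pb, hqb, hpb, hrb, hgb, mb, hπb, hφb⟩
      W ha hb' r hr
    change W ≤ Wa at ha
    change W ≤ Wb at hb'
    have hV : W ≤ g ⁻¹ᵁ (Va ⊓ Vb) := fun z hz => ⟨hga (ha hz), hgb (hb' hz)⟩
    obtain ⟨s, hs⟩ := hqa.exists_coord (inf_le_left : Va ⊓ Vb ≤ Va) (res Q (inf_le_right : Va ⊓ Vb ≤ Vb) qb)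
    have hsplit : g.appLE (Va ⊓ Vb) W hV s = r :=
      coef_eq g (π k) (π l) (hπ k) (hπ l) (hopen k) (hopen l) (φ k) (φ l) (hφ k) (hb k) (fun R M => hc k l R M)
        hpa ha hb' hra hrb (hga := hga) (hgb := hgb) hπa hπb hφa hφb r hr s hs hV
    show res _ hb' (QCoh.pullSec g Q hgb qb) = r • res _ ha (QCoh.pullSec g Q hga qa)
    refine ((ExistEasy.pullSec_res g Q (inf_le_right : Va ⊓ Vb ≤ Vb) hb' hgb hV qb).trans ?_)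
    refine Eq.trans ?_ (congrArg (r • ·) (ExistEasy.pullSec_res g Q (inf_le_left : Va ⊓ Vb ≤ Va) ha hga hV qa)).symm
    change QCoh.pullSec g Q hV (res Q _ qb) = r • QCoh.pullSec g Q hV (res Q _ qa)
    rw [hs, QCoh.pullSec_smul, hsplit]
  have hp : ∀ i : I, IsFrame i.2.2.2.2.1 := fun i => i.2.2.2.2.2.2.1
  have hcompat' : ∀ (a b : I) (W : Z.Opens) (ha : W ≤ a.2.2.2.1) (hb' : W ≤ b.2.2.2.1) (r : Γ(Z, W)),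
      res _ hb' (n b) = r • res _ ha (n a) → res P hb' b.2.2.2.2.1 = r • res P ha a.2.2.2.2.1 := by
    intro a b W ha hb' r hr
    obtain ⟨r', hr'⟩ := (hp a).exists_coord ha (res P hb' b.2.2.2.2.1)
    rw [hr', (hn a).coord_unique ha ((hcompat a b W ha hb' r' hr').symm.trans hr)]
  let h₁ : P ⟶ (Scheme.Modules.pullback g).obj Q := ofFrames hcovI hp hcompat
  let h₂ : (Scheme.Modules.pullback g).obj Q ⟶ P := ofFrames hcovI hn hcompat'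
  haveI : IsIso h₁ := by
    refine ⟨h₂, hom_ext_of_frames (fun i : I => i.2.2.2.1) hcovI _ hp fun i => ?_,
      hom_ext_of_frames (fun i : I => i.2.2.2.1) hcovI _ hn fun i => ?_⟩
    · show h₂.app _ (h₁.app _ i.2.2.2.2.1) = i.2.2.2.2.1
      rw [show h₁.app _ i.2.2.2.2.1 = n i from ofFrames_app hcovI hp hcompat i]
      exact ofFrames_app hcovI hn hcompat' i
    · show h₁.app _ (h₂.app _ (n i)) = n i
      rw [show h₂.app _ (n i) = i.2.2.2.2.1 from ofFrames_app hcovI hn hcompat' i]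
      exact ofFrames_app hcovI hp hcompat i
  refine ⟨mkHom g h₁, isCart_mkHom _ _, rfl, fun k => ?_⟩
  let Ik : Type u := {i : I // i.1 = k}
  have hkcov : ∀ x : Zk k, ∃ i : Ik, x ∈ j k ⁻¹ᵁ i.1.2.2.2.1 := fun x => by
    obtain ⟨i, hi, hx⟩ := hdata k x
    exact ⟨⟨i, hi⟩, hx⟩
  have hex : ∀ i : Ik, ∃ m : Γ(Pk k, j k ⁻¹ᵁ i.1.2.2.2.1), IsAct (π k) le_rfl i.1.2.2.2.2.1 m ∧
      IsAct (φ k) (hlep (hgle i.1)) i.1.2.2.1 m := by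
    rintro ⟨⟨k', V, q, W, p, hq, hp, hr, hgV, m, hm, hm'⟩, rfl⟩
    exact ⟨m, hm, hm'⟩
  choose m hm hm' using hex
  refine hom_ext_act (by rw [CoGrothendieck.categoryStruct_comp_base, hb k]; rfl) (fun i : Ik => j k ⁻¹ᵁ i.1.2.2.2.1)
    (fun i => i.1.2.1) hkcov (fun i => i.1.2.2.1) m (fun i => isFrame_of_act (hπ k) (hp i.1) (hm i)) ?_
    (fun i => hlep (hgle i.1)) (fun i => ?_) hm'
  · exact fun i x hx => hgle i.1 hx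
  · exact act_comp (mkHom g h₁) (h₁ := hgle i.1) (ofFrames_app hcovI hp hcompat i.1) (hm i) _

end Groth.Agent.AVTheta

end
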