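import Groth.Agent.H23.KLBasic
import Groth.Agent.FinDesc.BaseChange
import Groth.Agent.H23.BcComp
import Groth.Agent.IsogLib.DualIsog

/-!
`K(L)` commutes with base change.
-/

noncomputable section

set_option autoImplicit false
set_option linter.style.haveILetI false
set_option linter.unusedSectionVars false
set_option backward.isDefEq.respectTransparency false
set_option backward.isDefEq.respectTransparency.types false
set_option maxHeartbeats 1000000
set_option synthInstance.maxHeartbeats 400000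

universe u

open CategoryTheory CategoryTheory.Limits MonoidalCategory CartesianMonoidalCategory MonObj AlgebraicGeometry
open scoped Groth.Agent.H23.PicMul CategoryTheory.Obj

attribute [-instance] CategoryTheory.catToReflQuiver

namespace Groth.Agent.AVTheta.KLBase

open Groth.Agent.H23 Groth.Agent.H23.TrivBasic

variable {S S' : Scheme.{u}} (σ : S' ⟶ S) {A : Over S}

/-- a point of the base change, over the old base -/
def down {W : Over S'} {X : Over S} (a : W ⟶ Red.bc σ X) : FinDesc.dn σ W ⟶ X :=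
  Over.homMk (a.left ≫ pullback.fst X.hom σ) (by
    show (a.left ≫ pullback.fst X.hom σ) ≫ X.hom = W.hom ≫ σ
    have w : a.left ≫ pullback.snd X.hom σ = W.hom := Over.w a
    rw [Category.assoc, pullback.condition, reassoc_of% w])

theorem down_left {W : Over S'} {X : Over S} (a : W ⟶ Red.bc σ X) :
    (down σ a).left = a.left ≫ pullback.fst X.hom σ := rfl

theorem down_injective {W : Over S'} {X : Over S} : Function.Injective (down σ : (W ⟶ Red.bc σ X) → _) :=
  fun a b h => Over.OverMorphism.ext (pullback.hom_ext (congrArg CommaMorphism.left h) ((Over.w a).trans (Over.w b).symm))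

theorem down_map {W : Over S'} {X Y : Over S} (a : W ⟶ Red.bc σ X) (f : X ⟶ Y) :
    down σ (a ≫ (Over.pullback σ).map f) = down σ a ≫ f := by
  refine Over.OverMorphism.ext ?_
  show (a.left ≫ ((Over.pullback σ).map f).left) ≫ pullback.fst Y.hom σ = (a.left ≫ pullback.fst X.hom σ) ≫ f.left
  simp [Category.assoc]

theorem exists_lift {W : Over S'} {X : Over S} (x : FinDesc.dn σ W ⟶ X) : ∃ a : W ⟶ Red.bc σ X, down σ a = x :=
  ⟨Over.homMk (pullback.lift x.left W.hom (Over.w x)) (pullback.lift_snd _ _ _),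
    Over.OverMorphism.ext (pullback.lift_fst _ _ _)⟩

variable [GrpObj A]

theorem down_mul {W : Over S'} (a b : W ⟶ Red.bc σ A) : down σ (a * b) = down σ a * down σ b := by
  let F := Over.pullback σ
  let c : W ⟶ F.obj (A ⊗ A) := lift a b ≫ Functor.LaxMonoidal.μ F A A
  have h : a * b = c ≫ F.map μ[A] := (Category.assoc _ _ _).symm
  have hc : down σ c = lift (down σ a) (down σ b) := by
    refine CartesianMonoidalCategory.hom_ext _ _ ?_ ?_
    · rw [lift_fst, ← down_map, Category.assoc, Functor.Monoidal.μ_fst, lift_fst]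
    · rw [lift_snd, ← down_map, Category.assoc, Functor.Monoidal.μ_snd, lift_snd]
  rw [h, down_map, hc]
  rfl

/-- the condition of `K(L)` commutes with base change -/
theorem mumford_iff_bc {L : A.left.Modules} (hL : PicF.IsInvertible L) {T : Over S'} (x : T ⟶ Red.bc σ A) :
    ThetaGrp.IsMumfordTriv (Red.bc σ A) ((Scheme.Modules.pullback (pullback.fst A.hom σ)).obj L) x ↔
      ThetaGrp.IsMumfordTriv A L (down σ x) := by
  let L' := (Scheme.Modules.pullback (pullback.fst A.hom σ)).obj L
  have hL' : PicF.IsInvertible L' := PicClLib.isInvertible_pullback _ hL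
  let θ : ((Red.bc σ A) ⊗ T).left ⟶ (A ⊗ FinDesc.dn σ T).left := (AgPol.bcXTIso σ A T).hom
  let θ' : FinDesc.dn σ ((Red.bc σ A) ⊗ T) ⟶ A ⊗ FinDesc.dn σ T := Over.homMk θ (by
    show (AgPol.bcXTIso σ A T).hom ≫ (pullback.fst A.hom (T.hom ≫ σ) ≫ A.hom) =
      (pullback.fst (pullback.snd A.hom σ) T.hom ≫ pullback.snd A.hom σ) ≫ σ
    simp [AgPol.bcXTIso, pullback.condition])
  have h1 : down σ (fst (Red.bc σ A) T) = θ' ≫ fst A (FinDesc.dn σ T) := Over.OverMorphism.ext (by
    show pullback.fst (pullback.snd A.hom σ) T.hom ≫ pullback.fst A.hom σ =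
      (AgPol.bcXTIso σ A T).hom ≫ pullback.fst A.hom (T.hom ≫ σ)
    simp [AgPol.bcXTIso])
  have h2 : down σ (snd (Red.bc σ A) T ≫ x) = θ' ≫ snd A (FinDesc.dn σ T) ≫ down σ x := Over.OverMorphism.ext (by
    show ((snd (Red.bc σ A) T).left ≫ x.left) ≫ pullback.fst A.hom σ =
      θ ≫ pullback.snd A.hom (T.hom ≫ σ) ≫ x.left ≫ pullback.fst A.hom σ
    have e : θ ≫ pullback.snd A.hom (T.hom ≫ σ) = (snd (Red.bc σ A) T).left := FinDesc.bcXTIso_hom_proj T
    rw [reassoc_of% e, Category.assoc])
  have h3 : θ ≫ (snd A (FinDesc.dn σ T)).left = (snd (Red.bc σ A) T).left := FinDesc.bcXTIso_hom_proj T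
  have hinj : Function.Injective (PicF.pullCl θ) := Function.LeftInverse.injective
    (g := PicF.pullCl (AgPol.bcXTIso σ A T).inv) fun c => by
      rw [PicClLib.pullCl_comp]
      exact (congrArg (fun g => PicF.pullCl g c) (AgPol.bcXTIso σ A T).inv_hom_id).trans (PicClLib.pullCl_id c)
  have hEq : ∀ c : PicF.Cl T.left,
      KLBasic.Eq L' T x c ↔ KLBasic.Eq L (FinDesc.dn σ T) (down σ x) c := by
    intro c
    have hl : ∀ a : (Red.bc σ A) ⊗ T ⟶ Red.bc σ A,
        PicF.pullCl a.left (PicF.cl L') = PicF.pullCl (down σ a).left (PicF.cl L) := fun a =>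
      PicClLib.pullCl_comp a.left (pullback.fst A.hom σ) (PicF.cl L)
    unfold KLBasic.Eq
    rw [ThetaGrp.transl_fst, ThetaGrp.transl_fst, hl, hl, down_mul, h1, h2, ← MonObj.comp_mul, Over.comp_left,
      Over.comp_left, show θ'.left = θ from rfl, ← PicClLib.pullCl_comp, ← PicClLib.pullCl_comp, ← h3,
      ← PicClLib.pullCl_comp θ, ← PicMul.pullCl_mul]
    exact hinj.eq_iff
  rw [KLBasic.mumford_iff hL' x, KLBasic.mumford_iff hL (down σ x)]
  exact exists_congr fun c => and_congr_right fun _ => hEq c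

/-- `K(L)` commutes with base change -/
theorem isKL_bc {L : A.left.Modules} (hL : PicF.IsInvertible L) {K : Over S} {i : K ⟶ A}
    (hK : ThetaGrp.IsKL A L i) :
    ThetaGrp.IsKL (Red.bc σ A) ((Scheme.Modules.pullback (pullback.fst A.hom σ)).obj L) ((Over.pullback σ).map i) := by
  refine ⟨MorphismProperty.of_isPullback (IsogLib.isPullback_map σ i) hK.closed, fun T x => ?_⟩
  rw [mumford_iff_bc σ hL x, hK.univ]
  constructor
  · rintro ⟨y, hy⟩
    obtain ⟨a, ha⟩ := exists_lift σ y
    exact ⟨a, down_injective σ (by rw [down_map, ha, hy])⟩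
  · rintro ⟨a, rfl⟩
    exact ⟨down σ a, (down_map σ a i).symm⟩

end Groth.Agent.AVTheta.KLBase

end
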