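import Groth.Agent.AVTheta.Quot
import Groth.Agent.H23.RatExt
import Groth.Agent.AVRosati.Factor

/-!
The canonical lift of the translations by `K(L)` to the Mumford bundle.
-/

noncomputable section

set_option autoImplicit false
set_option linter.style.haveILetI false
set_option linter.unusedSectionVars false
set_option backward.isDefEq.respectTransparency false
set_option backward.isDefEq.respectTransparency.types false
set_option maxHeartbeats 1000000
set_option synthInstance.maxHeartbeats 400000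

universe u

open CategoryTheory CategoryTheory.Limits AlgebraicGeometry MonoidalCategory CartesianMonoidalCategory TopologicalSpace
  Pseudofunctor Bicategory
open scoped MonObj Groth.Agent.H23.PicMul

namespace Groth.Agent.AVTheta

open ThetaGrp H23.PicMul

variable {k : Type u} [Field k] {A : Over (Spec (CommRingCat.of k))} [GrpObj A] [IsCommMonObj A] [IsProper A.hom]
  [GeometricallyIntegral A.hom] {L : A.left.Modules}

/-- the inclusion of the first factor -/
abbrev inFst : A ⟶ A ⊗ A := lift (𝟙 A) 1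

theorem isMonHom_inFst : IsMonHom (inFst : A ⟶ A ⊗ A) := by
  refine ⟨?_, ?_⟩
  · apply CartesianMonoidalCategory.hom_ext <;> simp [MonObj.one_eq_one]
  · apply CartesianMonoidalCategory.hom_ext
    · simp
    · rw [Category.assoc, lift_snd, MonObj.comp_one, Category.assoc, MonObj.tensorObj.mul_def]
      simp only [inFst, Category.assoc, lift_snd, lift_map_assoc, ← MonObj.mul_comp]
      simp
      rw [show ((1 : A ⟶ A) ⊗ₘ (1 : A ⟶ A)) = lift (1 : A ⊗ A ⟶ A) 1 by
        apply CartesianMonoidalCategory.hom_ext <;> simp, ← Hom.mul_def, _root_.mul_one]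

theorem comp_inFst {T : Over (Spec (CommRingCat.of k))} (x : T ⟶ A) : x ≫ inFst = lift x 1 := by
  simp [inFst]

/-- the translation by a point of `K(L)` fixes the Mumford bundle -/
theorem pullCl_transl_lambda (hL : PicF.IsInvertible L) {Λ : (A ⊗ A).left.Modules}
    (hΛ : AgPol.IsLambdaSheaf μ[A].left (fst A A).left (snd A A).left L Λ)
    {T : Over (Spec (CommRingCat.of k))} (z : T ⟶ A) (hz : IsMumfordTriv A L z) :
    PicF.pullCl (transl (A ⊗ A) (z ≫ inFst) ≫ fst (A ⊗ A) T).left (PicF.cl Λ) =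
      PicF.pullCl (fst (A ⊗ A) T).left (PicF.cl Λ) := by
  haveI : Subsingleton ↥(Spec (CommRingCat.of k)) := inferInstanceAs (Subsingleton (PrimeSpectrum k))
  haveI : Nonempty ↥(Spec (CommRingCat.of k)) := inferInstanceAs (Nonempty (PrimeSpectrum k))
  have heq := (H23.KLBasic.iff_eq_pull hL z).1 hz
  have hΛ' := (PicGrp.cl_eq_cl_iff _ _).2 hΛ
  rw [cl_tensor, cl_tensor] at hΛ'
  change PicF.cl Λ * PicF.pullCl (fst A A).left (PicF.cl L) * PicF.pullCl (snd A A).left (PicF.cl L) =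
    PicF.pullCl μ[A].left (PicF.cl L) at hΛ'
  let P : ((A ⊗ A) ⊗ T ⟶ A) → PicF.Cl ((A ⊗ A) ⊗ T).left := fun w => PicF.pullCl w.left (PicF.cl L)
  have hw : ∀ w : (A ⊗ A) ⊗ T ⟶ A ⊗ A,
      PicF.pullCl w.left (PicF.cl Λ) * P (w ≫ fst A A) * P (w ≫ snd A A) = P ((w ≫ fst A A) * (w ≫ snd A A)) := by
    intro w
    have h := congrArg (PicF.pullCl w.left) hΛ'
    rw [pullCl_mul, pullCl_mul, PicClLib.pullCl_comp, PicClLib.pullCl_comp, PicClLib.pullCl_comp, ← Over.comp_left,
      ← Over.comp_left, ← Over.comp_left] at h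
    refine h.trans (congrArg P ?_)
    rw [Hom.mul_def]
    congr 1
    apply CartesianMonoidalCategory.hom_ext <;> simp
  let q := snd (A ⊗ A) T
  let a := fst (A ⊗ A) T ≫ fst A A
  let b := fst (A ⊗ A) T ≫ snd A A
  have heq' : ∀ c : (A ⊗ A) ⊗ T ⟶ A, P (c * (q ≫ z)) = P c * P (q ≫ z) := by
    intro c
    have h := congrArg (PicF.pullCl (lift c q).left) heq
    rw [pullCl_mul, PicClLib.pullCl_comp, PicClLib.pullCl_comp, PicClLib.pullCl_comp, PicClLib.pullCl_comp,
      ← Over.comp_left, ← Over.comp_left, ← Over.comp_left, ← Over.comp_left] at h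
    rw [show lift c q ≫ transl A z ≫ fst A T = c * (q ≫ z) by
      rw [transl_fst, MonObj.comp_mul, lift_fst, ← Category.assoc, lift_snd], lift_fst, lift_snd] at h
    exact h
  have ha : (transl (A ⊗ A) (z ≫ inFst) ≫ fst (A ⊗ A) T) ≫ fst A A = a * (q ≫ z) := by
    rw [transl_fst, MonObj.mul_comp, Category.assoc, Category.assoc, lift_fst, Category.comp_id]
  have hb : (transl (A ⊗ A) (z ≫ inFst) ≫ fst (A ⊗ A) T) ≫ snd A A = b := by
    rw [transl_fst, MonObj.mul_comp, Category.assoc, Category.assoc, lift_snd, MonObj.comp_one, MonObj.comp_one,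
      _root_.mul_one]
  have h2 := hw (transl (A ⊗ A) (z ≫ inFst) ≫ fst (A ⊗ A) T)
  have h1 := hw (fst (A ⊗ A) T)
  rw [ha, hb, mul_right_comm a, heq', heq'] at h2
  change PicF.pullCl (fst (A ⊗ A) T).left (PicF.cl Λ) * P a * P b = P (a * b) at h1
  rw [← h1] at h2
  have hu : ∀ w, IsUnit (P w) := fun w =>
    isUnit_of_isInvertibleCl (PicClLib.isInvertibleCl_pullCl _ ⟨L, rfl, hL⟩)
  refine ((hu a).mul (hu (q ≫ z)) |>.mul (hu b)).mul_left_injective ?_
  show _ * (P a * P (q ≫ z) * P b) = _ * (P a * P (q ≫ z) * P b)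
  rw [← _root_.mul_assoc, h2]
  ac_rfl

theorem exists_unit_pts {P : A.left.Modules} (qm : (⟨A.left, P⟩ : SM.{u}) ⟶ ⟨Spec (CommRingCat.of k), Coh.structureModule _⟩)
    (hq : IsCart qm) (hqb : qm.base = A.hom) {T : Over (Spec (CommRingCat.of k))} (x : T ⟶ A) :
    ∃! δ : thetaPts A P T, IsOverPt δ x ∧ δ.1.hom ≫ projObj A P T ≫ qm = projObj A P T ≫ qm := by
  have hG : IsCart (projObj A P T ≫ qm) := isCart_comp (isCart_projObj A P T) hq
  obtain ⟨p, ⟨hpb, hp⟩, huniq⟩ := existsUnique_lift hG (projObj A P T ≫ qm) (transl A x).left (by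
    rw [CoGrothendieck.categoryStruct_comp_base, hqb]
    show (transl A x).left ≫ (fst A T).left ≫ A.hom = (fst A T).left ≫ A.hom
    rw [← Category.assoc, ← Over.comp_left, Over.w, Over.w])
  obtain ⟨β, hβ, hβx⟩ := exists_pts_of_cart x p (isCart_of_comp hG (by rw [hp]; exact hG)) hpb
  exact ⟨β, ⟨hβx, by rw [hβ, hp]⟩, fun β' h' => pts_ext (by rw [hβ]; exact huniq _ ⟨h'.1, h'.2⟩)⟩

/-- the canonical lifts -/
theorem exists_lambda_lifts (hL : PicF.IsInvertible L) (Λ : (A ⊗ A).left.Modules) (hΛi : PicF.IsInvertible Λ)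
    (hΛ : AgPol.IsLambdaSheaf μ[A].left (fst A A).left (snd A A).left L Λ)
    {K : Over (Spec (CommRingCat.of k))} [GrpObj K] (iK : K ⟶ A) [IsMonHom iK]
    (hK : ∀ {T : Over (Spec (CommRingCat.of k))} (y : T ⟶ K), IsMumfordTriv A L (y ≫ iK)) :
    ∃ Bn : ∀ {T : Over (Spec (CommRingCat.of k))}, (T ⟶ K) → thetaPts (A ⊗ A) Λ T,
      (∀ {T : Over (Spec (CommRingCat.of k))} (y : T ⟶ K), IsOverPt (Bn y) (y ≫ iK ≫ inFst)) ∧
      (∀ {T T' : Over (Spec (CommRingCat.of k))} (g : T' ⟶ T) (y : T ⟶ K),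
        IsBaseChange (Bn (g ≫ y)) g (Bn y)) ∧
      ∀ {T : Over (Spec (CommRingCat.of k))} (y y' : T ⟶ K), Bn y * Bn y' = Bn (y * y') := by
  haveI : Subsingleton ↥(Spec (CommRingCat.of k)) := inferInstanceAs (Subsingleton (PrimeSpectrum k))
  haveI : Nonempty ↥(Spec (CommRingCat.of k)) := inferInstanceAs (Nonempty (PrimeSpectrum k))
  haveI := isMonHom_inFst (A := A)
  haveI : IsProper (A ⊗ A).hom := by
    show IsProper (pullback.fst A.hom A.hom ≫ A.hom)
    infer_instance
  haveI : GeometricallyIntegral (A ⊗ A).hom := H23.RatExt.geometricallyIntegral_prod A A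
  let P := (Scheme.Modules.pullback (inFst : A ⟶ A ⊗ A).left).obj Λ
  have hP : PicF.IsInvertible P := PicClLib.isInvertible_pullback _ hΛi
  -- the restriction is trivial
  have htriv : PicF.cl P = 1 := by
    have hΛ' := (PicGrp.cl_eq_cl_iff _ _).2 hΛ
    rw [cl_tensor, cl_tensor] at hΛ'
    change PicF.cl Λ * PicF.pullCl (fst A A).left (PicF.cl L) * PicF.pullCl (snd A A).left (PicF.cl L) =
      PicF.pullCl μ[A].left (PicF.cl L) at hΛ'
    have h := congrArg (PicF.pullCl (inFst : A ⟶ A ⊗ A).left) hΛ'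
    rw [pullCl_mul, pullCl_mul, PicClLib.pullCl_comp, PicClLib.pullCl_comp, PicClLib.pullCl_comp, ← Over.comp_left,
      ← Over.comp_left, ← Over.comp_left, lift_fst, lift_snd, H23.KLBasic.pull_one hL, _root_.mul_one,
      show (inFst : A ⟶ A ⊗ A) ≫ μ[A] = 𝟙 A * 1 from (Hom.mul_def _ _).symm, _root_.mul_one] at h
    exact ((isUnit_of_isInvertibleCl
      (PicClLib.isInvertibleCl_pullCl _ ⟨L, rfl, hL⟩)).mul_eq_right (a := PicF.cl P)).1 h
  obtain ⟨e⟩ := (PicGrp.cl_eq_cl_iff _ _).1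
    (show PicF.cl P = PicF.cl ((Scheme.Modules.pullback A.hom).obj (Coh.structureModule _)) from
      htriv.trans (pullCl_one A.hom).symm)
  let qm : (⟨A.left, P⟩ : SM.{u}) ⟶ ⟨Spec (CommRingCat.of k), Coh.structureModule _⟩ := mkHom A.hom e.hom
  have hqm : IsCart qm := isCart_mkHom _ _
  choose F hF hFb hFp using fun T => exists_mapObj (inFst : A ⟶ A ⊗ A) Λ T
  choose δ hδ hδu using fun (T : Over (Spec (CommRingCat.of k))) (y : T ⟶ K) => exists_unit_pts qm hqm rfl (y ≫ iK)
  have hex : ∀ (T : Over (Spec (CommRingCat.of k))) (y : T ⟶ K), ∃! β : thetaPts (A ⊗ A) Λ T,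
      IsOverPt β (y ≫ iK ≫ inFst) ∧ (δ T y).1.hom ≫ F T = F T ≫ β.1.hom := by
    intro T y
    have hsc : ∀ c : Γ(T.left, ⊤), bsc A P c ≫ F T = F T ≫ bsc (A ⊗ A) Λ c := by
      intro c
      refine Eq.trans ?_ (sc_comp_eq (F T) ((snd (A ⊗ A) T).left.appTop c))
      show sc _ _ ≫ _ = sc _ _ ≫ _
      congr 2
      rw [hFb, ← ConcreteCategory.comp_apply, ← Scheme.Hom.comp_appTop, ← Over.comp_left, whiskerRight_snd]
    obtain ⟨β₀, hβ₀⟩ := exists_pts_of_cl (A := A ⊗ A) (y ≫ iK ≫ inFst) (by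
      rw [← Category.assoc]; exact pullCl_transl_lambda hL hΛ (y ≫ iK) (hK y))
    obtain ⟨β', hβ', hβ'F⟩ := exists_pull_pts (inFst : A ⟶ A ⊗ A) (hF T) (hFb T) (y ≫ iK) β₀
      (by rw [Category.assoc]; exact hβ₀)
    obtain ⟨c, hc⟩ := exists_scalar hP hβ' (hδ T y).1
    have hb : (bsc (A ⊗ A) Λ c ≫ β₀.1.hom).base = (transl (A ⊗ A) (y ≫ iK ≫ inFst)).left := by
      rw [CoGrothendieck.categoryStruct_comp_base]
      exact (Category.id_comp _).trans hβ₀
    obtain ⟨d, hd⟩ := exists_scalar hP (hδ T y).1 hβ'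
    have hcd : d * c = 1 ∧ c * d = 1 := by
      constructor <;> refine bsc_injective hP ?_ <;> rw [bsc_one, ← bsc_mul]
      · rw [← cancel_mono (δ T y).1.hom, Category.id_comp, Category.assoc, ← hd, ← hc]
      · rw [← cancel_mono β'.1.hom, Category.id_comp, Category.assoc, ← hc, ← hd]
    have hcart : IsCart (bsc (A ⊗ A) Λ c ≫ β₀.1.hom) := by
      refine isCart_comp ?_ (isCart_pts β₀)
      exact isCart_iso ⟨bsc (A ⊗ A) Λ c, bsc (A ⊗ A) Λ d, by rw [bsc_mul, hcd.1, bsc_one],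
        by rw [bsc_mul, hcd.2, bsc_one]⟩
    obtain ⟨β, hβ, hβx⟩ := exists_pts_of_cart _ _ hcart hb
    have hβF : (δ T y).1.hom ≫ F T = F T ≫ β.1.hom := by
      rw [hc, Category.assoc, hβ'F, ← Category.assoc, hsc, Category.assoc, hβ]
    refine ⟨β, ⟨hβx, hβF⟩, fun β₂ h₂ => ?_⟩
    obtain ⟨c', hc'⟩ := exists_scalar hΛi hβx h₂.1
    have h := h₂.2
    rw [hc', ← Category.assoc, ← hsc, Category.assoc, ← hβF, ← Category.assoc] at h
    have h' : bsc A P c' = 𝟙 _ := by
      rw [← cancel_mono (δ T y).1.hom, Category.id_comp]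
      exact (cancel_cart (hF T) (by
        rw [CoGrothendieck.categoryStruct_comp_base]
        exact (Category.id_comp _).symm) h).symm
    rw [← bsc_one] at h'
    exact pts_ext (by rw [hc', bsc_injective hP h', bsc_one, Category.id_comp])
  choose Bn hBn hBnu using hex
  refine ⟨fun {T} y => Bn T y, fun {T} y => (hBn T y).1, fun {T T'} g y => ?_, fun {T} y y' => ?_⟩
  · obtain ⟨β', hβ', -⟩ := existsUnique_bc g (Bn T y)
    obtain ⟨δ', hδ', -⟩ := existsUnique_bc g (δ T y)
    have eδ : δ' = δ T' (g ≫ y) := by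
      refine hδu T' (g ≫ y) δ' ⟨by rw [Category.assoc]; exact isOverPt_bc hδ' (hδ T y).1, ?_⟩
      rw [← bcLift_proj A P g, Category.assoc, ← Category.assoc, show δ'.1.hom ≫ bcLift A P g = _ from hδ',
        Category.assoc, (hδ T y).2]
    show IsBaseChange (Bn T' (g ≫ y)) g (Bn T y)
    suffices h : β' = Bn T' (g ≫ y) by rw [← h]; exact hβ'
    refine hBnu T' (g ≫ y) β' ⟨by rw [Category.assoc]; exact isOverPt_bc hβ' (hBn T y).1, ?_⟩
    have hn := mapObj_natural (inFst : A ⟶ A ⊗ A) Λ g (hFb T) (hFp T) (hFb T') (hFp T')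
    refine cancel_cart (isCart_bcLift g) ?_ ?_
    · rw [CoGrothendieck.categoryStruct_comp_base, CoGrothendieck.categoryStruct_comp_base, hFb,
        show β'.1.hom.base = _ from isOverPt_bc hβ' (hBn T y).1, show (δ T' (g ≫ y)).1.hom.base = _ from (hδ T' _).1]
      rw [← Over.comp_left, ← Over.comp_left]
      congr 1
      rw [transl_whiskerRight]
      simp only [Category.assoc]
    · rw [← eδ, Category.assoc, Category.assoc, ← hn, ← Category.assoc, show δ'.1.hom ≫ bcLift A P g = _ from hδ',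
        Category.assoc, (hBn T y).2, show β'.1.hom ≫ bcLift (A ⊗ A) Λ g = _ from hβ', ← Category.assoc, hn,
        Category.assoc]
  · refine hBnu T (y * y') _ ⟨?_, ?_⟩
    · rw [MonObj.mul_comp, mul_comm]
      exact isOverPt_mul (hBn T y).1 (hBn T y').1
    · have e : δ T y * δ T y' = δ T (y * y') := by
        refine hδu T (y * y') _ ⟨?_, ?_⟩
        · rw [MonObj.mul_comp, mul_comm]
          exact isOverPt_mul (hδ T y).1 (hδ T y').1
        · show ((δ T y').1.hom ≫ (δ T y).1.hom) ≫ _ = _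
          rw [Category.assoc, (hδ T y).2, (hδ T y').2]
      rw [← e]
      show ((δ T y').1.hom ≫ (δ T y).1.hom) ≫ F T = F T ≫ (Bn T y').1.hom ≫ (Bn T y).1.hom
      rw [Category.assoc, (hBn T y).2, ← Category.assoc, (hBn T y').2, Category.assoc]

end Groth.Agent.AVTheta

end
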