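import Groth.Agent.AVTheta.Basic

/-!
Locality and the universal commutator function.
-/

noncomputable section

set_option autoImplicit false
set_option linter.style.haveILetI false
set_option linter.unusedSectionVars false
set_option backward.isDefEq.respectTransparency false
set_option backward.isDefEq.respectTransparency.types false
set_option maxHeartbeats 1000000
set_option synthInstance.maxHeartbeats 400000

universe u

open CategoryTheory CategoryTheory.Limits AlgebraicGeometry MonoidalCategory CartesianMonoidalCategory TopologicalSpace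
  Pseudofunctor Bicategory
open scoped MonObj Groth.Agent.H23.PicMul

namespace Groth.Agent.AVTheta

open ThetaGrp Groth.Agent.AModX

section scheme

variable {X : Scheme.{u}}

/-- a global function on an open subscheme as a section over the open -/
def toOpen (U : X.Opens) (c : Γ(U.toScheme, ⊤)) : Γ(X, U) :=
  resR (U.ι_image_top.ge : U ≤ U.ι ''ᵁ ⊤) (show Γ(X, U.ι ''ᵁ ⊤) from c)

theorem toOpen_injective (U : X.Opens) : Function.Injective (toOpen U) := fun c d h => by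
  have h' := congrArg (resR (U.ι_image_top.le : U.ι ''ᵁ ⊤ ≤ U)) h
  simp only [toOpen, resR_resR] at h'
  simpa [resR] using h'

theorem toOpen_ι (U : X.Opens) (s : Γ(X, ⊤)) : toOpen U (U.ι.appTop s) = resR le_top s := by
  show resR _ (resR (le_top : U.ι ''ᵁ ⊤ ≤ ⊤) s) = _
  rw [resR_resR]

theorem toOpen_homOfLE {U V : X.Opens} (h : U ≤ V) (c : Γ(V.toScheme, ⊤)) :
    toOpen U ((X.homOfLE h).appTop c) = resR h (toOpen V c) := by
  rw [Scheme.homOfLE_appTop]
  show resR _ (resR (X.ι_image_homOfLE_le_ι_image h ⊤) (show Γ(X, V.ι ''ᵁ ⊤) from c)) = resR h (resR _ _)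
  rw [resR_resR, resR_resR]

theorem eq_of_local {c d : Γ(X, ⊤)} (h : ∀ t : X, ∃ U : X.Opens, t ∈ U ∧ U.ι.appTop c = U.ι.appTop d) : c = d :=
  eq_of_locally (M := Coh.structureModule X) _ _ fun p _ => by
    obtain ⟨U, hp, hU⟩ := h p
    exact ⟨U, le_top, hp, (toOpen_ι U c).symm.trans ((congrArg (toOpen U) hU).trans (toOpen_ι U d))⟩

end scheme

variable {k : Type u} [Field k] {A : Over (Spec (CommRingCat.of k))} [GrpObj A] [IsProper A.hom]
  [GeometricallyIntegral A.hom] {L : A.left.Modules}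

/-- restriction between opens over the base -/
abbrev ovHomOfLE (T : Over (Spec (CommRingCat.of k))) {U V : T.left.Opens} (h : U ≤ V) : ovOpen T U ⟶ ovOpen T V :=
  Over.homMk (T.left.homOfLE h) (by simp [ovOpen])

theorem ovHomOfLE_incl (T : Over (Spec (CommRingCat.of k))) {U V : T.left.Opens} (h : U ≤ V) :
    ovHomOfLE T h ≫ ovIncl T V = ovIncl T U :=
  Over.OverMorphism.ext (T.left.homOfLE_ι h)

/-- two lifts over the same pair of points have the same commutator -/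
theorem comm_eq_of_same_pts (hL : PicF.IsInvertible L) {T : Over (Spec (CommRingCat.of k))}
    {x y : T ⟶ A} {β₁ β₂ ζ₁ ζ₂ : thetaPts A L T} (h₁ : IsOverPt β₁ x) (h₂ : IsOverPt β₂ y) (h₁' : IsOverPt ζ₁ x)
    (h₂' : IsOverPt ζ₂ y) {c d : Γ(T.left, ⊤)} (hc : IsComm β₁ β₂ c) (hd : IsComm ζ₁ ζ₂ d) : c = d := by
  obtain ⟨a, ha⟩ := exists_scalar hL h₁ h₁'
  obtain ⟨b, hb⟩ := exists_scalar hL h₂ h₂'
  exact isComm_unique hL (isComm_congr ha hb hc) hd

variable [IsCommMonObj A]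

/-- the commutators of the lifts of two points of `K(L)` are one function -/
theorem exists_global_comm (hL : PicF.IsInvertible L) {P : Over (Spec (CommRingCat.of k))} (x y : P ⟶ A)
    (hx : IsMumfordTriv A L x) (hy : IsMumfordTriv A L y) :
    ∃ e : Γ(P.left, ⊤), ∀ (T : Over (Spec (CommRingCat.of k))) (g : T ⟶ P) (β₁ β₂ : thetaPts A L T),
      IsOverPt β₁ (g ≫ x) → IsOverPt β₂ (g ≫ y) → IsComm β₁ β₂ (g.left.appTop e) := by
  -- lifts on a covering
  have hloc : ∀ p : P.left, ∃ (U : P.left.Opens) (β₁ β₂ : thetaPts A L (ovOpen P U)) (c : Γ(U.toScheme, ⊤)), p ∈ U ∧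
      IsOverPt β₁ (ovIncl P U ≫ x) ∧ IsOverPt β₂ (ovIncl P U ≫ y) ∧ IsComm β₁ β₂ c := by
    intro p
    obtain ⟨U₁, hp₁, b₁, hb₁⟩ := exists_local_pts hL x hx p
    obtain ⟨U₂, hp₂, b₂, hb₂⟩ := exists_local_pts hL y hy p
    obtain ⟨β₁, hβ₁, -⟩ := existsUnique_bc (ovHomOfLE P (inf_le_left : U₁ ⊓ U₂ ≤ U₁)) b₁
    obtain ⟨β₂, hβ₂, -⟩ := existsUnique_bc (ovHomOfLE P (inf_le_right : U₁ ⊓ U₂ ≤ U₂)) b₂
    obtain ⟨c, hc, -⟩ := existsUnique_comm hL β₁ β₂
    refine ⟨U₁ ⊓ U₂, β₁, β₂, c, ⟨hp₁, hp₂⟩, ?_, ?_, hc⟩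
    · simpa only [← Category.assoc, ovHomOfLE_incl] using isOverPt_bc hβ₁ hb₁
    · simpa only [← Category.assoc, ovHomOfLE_incl] using isOverPt_bc hβ₂ hb₂
  choose U B₁ B₂ c hpU hB₁ hB₂ hc using hloc
  -- compare with restricted lifts
  have hcmp : ∀ (p : P.left) (T : Over (Spec (CommRingCat.of k))) (g : T ⟶ ovOpen P (U p)) (β₁ β₂ : thetaPts A L T)
      (d : Γ(T.left, ⊤)), IsOverPt β₁ (g ≫ ovIncl P (U p) ≫ x) → IsOverPt β₂ (g ≫ ovIncl P (U p) ≫ y) →
      IsComm β₁ β₂ d → d = g.left.appTop (c p) := by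
    intro p T g β₁ β₂ d h₁ h₂ hd
    obtain ⟨ζ₁, hζ₁, -⟩ := existsUnique_bc g (B₁ p)
    obtain ⟨ζ₂, hζ₂, -⟩ := existsUnique_bc g (B₂ p)
    exact comm_eq_of_same_pts hL h₁ h₂ (isOverPt_bc hζ₁ (hB₁ p)) (isOverPt_bc hζ₂ (hB₂ p)) hd (isComm_bc hζ₁ hζ₂ (hc p))
  obtain ⟨e, he, -⟩ := existsUnique_glue (M := Coh.structureModule P.left) U (fun p => le_top)
    (fun p _ => ⟨p, hpU p⟩) (fun p => toOpen (U p) (c p)) fun p q => by
      show resR inf_le_left (toOpen (U p) (c p)) = resR inf_le_right (toOpen (U q) (c q))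
      rw [← toOpen_homOfLE, ← toOpen_homOfLE]
      refine congrArg _ ?_
      obtain ⟨ζ₁, hζ₁, -⟩ := existsUnique_bc (ovHomOfLE P (inf_le_left : U p ⊓ U q ≤ U p)) (B₁ p)
      obtain ⟨ζ₂, hζ₂, -⟩ := existsUnique_bc (ovHomOfLE P (inf_le_left : U p ⊓ U q ≤ U p)) (B₂ p)
      refine hcmp q _ (ovHomOfLE P inf_le_right) ζ₁ ζ₂ _ ?_ ?_ (isComm_bc hζ₁ hζ₂ (hc p))
      · rw [← Category.assoc, ovHomOfLE_incl, ← ovHomOfLE_incl P (inf_le_left : U p ⊓ U q ≤ U p), Category.assoc]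
        exact isOverPt_bc hζ₁ (hB₁ p)
      · rw [← Category.assoc, ovHomOfLE_incl, ← ovHomOfLE_incl P (inf_le_left : U p ⊓ U q ≤ U p), Category.assoc]
        exact isOverPt_bc hζ₂ (hB₂ p)
  have he' : ∀ p, (U p).ι.appTop (show Γ(P.left, ⊤) from e) = c p := fun p => by
    refine toOpen_injective (U p) ?_
    rw [toOpen_ι]
    exact he p
  refine ⟨e, fun T g β₁ β₂ h₁ h₂ => ?_⟩
  obtain ⟨d, hd, -⟩ := existsUnique_comm hL β₁ β₂
  suffices hde : d = g.left.appTop e by rw [← hde]; exact hd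
  refine eq_of_local fun t => ⟨g.left ⁻¹ᵁ U (g.left t), hpU _, ?_⟩
  let p := g.left t
  let V := g.left ⁻¹ᵁ U p
  let g' : ovOpen T V ⟶ ovOpen P (U p) := Over.homMk (g.left.resLE (U p) V le_rfl) (by
    show g.left.resLE (U p) V le_rfl ≫ (U p).ι ≫ P.hom = V.ι ≫ T.hom
    rw [Scheme.Hom.resLE_comp_ι_assoc, Over.w])
  have hg' : g' ≫ ovIncl P (U p) = ovIncl T V ≫ g := Over.OverMorphism.ext (Scheme.Hom.resLE_comp_ι _ _)
  obtain ⟨ζ₁, hζ₁, -⟩ := existsUnique_bc (ovIncl T V) β₁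
  obtain ⟨ζ₂, hζ₂, -⟩ := existsUnique_bc (ovIncl T V) β₂
  have h := hcmp p _ g' ζ₁ ζ₂ _ (by rw [reassoc_of% hg']; exact isOverPt_bc hζ₁ h₁)
    (by rw [reassoc_of% hg']; exact isOverPt_bc hζ₂ h₂) (isComm_bc hζ₁ hζ₂ hd)
  refine Eq.trans h ?_
  rw [← he' p]
  show g'.left.appTop ((ovIncl P (U p)).left.appTop e) = (ovIncl T V).left.appTop (g.left.appTop e)
  rw [← ConcreteCategory.comp_apply, ← Scheme.Hom.comp_appTop, ← Over.comp_left, hg', Over.comp_left,
    Scheme.Hom.comp_appTop, ConcreteCategory.comp_apply]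

/-- the point over a translation gives an isomorphism of classes -/
theorem cl_of_pts {T : Over (Spec (CommRingCat.of k))} {β : thetaPts A L T} {x : T ⟶ A} (hx : IsOverPt β x) :
    PicF.pullCl (transl A x ≫ fst A T).left (PicF.cl L) = PicF.pullCl (fst A T).left (PicF.cl L) := by
  haveI : IsIso β.1.hom.fiber := isCart_pts β
  have h : Nonempty ((Scheme.Modules.pullback (fst A T).left).obj L ≅
      (Scheme.Modules.pullback β.1.hom.base).obj ((Scheme.Modules.pullback (fst A T).left).obj L)) :=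
    ⟨asIso β.1.hom.fiber⟩
  rw [show β.1.hom.base = _ from hx] at h
  rw [Over.comp_left, ← PicClLib.pullCl_comp]
  exact ((PicGrp.cl_eq_cl_iff _ _).2 h).symm

/-- points under the theta group lie in `K(L)` -/
theorem mumford_of_pts (hL : PicF.IsInvertible L) {T : Over (Spec (CommRingCat.of k))} {β : thetaPts A L T}
    {x : T ⟶ A} (hx : IsOverPt β x) : IsMumfordTriv A L x := by
  refine (H23.KLBasic.mumford_iff hL x).2 ⟨1, ⟨_, H23.PicMul.one_def.symm, InvX.isInvertible_structureModule⟩, ?_⟩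
  rw [H23.KLBasic.Eq, H23.PicMul.pullCl_one, _root_.mul_one]
  exact cl_of_pts hx

end Groth.Agent.AVTheta

end
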