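import Groth.Agent.AVTheta.CocycleSymm
import Groth.Agent.GrpSchLib.PrimeClassify
import Mathlib.RingTheory.PowerBasis
import Mathlib.RingTheory.IntegralClosure.IsIntegralClosure.Basic

/-!
Cocycles on `α_p`, `μ_p` and cyclic constant groups are symmetric.
-/

noncomputable section

set_option autoImplicit false
set_option linter.style.haveILetI false
set_option linter.unusedSectionVars false
set_option maxHeartbeats 1000000

universe u

open TensorProduct WithConv Polynomial

namespace Groth.Agent.AVTheta.CocycleSplit

variable {k : Type u} [Field k]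

section endo

variable {W : Type u} [AddCommGroup W] [Module k W] [Module.Finite k W] [Nontrivial W] (p : ℕ) [Fact p.Prime]
  [CharP k p] (T L : Module.End k W) {a : k}

/-- powers up to the degree of the minimal polynomial are independent -/
theorem linearIndependent_pow_of_le {n : ℕ} (h : n ≤ (minpoly k T).natDegree) :
    LinearIndependent k fun i : Fin n => T ^ (i : ℕ) :=
  (linearIndependent_pow (K := k) T).comp (Fin.castLE h) (Fin.castLE_injective h)

/-- an operator with a constant commutator has independent powers -/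
theorem linearIndependent_pow_of_comm (ha : a ≠ 0) (h : T * L = L * T + a • (1 : Module.End k W)) :
    LinearIndependent k fun i : Fin p => T ^ (i : ℕ) := by
  refine linearIndependent_pow_of_le T (le_of_not_gt fun hd => ?_)
  have hT : IsIntegral k T := Algebra.IsIntegral.isIntegral T
  have hn : ∀ n : ℕ, T ^ n * L = L * T ^ n + ((n : k) * a) • T ^ (n - 1) := by
    intro n
    induction n with
    | zero => simp
    | succ n ih =>
      rw [pow_succ', _root_.mul_assoc, ih, mul_add, ← _root_.mul_assoc, h, add_mul, mul_smul_comm, smul_mul_assoc,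
        _root_.one_mul, _root_.mul_assoc, add_assoc, ← pow_succ']
      congr 1
      rcases n with _ | n
      · simp
      · rw [Nat.add_sub_cancel, Nat.add_sub_cancel, ← pow_succ', ← add_smul]
        congr 1
        push_cast
        ring
  have hP : ∀ P : k[X], aeval T P * L = L * aeval T P + a • aeval T (derivative P) := by
    intro P
    induction P using Polynomial.induction_on' with
    | add P R hP hR => simp only [map_add, add_mul, mul_add, smul_add, hP, hR]; abel
    | monomial n r =>
      rw [derivative_monomial, aeval_monomial, aeval_monomial, ← Algebra.smul_def, ← Algebra.smul_def,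
        smul_mul_assoc, hn, smul_add, mul_smul_comm, smul_smul, smul_smul]
      congr 2
      ring
  have h0 := hP (minpoly k T)
  rw [minpoly.aeval, zero_mul, mul_zero, zero_add, eq_comm, smul_eq_zero, or_iff_right ha] at h0
  have hd0 := minpoly.natDegree_pos hT
  have hne : derivative (minpoly k T) ≠ 0 := by
    intro h'
    have h2 := congrArg (fun P : k[X] => P.coeff ((minpoly k T).natDegree - 1)) h'
    simp only [coeff_derivative, coeff_zero, Nat.sub_add_cancel hd0] at h2
    rw [(minpoly.monic hT).coeff_natDegree, _root_.one_mul, ← Nat.cast_succ, Nat.succ_eq_add_one,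
      Nat.sub_add_cancel hd0, CharP.cast_eq_zero_iff k p] at h2
    exact absurd (Nat.le_of_dvd hd0 h2) (not_le.2 hd)
  exact absurd (minpoly.degree_le_of_ne_zero k T hne h0)
    (not_le.2 (Polynomial.degree_derivative_lt (minpoly.ne_zero hT)))

/-- an operator shifted by an injective one has independent powers -/
theorem linearIndependent_pow_of_shift [IsAlgClosed k] (ha : a ≠ 0) (hL : Function.Injective L)
    (h : T * L = L * (T + a • (1 : Module.End k W))) : LinearIndependent k fun i : Fin p => T ^ (i : ℕ) := by
  refine linearIndependent_pow_of_le T (le_of_not_gt fun hd => ?_)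
  have hT : IsIntegral k T := Algebra.IsIntegral.isIntegral T
  let Q := minpoly k T
  have hP : ∀ P : k[X], aeval T P * L = L * aeval T (P.comp (X + C a)) := by
    intro P
    have e : aeval T (P.comp (X + C a)) = aeval (T + a • (1 : Module.End k W)) P := by
      rw [aeval_comp, map_add, aeval_X, aeval_C, Algebra.algebraMap_eq_smul_one]
    rw [e]
    induction P using Polynomial.induction_on' with
    | add P R hP hR =>
      simp only [map_add, add_mul, mul_add]
      rw [hP (by rw [aeval_comp, map_add, aeval_X, aeval_C, Algebra.algebraMap_eq_smul_one]),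
        hR (by rw [aeval_comp, map_add, aeval_X, aeval_C, Algebra.algebraMap_eq_smul_one])]
    | monomial n r =>
      rw [aeval_monomial, aeval_monomial, ← Algebra.smul_def, ← Algebra.smul_def, smul_mul_assoc, mul_smul_comm]
      congr 1
      exact (SemiconjBy.pow_right (show SemiconjBy L (T + a • (1 : Module.End k W)) T from h.symm) n).eq.symm
  have h0 : aeval T (Q.comp (X + C a)) = 0 := by
    have h1 := hP Q
    rw [minpoly.aeval, zero_mul] at h1
    exact LinearMap.ext fun x => hL ((LinearMap.congr_fun h1.symm x).trans (map_zero L).symm)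
  have hQ : Q.comp (X + C a) = Q := by
    by_contra hne
    have hm : (Q.comp (X + C a)).Monic := (minpoly.monic hT).comp_X_add_C a
    refine absurd (minpoly.degree_le_of_ne_zero k T (sub_ne_zero.2 hne) (by rw [map_sub, h0, minpoly.aeval, sub_zero]))
      (not_le.2 ?_)
    have hdeg : (Q.comp (X + C a)).degree = Q.degree := by
      rw [degree_eq_natDegree hm.ne_zero, degree_eq_natDegree (minpoly.ne_zero hT), natDegree_comp, natDegree_X_add_C,
        _root_.mul_one]
    exact (Polynomial.degree_sub_lt_left hdeg hm.ne_zero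
      (hm.leadingCoeff.trans (minpoly.monic hT).leadingCoeff.symm)).trans_le hdeg.le
  obtain ⟨r, hr⟩ := IsAlgClosed.exists_root Q (minpoly.degree_pos hT).ne'
  have hroot : ∀ i : ℕ, Q.IsRoot (r + i * a) := by
    intro i
    induction i with
    | zero => simpa using hr
    | succ i ih =>
      have := congrArg (eval (r + i * a)) hQ
      rw [eval_comp, eval_add, eval_X, eval_C] at this
      show Q.eval _ = 0
      rw [show r + ((i + 1 : ℕ) : k) * a = r + i * a + a by push_cast; ring, this]
      exact ih
  classical
  have hinj : Set.InjOn (fun i : ℕ => r + (i : k) * a) (Finset.range p : Set ℕ) := fun i hi j hj hij => by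
    rw [Finset.coe_range, Set.mem_Iio] at hi hj
    have h2 : (i : k) = j := mul_right_cancel₀ ha (add_left_cancel hij)
    rw [CharP.natCast_eq_natCast k p] at h2
    exact h2.eq_of_lt_of_lt hi hj
  have hsub : (Finset.range p).image (fun i : ℕ => r + (i : k) * a) ⊆ Q.roots.toFinset := fun x hx => by
    obtain ⟨i, -, rfl⟩ := Finset.mem_image.1 hx
    rw [Multiset.mem_toFinset, mem_roots (minpoly.ne_zero hT)]
    exact hroot i
  have hcard := (Finset.card_le_card hsub).trans ((Multiset.toFinset_card_le _).trans (Q.card_roots'))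
  rw [Finset.card_image_of_injOn hinj, Finset.card_range] at hcard
  exact absurd hd (not_lt.2 hcard)

end endo

section coaction

variable {H : Type u} [CommRing H] [HopfAlgebra k H]

theorem comul_pts (g : H) : (P₁ (k := k) (H := H) * P₂).ofConv g = Coalgebra.comul (R := k) g := by
  rw [AlgHom.convMul_apply]
  generalize Coalgebra.comul (R := k) g = z
  induction z using TensorProduct.induction_on with
  | zero => simp
  | tmul x y => simp
  | add p q hp hq => simp only [map_add, hp, hq]

theorem pts_mul (g a : H) :
    (P₁ (k := k) (H := H) * P₂).ofConv (g * a) = Coalgebra.comul (R := k) g * (P₁ (k := k) (H := H) * P₂).ofConv a := by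
  rw [← comul_pts g]
  exact map_mul _ _ _

theorem sl_left (φ : Module.Dual k H) (g : H) (z : H ⊗[k] H) :
    sl φ ((g ⊗ₜ[k] (1 : H)) * z) = g * sl φ z := by
  induction z using TensorProduct.induction_on with
  | zero => simp
  | tmul x y => simp [sl_tmul, Algebra.TensorProduct.tmul_mul_tmul]
  | add p q hp hq => simp only [map_add, mul_add, hp, hq]

variable {v : CartDual.D k H}
  (hv : ∀ a b, v.ofConv (a * b) = Coalgebra.counit (R := k) a * v.ofConv b + Coalgebra.counit (R := k) b * v.ofConv a)
include hv

theorem sl_right (g : H) (z : H ⊗[k] H) :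
    sl v.ofConv (((1 : H) ⊗ₜ[k] g) * z) =
      Coalgebra.counit (R := k) g • sl v.ofConv z + v.ofConv g • sl (Coalgebra.counit (R := k) (A := H)) z := by
  induction z using TensorProduct.induction_on with
  | zero => simp
  | tmul x y =>
    rw [Algebra.TensorProduct.tmul_mul_tmul, _root_.one_mul, sl_tmul, sl_tmul, sl_tmul, hv, add_smul, smul_smul,
      smul_smul, mul_comm (Coalgebra.counit (R := k) y) (v.ofConv g)]
  | add p q hp hq => simp only [map_add, mul_add, smul_add, hp, hq]; abel

theorem op_primitive (c : Cochain (k := k) (H := H)) {g : H}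
    (hg : Coalgebra.comul (R := k) g = g ⊗ₜ[k] 1 + 1 ⊗ₜ[k] g) (hg0 : Coalgebra.counit (R := k) g = 0) :
    op c v.ofConv * LinearMap.mulLeft k g =
      LinearMap.mulLeft k g * op c v.ofConv + (v.ofConv g * a₀ c) • (1 : Module.End k H) := by
  refine LinearMap.ext fun a => ?_
  show op c v.ofConv (g * a) = g * op c v.ofConv a + (v.ofConv g * a₀ c) • a
  rw [op_apply, op_apply, pts_mul, mul_left_comm, hg, add_mul, map_add, sl_left, sl_right hv, hg0,
    zero_smul, zero_add, sl_counit_comul, smul_smul]

theorem op_groupLike (c : Cochain (k := k) (H := H)) {g : H} (hg : IsGroupLikeElem k g) :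
    op c v.ofConv * LinearMap.mulLeft k g =
      LinearMap.mulLeft k g * (op c v.ofConv + (v.ofConv g * a₀ c) • (1 : Module.End k H)) := by
  refine LinearMap.ext fun a => ?_
  show op c v.ofConv (g * a) = g * (op c v.ofConv a + (v.ofConv g * a₀ c) • a)
  rw [op_apply, op_apply, pts_mul, mul_left_comm, hg.comul_eq_tmul_self,
    show g ⊗ₜ[k] g = (g ⊗ₜ[k] (1 : H)) * ((1 : H) ⊗ₜ[k] g) by simp [Algebra.TensorProduct.tmul_mul_tmul],
    _root_.mul_assoc, sl_left, sl_right hv, hg.counit_eq_one, one_smul, sl_counit_comul, smul_smul]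

end coaction

variable [IsAlgClosed k]

/-- cocycles on `α_p` are symmetric -/
theorem symm_alphaP (p : ℕ) [Fact p.Prime] [CharP k p] (c : Cochain (k := k) (H := AlphaP.A p k))
    {S : Type u} [CommRing S] [Algebra k S] (α β : Pts (H := AlphaP.A p k) (k := k) S) : c.κ α β = c.κ β α := by
  obtain ⟨v, t, hv, -, ht, -⟩ := GrpSchLib.exists_deriv_alphaP (k := k) p
  have hx : v.ofConv (AlphaP.x p k) ≠ 0 := by
    intro hx
    have h0 : v.ofConv = 0 := (AlphaP.basis p k).ext fun i => by
      rw [LinearMap.zero_apply, AlphaP.basis_apply]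
      rcases h : (i : ℕ) with _ | n
      · simpa using GrpSchLib.deriv_apply_one hv
      · rw [GrpSchLib.deriv_apply_pow hv, hx, mul_zero]
    rw [h0] at ht
    exact zero_ne_one ht
  haveI : Nontrivial (AlphaP.A p k) := nontrivial_of_ne t 0 fun h => zero_ne_one (by rw [← ht, h, map_zero])
  refine symm_of_monogenic c v.ofConv (n := p) (AlphaP.finrank_eq p k) ?_ α β
  exact linearIndependent_pow_of_comm p _ _ (mul_ne_zero hx (a₀_ne_zero c))
    (op_primitive hv c (AlphaP.comul_x p k) (AlphaP.counit_x p k))

/-- cocycles on `μ_p` are symmetric -/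
theorem symm_muP (p : ℕ) [Fact p.Prime] [CharP k p]
    (c : Cochain (k := k) (H := MonoidAlgebra k (Multiplicative (ZMod p)))) {S : Type u} [CommRing S] [Algebra k S]
    (α β : Pts (H := MonoidAlgebra k (Multiplicative (ZMod p))) (k := k) S) : c.κ α β = c.κ β α := by
  obtain ⟨v, t, hv, -, ht, -⟩ := GrpSchLib.exists_deriv_muP (k := k) p
  let g : MonoidAlgebra k (Multiplicative (ZMod p)) := MonoidAlgebra.single (Multiplicative.ofAdd 1) 1
  have hg : IsGroupLikeElem k g := MonoidAlgebra.isGroupLikeElem_single_one _
  have hpow : ∀ n : ℕ, MonoidAlgebra.single (Multiplicative.ofAdd (n : ZMod p)) (1 : k) = g ^ n := fun n => by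
    rw [MonoidAlgebra.single_pow, one_pow, ← ofAdd_nsmul, nsmul_one]
  have hx : v.ofConv g ≠ 0 := by
    intro hx
    have h0 : v.ofConv = 0 := (MonoidAlgebra.basis (Multiplicative (ZMod p)) k).ext fun i => by
      obtain ⟨n, hn⟩ : ∃ n : ℕ, i = Multiplicative.ofAdd (n : ZMod p) :=
        ⟨i.toAdd.val, by rw [ZMod.natCast_zmod_val]; rfl⟩
      subst hn
      rw [LinearMap.zero_apply, MonoidAlgebra.basis_apply, hpow]
      rcases n with _ | n
      · simpa using GrpSchLib.deriv_apply_one hv
      · rw [GrpSchLib.deriv_apply_pow hv, hx, mul_zero]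
    rw [h0] at ht
    exact zero_ne_one ht
  haveI : Nontrivial (MonoidAlgebra k (Multiplicative (ZMod p))) :=
    nontrivial_of_ne t 0 fun h => zero_ne_one (by rw [← ht, h, map_zero])
  have hgu : g * MonoidAlgebra.single (Multiplicative.ofAdd (-1)) 1 = 1 := by
    rw [MonoidAlgebra.single_mul_single, ← ofAdd_add, add_neg_cancel, _root_.one_mul]
    rfl
  refine symm_of_monogenic c v.ofConv (n := p) ?_ ?_ α β
  · rw [Module.finrank_eq_card_basis (MonoidAlgebra.basis (Multiplicative (ZMod p)) k)]
    simp
  · exact linearIndependent_pow_of_shift p _ _ (mul_ne_zero hx (a₀_ne_zero c))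
      (fun a b h => (IsUnit.of_mul_eq_one _ hgu).mul_left_cancel h) (op_groupLike hv c hg)

/-- cocycles on cyclic constant groups are symmetric -/
theorem symm_constGrp {G : Type u} [Group G] [Fintype G] [DecidableEq G] {g : G} (hg : orderOf g = Fintype.card G)
    (c : Cochain (k := k) (H := ConstGrp.F k G)) {S : Type u} [CommRing S] [Algebra k S]
    (α β : Pts (H := ConstGrp.F k G) (k := k) S) : c.κ α β = c.κ β α := by
  let T := op c (ConstGrp.ev k g).toLinearMap
  have hT : ∀ (f : ConstGrp.F k G) (h : G),
      T f h = c.κ (toConv (ConstGrp.ev k h)) (toConv (ConstGrp.ev k g)) * f (h * g) := by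
    intro f h
    let Φ : ConstGrp.F k G ⊗[k] ConstGrp.F k G →ₐ[k] k :=
      Algebra.TensorProduct.lift (ConstGrp.ev k h) (ConstGrp.ev k g) fun _ _ => Commute.all _ _
    have hΦ : ∀ z, ConstGrp.ev k h (sl (ConstGrp.ev k g).toLinearMap z) = Φ z := fun z => by
      induction z using TensorProduct.induction_on with
      | zero => simp
      | tmul x y =>
        rw [sl_tmul, Algebra.TensorProduct.lift_tmul, map_smul, smul_eq_mul, mul_comm]
        rfl
      | add p q hp hq => simp only [map_add, hp, hq]
    have hΦp : ∀ z, Φ z = ConstGrp.pair k G z (h, g) := fun z => by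
      induction z using TensorProduct.induction_on with
      | zero => simp
      | tmul x y =>
        rw [Algebra.TensorProduct.lift_tmul, ConstGrp.pair_tmul]
        rfl
      | add p q hp hq => simp only [map_add, ConstGrp.add_apply, hp, hq]
    show ConstGrp.ev k h (op c _ f) = _
    rw [op_apply, hΦ, map_mul, c.nat, comul_pts, hΦp, ConstGrp.pair_comul]
    congr 2
    · exact WithConv.ofConv_injective (AlgHom.ext fun x => by
        show Φ (x ⊗ₜ[k] (1 : ConstGrp.F k G)) = _
        rw [Algebra.TensorProduct.lift_tmul, map_one, _root_.mul_one])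
    · exact WithConv.ofConv_injective (AlgHom.ext fun x => by
        show Φ ((1 : ConstGrp.F k G) ⊗ₜ[k] x) = _
        rw [Algebra.TensorProduct.lift_tmul, map_one, _root_.one_mul])
  have hpow : ∀ i : ℕ, ∃ r : k, r ≠ 0 ∧ (T ^ i) (ConstGrp.e k 1) = r • ConstGrp.e k (g ^ i)⁻¹ := by
    intro i
    induction i with
    | zero => exact ⟨1, one_ne_zero, by simp⟩
    | succ i ih =>
      obtain ⟨r, hr, e⟩ := ih
      refine ⟨r * c.κ (toConv (ConstGrp.ev k (g ^ (i + 1))⁻¹)) (toConv (ConstGrp.ev k g)),
        mul_ne_zero hr (c.isUnit _ _).ne_zero, ?_⟩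
      rw [pow_succ', Module.End.mul_apply, e, map_smul]
      ext h
      rw [ConstGrp.smul_apply, hT, ConstGrp.smul_apply, ConstGrp.e_apply, ConstGrp.e_apply]
      by_cases hh : h = (g ^ (i + 1))⁻¹
      · rw [if_pos hh, if_pos (by rw [hh, pow_succ', mul_inv_rev, inv_mul_cancel_right]), hh]
        ring
      · rw [if_neg hh, if_neg (fun h' => hh ?_), mul_zero, mul_zero, mul_zero]
        rw [pow_succ', mul_inv_rev, ← h', mul_inv_cancel_right]
  refine symm_of_monogenic c (ConstGrp.ev k g).toLinearMap (n := Fintype.card G) ?_ ?_ α β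
  · rw [Module.finrank_eq_card_basis (ConstGrp.basis k G)]
  · refine Fintype.linearIndependent_iff.2 fun s hs j => ?_
    have h := congrArg (fun e : Module.End k (ConstGrp.F k G) => e (ConstGrp.e k 1) (g ^ (j : ℕ))⁻¹) hs
    simp only [LinearMap.sum_apply, LinearMap.smul_apply, ConstGrp.sum_apply, ConstGrp.smul_apply,
      LinearMap.zero_apply, ConstGrp.zero_apply] at h
    rw [Finset.sum_eq_single j] at h
    · obtain ⟨r, hr, e⟩ := hpow j
      rw [e, ConstGrp.smul_apply, ConstGrp.e_apply_self, _root_.mul_one] at h
      exact (mul_eq_zero.1 h).resolve_right hr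
    · intro i _ hij
      obtain ⟨r, -, e⟩ := hpow i
      rw [e, ConstGrp.smul_apply, ConstGrp.e_apply_of_ne, mul_zero, mul_zero]
      intro h'
      refine hij (Fin.ext ?_)
      exact pow_injOn_Iio_orderOf (by simp [hg]) (by simp [hg]) (inv_injective h').symm
    · simp

end Groth.Agent.AVTheta.CocycleSplit

end
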