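import Groth.Agent.AVTheta.Nondeg
import Groth.Agent.AVTheta.Monogenic
import Groth.Agent.GrpSchLib.SimpleFinite
import Groth.Agent.ComodLib.CartierChar0

/-!
A maximal isotropic subgroup of a finite `K(L)` is its own orthogonal.
-/

noncomputable section

set_option autoImplicit false
set_option linter.style.haveILetI false
set_option linter.unusedSectionVars false
set_option backward.isDefEq.respectTransparency false
set_option backward.isDefEq.respectTransparency.types false
set_option maxHeartbeats 1000000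
set_option synthInstance.maxHeartbeats 400000

universe u

open CategoryTheory CategoryTheory.Limits AlgebraicGeometry MonoidalCategory CartesianMonoidalCategory TopologicalSpace
open scoped MonObj Groth.Agent.H23.PicMul TensorProduct

attribute [-instance] CategoryTheory.catToReflQuiver

namespace Groth.Agent.AVTheta

open ThetaGrp GrpSchLib.AffineHopf WithConv

variable {k : Type u} [Field k]

/-- cocycles with unit values on the group are symmetric -/
def AllSymm (k : Type u) [Field k] (H : Type u) [CommRing H] [HopfAlgebra k H] : Prop :=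
  ∀ (c : CocycleSplit.Cochain (k := k) (H := H)) {S : Type u} [CommRing S] [Algebra k S]
    (α β : CocycleSplit.Pts (k := k) (H := H) S), c.κ α β = c.κ β α

/-- a nontrivial finite group scheme has a nontrivial subgroup all of whose cocycles are symmetric -/
theorem exists_symm_sub [IsAlgClosed k] (H : Type u) [CommRing H] [HopfAlgebra k H] [Module.Finite k H]
    (hH : 1 < Module.finrank k H) :
    ∃ (C : Type u) (_ : CommRing C) (_ : HopfAlgebra k C) (_ : Module.Finite k C) (f : H →ₐc[k] C),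
      Function.Surjective f ∧ 1 < Module.finrank k C ∧ AllSymm k C := by
  classical
  by_cases hred : _root_.IsReduced H
  · obtain ⟨hfin, hev⟩ := GrpSchLib.eval_bijective_of_isReduced (k := k) (A := H)
    haveI := hfin
    let G := WithConv (H →ₐ[k] k)
    haveI : Fintype G := Fintype.ofFinite G
    let ev : H →ₗ[k] G → k := LinearMap.pi fun g => g.ofConv.toLinearMap
    have hcard : Module.finrank k H = Fintype.card G := by
      rw [(LinearEquiv.ofBijective ev hev).finrank_eq, Module.finrank_pi]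
    obtain ⟨ℓ, hℓ, hdvd⟩ := Nat.exists_prime_and_dvd (show Fintype.card G ≠ 1 by omega)
    haveI : Fact ℓ.Prime := ⟨hℓ⟩
    obtain ⟨g, hg⟩ := exists_prime_orderOf_dvd_card ℓ hdvd
    let Z := Subgroup.zpowers g
    refine ⟨ConstGrp.F k Z, inferInstance, inferInstance, inferInstance, GrpSchLib.toConstGrp k H Z.subtype, ?_, ?_, ?_⟩
    · intro φ
      obtain ⟨a, ha⟩ := hev.2 fun x => if h : x ∈ Z then φ ⟨x, h⟩ else 0
      refine ⟨a, funext fun z => (congrFun ha (z : G)).trans ?_⟩
      show (if h : (z : G) ∈ Z then φ ⟨z, h⟩ else 0) = φ z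
      rw [dif_pos z.2]
    · rw [Module.finrank_eq_card_basis (ConstGrp.basis k Z), Fintype.card_zpowers, hg]
      exact hℓ.one_lt
    · intro c S _ _ α β
      refine CocycleSplit.symm_constGrp (g := (⟨g, Subgroup.mem_zpowers g⟩ : Z)) ?_ c α β
      rw [Subgroup.orderOf_mk, Fintype.card_zpowers]
  · obtain ⟨p, hp⟩ := CharP.exists k
    haveI := hp
    rcases CharP.char_is_prime_or_zero k p with hprime | hzero
    · haveI : Fact p.Prime := ⟨hprime⟩
      rcases GrpSchLib.exists_surjective_mu_or_alpha (k := k) p hred with ⟨f, hf⟩ | ⟨f, hf⟩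
      · refine ⟨MonoidAlgebra k (Multiplicative (ZMod p)), inferInstance, inferInstance,
          Module.Finite.of_basis (MonoidAlgebra.basis (Multiplicative (ZMod p)) k), f, hf, ?_,
          fun c S _ _ α β => CocycleSplit.symm_muP p c α β⟩
        rw [Module.finrank_eq_card_basis (MonoidAlgebra.basis (Multiplicative (ZMod p)) k)]
        simpa using hprime.one_lt
      · refine ⟨AlphaP.A p k, inferInstance, inferInstance, Module.Finite.of_basis (AlphaP.basis p k), f, hf, ?_,
          fun c S _ _ α β => CocycleSplit.symm_alphaP p c α β⟩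
        rw [AlphaP.finrank_eq p k]
        exact hprime.one_lt
    · subst hzero
      haveI : CharZero k := CharP.charP_to_charZero k
      haveI : Algebra.FiniteType k H := inferInstance
      exact absurd (ComodLib.isReduced_of_charZero' (k := k) (A := H)) hred

variable {A : Over (Spec (CommRingCat.of k))} [GrpObj A] [IsCommMonObj A] [IsProper A.hom]
  [GeometricallyIntegral A.hom] {L : A.left.Modules}

/-- a finite subgroup of `K(L)` with symmetric cocycles is isotropic -/
theorem isIsotropic_of_allSymm (hL : PicF.IsInvertible L) {H : Type u} [CommRing H] [HopfAlgebra k H]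
    [Module.Finite k H] (x : sp k H ⟶ A) [IsMonHom x] [IsCommMonObj (sp k H)] (hx : IsMumfordTriv A L x)
    (hsymm : AllSymm k H) : IsIsotropic L x := by
  obtain ⟨B0, cf, C, hB0x, -, hcf, hcnat, hCκ⟩ := exists_cochain hL x hx
  intro T n m α β hα hβ
  have huniv : cf _ (spMap (CocycleSplit.P₁ (k := k) (H := H)).ofConv) (spMap (CocycleSplit.P₂ (k := k) (H := H)).ofConv) =
      cf _ (spMap (CocycleSplit.P₂ (k := k) (H := H)).ofConv) (spMap (CocycleSplit.P₁ (k := k) (H := H)).ofConv) := by
    refine (ConcreteCategory.bijective_of_isIso (Scheme.ΓSpecIso (CommRingCat.of (H ⊗[k] H))).hom).1 ?_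
    rw [← hCκ, ← hCκ]
    exact hsymm C _ _
  obtain ⟨g, hn, hm⟩ := exists_univ_pair n m
  have hsym : cf T n m = cf T m n := by
    rw [← hn, ← hm, ← hcnat, ← hcnat, huniv]
  have hcomm : B0 T n * B0 T m = B0 T m * B0 T n := by
    refine pts_ext ?_
    rw [hcf, hcf, hsym, mul_comm n m]
  obtain ⟨c, hc, -⟩ := existsUnique_comm hL α β
  refine (isComm_one_iff _ _).1 ?_
  rwa [comm_eq_of_same_pts hL hα hβ (hB0x T n) (hB0x T m) hc ((isComm_one_iff _ _).2 hcomm)] at hc

variable {B : Over (Spec (CommRingCat.of k))} [GrpObj B] [IsCommMonObj B] [IsProper B.hom]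
  [GeometricallyIntegral B.hom] (f : A ⟶ B) [IsMonHom f] {M : B.left.Modules}

/-- points over an isotropic subgroup of `K(M)` form an isotropic family for `f^*M` -/
theorem isIsotropic_pull (hM : PicF.IsInvertible M) {C : Over (Spec (CommRingCat.of k))} {iC : C ⟶ B}
    (hC : ∀ {T : Over (Spec (CommRingCat.of k))} (y : T ⟶ C), IsMumfordTriv B M (y ≫ iC)) (hiso : IsIsotropic M iC)
    {H' : Over (Spec (CommRingCat.of k))} {i' : H' ⟶ A} {π : H' ⟶ C} (hπ : π ≫ iC = i' ≫ f) :
    IsIsotropic ((Scheme.Modules.pullback f.left).obj M) i' := by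
  intro T n m α β hα hβ
  have hL := PicClLib.isInvertible_pullback f.left hM
  obtain ⟨c, hc, -⟩ := existsUnique_comm hL α β
  refine (isComm_one_iff _ _).1 ?_
  suffices hc1 : c = 1 by rwa [hc1] at hc
  refine eq_of_local fun t => ?_
  obtain ⟨U₁, ht₁, b₁, hb₁⟩ := exists_local_pts hM _ (hC (n ≫ π)) t
  obtain ⟨U₂, ht₂, b₂, hb₂⟩ := exists_local_pts hM _ (hC (m ≫ π)) t
  let V := U₁ ⊓ U₂
  refine ⟨V, ⟨ht₁, ht₂⟩, ?_⟩
  obtain ⟨γ₁, hγ₁, -⟩ := existsUnique_bc (ovHomOfLE T (inf_le_left : V ≤ U₁)) b₁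
  obtain ⟨γ₂, hγ₂, -⟩ := existsUnique_bc (ovHomOfLE T (inf_le_right : V ≤ U₂)) b₂
  let g := ovIncl T V
  have h₁ : IsOverPt γ₁ ((g ≫ n ≫ π) ≫ iC) := by
    have h := isOverPt_bc hγ₁ hb₁
    rw [← Category.assoc, ovHomOfLE_incl] at h
    simpa only [Category.assoc] using h
  have h₂ : IsOverPt γ₂ ((g ≫ m ≫ π) ≫ iC) := by
    have h := isOverPt_bc hγ₂ hb₂
    rw [← Category.assoc, ovHomOfLE_incl] at h
    simpa only [Category.assoc] using h
  obtain ⟨F, hF, hFb, -⟩ := exists_mapObj f M (ovOpen T V)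
  obtain ⟨θ₁, hθ₁, hθ₁'⟩ := exists_pull_pts f hF hFb (g ≫ n ≫ i') γ₁ (by
    simpa only [Category.assoc, hπ] using h₁)
  obtain ⟨θ₂, hθ₂, hθ₂'⟩ := exists_pull_pts f hF hFb (g ≫ m ≫ i') γ₂ (by
    simpa only [Category.assoc, hπ] using h₂)
  have hb : (θ₁ * θ₂).1.hom.base = (θ₂ * θ₁).1.hom.base :=
    (isOverPt_mul hθ₁ hθ₂).trans (by rw [mul_comm]; exact (isOverPt_mul hθ₂ hθ₁).symm)
  obtain ⟨ζ₁, hζ₁, -⟩ := existsUnique_bc g α
  obtain ⟨ζ₂, hζ₂, -⟩ := existsUnique_bc g β
  have h := comm_eq_of_same_pts hL hθ₁ hθ₂ (isOverPt_bc hζ₁ hα) (isOverPt_bc hζ₂ hβ)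
    (isComm_pull f hF hFb hb hθ₁' hθ₂' ((isComm_one_iff γ₁ γ₂).2 (hiso _ (g ≫ n ≫ π) (g ≫ m ≫ π) γ₁ γ₂ h₁ h₂)))
    (isComm_bc hζ₁ hζ₂ hc)
  exact h.symm.trans (map_one _).symm

/-- isotropy only depends on the isomorphism class of the module -/
theorem isIsotropic_congr {L L' : A.left.Modules} (e : L ≅ L') {N : Over (Spec (CommRingCat.of k))} {i : N ⟶ A}
    (h : IsIsotropic L i) : IsIsotropic L' i := fun T n m α β hα hβ =>
  isPerpPt_congr e (N := N) (i := i) (x := n ≫ i) (fun T' g m' a b ha hb =>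
    h T' (g ≫ n) m' a b (by rw [Category.assoc]; exact ha) hb) T (𝟙 T) m α β (by rw [Category.id_comp]; exact hα) hβ

/-- `K(L)` as a subgroup scheme -/
theorem exists_grp_isKL (hL : PicF.IsInvertible L) {K : Over (Spec (CommRingCat.of k))} (iK : K ⟶ A)
    (hK : IsKL A L iK) : ∃ _ : GrpObj K, IsMonHom iK := by
  haveI : Subsingleton ↥(Spec (CommRingCat.of k)) := inferInstanceAs (Subsingleton (PrimeSpectrum k))
  haveI : Nonempty ↥(Spec (CommRingCat.of k)) := inferInstanceAs (Nonempty (PrimeSpectrum k))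
  haveI := hK.closed
  haveI := AVRosati.SubAV.mono_of_closed iK
  have hmt : ∀ {T : Over (Spec (CommRingCat.of k))} (n : T ⟶ K),
      H23.KLBasic.Eq L T (n ≫ iK) (PicF.pullCl (n ≫ iK).left (PicF.cl L)) := fun n =>
    (H23.KLBasic.iff_eq_pull hL _).1 ((hK.univ _ _).2 ⟨n, rfl⟩)
  have hinv : ∀ {T : Over (Spec (CommRingCat.of k))} (x : T ⟶ A),
      PicF.IsInvertibleCl (PicF.pullCl x.left (PicF.cl L)) := fun {T} x =>
    PicClLib.isInvertibleCl_pullCl x.left ⟨L, rfl, hL⟩
  refine IsogLib.exists_grpObj_of_mono iK ?_ ?_ ?_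
  · refine (hK.univ _ η[A]).1 ((H23.KLBasic.mumford_iff hL η[A]).2 ⟨1, AVPair.isInv_one, ?_⟩)
    rw [show η[A] = (1 : 𝟙_ (Over (Spec (CommRingCat.of k))) ⟶ A) by
      rw [Hom.one_def, toUnit_unique (toUnit _) (𝟙 _), Category.id_comp]]
    exact H23.KLBasic.eq_one _
  · exact (hK.univ _ _).1 ((H23.KLBasic.mumford_iff hL _).2
      ⟨_, H23.PicMul.isInvertibleCl_mul (hinv _) (hinv _), H23.KLBasic.eq_mul (hmt (fst K K)) (hmt (snd K K))⟩)
  · obtain ⟨d, hdi, hd⟩ := AVPair.exists_inv (hinv iK)
    have h0 := hmt (𝟙 K)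
    rw [Category.id_comp] at h0
    exact (hK.univ _ _).1 ((H23.KLBasic.mumford_iff hL _).2 ⟨d, hdi, H23.KLBasic.eq_inv h0 hd⟩)

variable [IsAlgClosed k]

set_option maxHeartbeats 3000000 in
/-- a maximal isotropic subgroup of a finite `K(L)` -/
theorem maximal_isotropic (hL : PicF.IsInvertible L) {K : Over (Spec (CommRingCat.of k))} (iK : K ⟶ A)
    (hK : IsKL A L iK) [IsFinite K.hom] {H : Over (Spec (CommRingCat.of k))} [GrpObj H] (iH : H ⟶ A) [IsMonHom iH]
    [IsClosedImmersion iH.left] (hHK : ∃ y : H ⟶ K, y ≫ iK = iH) (hiso : IsIsotropic L iH)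
    (hmax : ∀ (H' : Over (Spec (CommRingCat.of k))) [GrpObj H'] (iH' : H' ⟶ A) [IsMonHom iH']
      [IsClosedImmersion iH'.left], (∃ y' : H' ⟶ K, y' ≫ iK = iH') → IsIsotropic L iH' →
      (∃ z : H ⟶ H', z ≫ iH' = iH) → ∃ z' : H' ⟶ H, z' ≫ iH = iH') :
    (∀ (T : Over (Spec (CommRingCat.of k))) (x : T ⟶ A),
        ((∃ y : T ⟶ K, y ≫ iK = x) ∧ IsPerpPt L iH x) ↔ ∃ z : T ⟶ H, z ≫ iH = x) ∧
      IsFinite H.hom ∧
      ∀ s : ↥(Spec (CommRingCat.of k)), Scheme.Hom.finrank H.hom s ^ 2 = Scheme.Hom.finrank K.hom s := by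
  haveI : Subsingleton ↥(Spec (CommRingCat.of k)) := inferInstanceAs (Subsingleton (PrimeSpectrum k))
  haveI : Nonempty ↥(Spec (CommRingCat.of k)) := inferInstanceAs (Nonempty (PrimeSpectrum k))
  haveI := hK.closed
  haveI := AVRosati.SubAV.mono_of_closed iK
  haveI := AVRosati.SubAV.mono_of_closed iH
  haveI : IsFinite H.hom := by
    obtain ⟨y, hy⟩ := hHK
    haveI : IsClosedImmersion (y.left ≫ iK.left) := by rw [← Over.comp_left, hy]; infer_instance
    haveI : IsClosedImmersion y.left := IsClosedImmersion.of_comp y.left iK.left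
    rw [← Over.w y]
    infer_instance
  haveI : IsCommMonObj H := AVRosati.SubAV.isCommMonObj_of_mono iH
  obtain ⟨B, sB, f, hf, hff, hfl, hfs, hBp, hBg, hker⟩ := AVRosati.FinQuot.exists_quotient iH
  letI := sB
  haveI := hf
  haveI := hff
  haveI := hfl
  haveI := hfs
  haveI := hBp
  haveI := hBg
  haveI : IsCommMonObj B := isCommMonObj_of_isProper_of_geometricallyIntegral B
  obtain ⟨M, hM, ⟨eM⟩⟩ := (S19948.result k A B f hfs H iH hker L hL K iK hK).2 ⟨hHK, hiso⟩
  let L' := (Scheme.Modules.pullback f.left).obj M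
  have hcl : PicF.cl L' = PicF.cl L := (PicGrp.cl_eq_cl_iff _ _).2 ⟨eM⟩
  have hK' : IsKL A L' iK := isKL_congr hL (PicClLib.isInvertible_pullback f.left hM) hcl hK
  obtain ⟨KM, iM, hKM⟩ := KLExist.exists_isKL B M hM
  haveI := hKM.closed
  haveI := AVRosati.SubAV.mono_of_closed iM
  obtain ⟨sM, hiM⟩ := exists_grp_isKL hM iM hKM
  letI := sM
  haveI := hiM
  have hiff : ∀ (T : Over (Spec (CommRingCat.of k))) (x : T ⟶ A),
      (∃ z : T ⟶ KM, z ≫ iM = x ≫ f) ↔ ((∃ z : T ⟶ K, z ≫ iK = x) ∧ IsPerpPt L iH x) := by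
    intro T x
    rw [S19949.result k A B f hfs H iH hker M hM K iK hK' KM iM hKM T x]
    exact and_congr_right fun _ => ⟨isPerpPt_congr eM, isPerpPt_congr eM.symm⟩
  -- K(M) is finite
  let P : Over (Spec (CommRingCat.of k)) := Over.mk (pullback.fst f.left iM.left ≫ A.hom)
  let pA : P ⟶ A := Over.homMk (pullback.fst f.left iM.left) rfl
  let pM : P ⟶ KM := Over.homMk (pullback.snd f.left iM.left) (by
    show pullback.snd f.left iM.left ≫ KM.hom = pullback.fst f.left iM.left ≫ A.hom
    rw [← Over.w iM, ← Over.w f, pullback.condition_assoc])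
  have hP : pM ≫ iM = pA ≫ f := Over.OverMorphism.ext pullback.condition.symm
  obtain ⟨⟨yP, hyP⟩, -⟩ := (hiff P pA).1 ⟨pM, hP⟩
  haveI : IsFinite P.hom := by
    haveI : IsClosedImmersion pA.left := MorphismProperty.pullback_fst _ _ hKM.closed
    haveI : IsClosedImmersion (yP.left ≫ iK.left) := by rw [← Over.comp_left, hyP]; infer_instance
    haveI : IsClosedImmersion yP.left := IsClosedImmersion.of_comp yP.left iK.left
    rw [← Over.w yP]
    infer_instance
  obtain ⟨s₀⟩ := (inferInstance : Nonempty ↥(Spec (CommRingCat.of k)))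
  haveI : IsFinite KM.hom := by
    haveI : Surjective pM.left := MorphismProperty.pullback_snd _ _ hfs
    haveI : IsProper KM.hom := by
      rw [← Over.w iM]
      infer_instance
    haveI : LocallyOfFiniteType (𝟙_ (Over (Spec (CommRingCat.of k)))).hom :=
      inferInstanceAs (LocallyOfFiniteType (𝟙 (Spec (CommRingCat.of k))))
    haveI : IsSeparated (𝟙_ (Over (Spec (CommRingCat.of k)))).hom :=
      inferInstanceAs (IsSeparated (𝟙 (Spec (CommRingCat.of k))))
    have h : IsFinite (toUnit KM).left := AVPoinc.isFinite_of_finite_points (toUnit KM) fun x => by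
      haveI : Finite ↥P.left := Set.finite_univ_iff.1
        ((Scheme.Hom.finite_preimage_singleton P.hom s₀).subset fun z _ => Subsingleton.elim _ _)
      haveI : Finite ↥KM.left := Finite.of_surjective _ pM.left.surjective
      refine Set.Finite.of_finite_image (f := fun y => y.left (IsLocalRing.closedPoint k)) (Set.toFinite _) ?_
      exact fun y _ y' _ h => AVEuler.point_injective h
    exact h
  -- K(M) is trivial
  haveI : IsAffine KM.left := isAffine_of_isAffineHom KM.hom
  obtain ⟨R, iR₁, iR₂, ⟨e⟩⟩ := exists_hopf KM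
  letI := iR₁
  letI := iR₂
  let eR : sp k R ⟶ KM := e.hom.hom.hom
  haveI : IsMonHom eR := e.hom.hom.isMonHom_hom
  haveI : IsIso eR.left := ⟨(e.inv.hom.hom).left,
    by rw [← Over.comp_left]; exact congrArg (fun z => (z.hom.hom).left) e.hom_inv_id,
    by rw [← Over.comp_left]; exact congrArg (fun z => (z.hom.hom).left) e.inv_hom_id⟩
  haveI : Module.Finite k R := by
    have h : IsFinite (eR.left ≫ KM.hom) := inferInstance
    rw [Over.w] at h
    exact RingHom.finite_algebraMap.1 ((IsFinite.SpecMap_iff _).1 h)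
  have hrank : ∀ s, Scheme.Hom.finrank KM.hom s = Module.finrank k R := fun s => by
    haveI : Flat KM.hom := AssLib.flat_over_field KM.hom
    rw [← Scheme.Hom.finrank_comp_left_of_isIso eR.left KM.hom, Over.w]
    refine (Scheme.Hom.finrank_SpecMap_algebraMap k R s).trans ?_
    rw [Module.rankAtStalk_eq_finrank_of_free]
    rfl
  have hR : Module.finrank k R = 1 := by
    haveI : Nontrivial R := Function.Injective.nontrivial
      (f := algebraMap k R) (Function.LeftInverse.injective fun a => (Bialgebra.counitAlgHom k R).commutes a)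
    by_contra hne
    have h1 : 1 < Module.finrank k R := lt_of_le_of_ne Module.finrank_pos (Ne.symm hne)
    obtain ⟨C, iC₁, iC₂, iC₃, φ, hφ, hC1, hsymm⟩ := exists_symm_sub R h1
    letI := iC₁
    letI := iC₂
    haveI := iC₃
    let iC : sp k C ⟶ B := spMap (φ : R →ₐ[k] C) ≫ eR ≫ iM
    haveI : IsClosedImmersion (spMap (φ : R →ₐ[k] C)).left :=
      IsClosedImmersion.spec_of_surjective (CommRingCat.ofHom (φ : R →ₐ[k] C).toRingHom) hφ
    haveI : IsClosedImmersion iC.left := by
      show IsClosedImmersion ((spMap (φ : R →ₐ[k] C)).left ≫ eR.left ≫ iM.left)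
      infer_instance
    haveI := AVRosati.SubAV.mono_of_closed iC
    haveI : IsMonHom iC := inferInstance
    haveI : IsCommMonObj (sp k C) := AVRosati.SubAV.isCommMonObj_of_mono iC
    have hCK : ∀ {T : Over (Spec (CommRingCat.of k))} (y : T ⟶ sp k C), IsMumfordTriv B M (y ≫ iC) := fun {T} y =>
      (hKM.univ _ _).2 ⟨y ≫ spMap (φ : R →ₐ[k] C) ≫ eR, by simp [iC]⟩
    have hCiso : IsIsotropic M iC := isIsotropic_of_allSymm hM iC
      (by simpa using hCK (𝟙 (sp k C))) hsymm
    let P' : Over (Spec (CommRingCat.of k)) := Over.mk (pullback.fst f.left iC.left ≫ A.hom)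
    let i' : P' ⟶ A := Over.homMk (pullback.fst f.left iC.left) rfl
    let π : P' ⟶ sp k C := Over.homMk (pullback.snd f.left iC.left) (by
      show pullback.snd f.left iC.left ≫ (sp k C).hom = pullback.fst f.left iC.left ≫ A.hom
      rw [← Over.w iC, ← Over.w f, pullback.condition_assoc])
    have hπ : π ≫ iC = i' ≫ f := Over.OverMorphism.ext pullback.condition.symm
    haveI : IsClosedImmersion i'.left := MorphismProperty.pullback_fst _ _ ‹IsClosedImmersion iC.left›
    haveI := AVRosati.SubAV.mono_of_closed i'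
    have hfac : ∀ {T : Over (Spec (CommRingCat.of k))} (x : T ⟶ A) (y : T ⟶ sp k C), y ≫ iC = x ≫ f →
        ∃ z : T ⟶ P', z ≫ i' = x := fun {T} x y h => by
      have h' : x.left ≫ f.left = y.left ≫ iC.left := by rw [← Over.comp_left, ← Over.comp_left, h]
      refine ⟨Over.homMk (pullback.lift x.left y.left h') ?_, Over.OverMorphism.ext (pullback.lift_fst _ _ _)⟩
      show _ ≫ pullback.fst f.left iC.left ≫ A.hom = T.hom
      rw [pullback.lift_fst_assoc, Over.w]
    obtain ⟨_, hi'⟩ := IsogLib.exists_grpObj_of_mono i'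
      (hfac η[A] η[sp k C] (by rw [IsMonHom.one_hom, IsMonHom.one_hom]))
      (hfac _ ((fst P' P' ≫ π) * (snd P' P' ≫ π)) (by
        simp only [MonObj.mul_comp, Category.assoc, hπ]))
      (hfac _ π⁻¹ (by rw [GrpObj.inv_comp, hπ, GrpObj.inv_comp]))
    haveI := hi'
    have hKi : ∃ y' : P' ⟶ K, y' ≫ iK = i' :=
      ((hiff P' i').1 ((hKM.univ _ _).1 (by rw [← hπ]; exact hCK π))).1
    have hHi : ∃ z : H ⟶ P', z ≫ i' = iH := hfac iH 1 (by rw [MonObj.one_comp, IsogLib.kernel_comp f hker])
    obtain ⟨z', hz'⟩ := hmax P' i' hKi (isIsotropic_congr eM (isIsotropic_pull f hM hCK hCiso hπ)) hHi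
    have hπ1 : π ≫ iC = π ≫ 1 := by
      rw [hπ, ← hz', Category.assoc, IsogLib.kernel_comp f hker, MonObj.comp_one, MonObj.comp_one]
    haveI : Surjective π.left := MorphismProperty.pullback_snd _ _ hfs
    haveI : Flat π.left := MorphismProperty.pullback_snd _ _ hfl
    haveI : IsFinite π.left := MorphismProperty.pullback_snd _ _ hff
    haveI := Flat.epi_of_flat_of_surjective π.left
    have hiC : iC = 1 := Over.OverMorphism.ext
      ((cancel_epi π.left).1 (congrArg CommaMorphism.left hπ1))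
    have hid : 𝟙 (sp k C) = toUnit _ ≫ η[sp k C] := by
      rw [← cancel_mono iC, Category.id_comp, Category.assoc, IsMonHom.one_hom, ← Hom.one_def]
      exact hiC
    haveI : IsIso (toUnit (sp k C)).left := ⟨η[sp k C].left, by rw [← Over.comp_left, ← hid]; rfl, by
      rw [← Over.comp_left, toUnit_unique (η[sp k C] ≫ toUnit _) (𝟙 _)]
      rfl⟩
    have h := congrFun (Scheme.Hom.finrank_eq_one_of_isIso (toUnit (sp k C)).left) s₀
    rw [show Scheme.Hom.finrank (toUnit (sp k C)).left s₀ = Module.finrank k C from by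
      refine (Scheme.Hom.finrank_SpecMap_algebraMap k C s₀).trans ?_
      rw [Module.rankAtStalk_eq_finrank_of_free]
      rfl] at h
    rw [h] at hC1
    exact lt_irrefl _ hC1
  haveI : Flat KM.hom := AssLib.flat_over_field KM.hom
  haveI : IsIso KM.hom := (Scheme.Hom.isIso_iff_finrank_eq KM.hom).2 (funext fun s => by rw [hrank, hR]; rfl)
  haveI : IsIso ((Over.forget _).map (toUnit KM)) := ‹IsIso KM.hom›
  haveI : IsIso (toUnit KM) := isIso_of_reflects_iso _ (Over.forget _)
  refine ⟨fun T x => ?_, inferInstance, fun s => ?_⟩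
  · rw [← hiff T x]
    constructor
    · rintro ⟨z, hz⟩
      refine IsogLib.exists_kernel_lift f hker x ?_
      rw [← hz, show z = toUnit T ≫ η[KM] from (cancel_mono (toUnit KM)).1 (toUnit_unique _ _), Category.assoc,
        IsMonHom.one_hom]
      rfl
    · rintro ⟨z, rfl⟩
      exact ⟨1, by rw [MonObj.one_comp, Category.assoc, IsogLib.kernel_comp f hker, MonObj.comp_one]⟩
  · haveI : IsIntegral A.left := GeometricallyIntegral.isIntegral_of_subsingleton A.hom
    haveI : IsIntegral B.left := GeometricallyIntegral.isIntegral_of_subsingleton B.hom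
    haveI : IsLocallyNoetherian A.left := LocallyOfFiniteType.isLocallyNoetherian A.hom
    haveI : IsLocallyNoetherian B.left := LocallyOfFiniteType.isLocallyNoetherian B.hom
    obtain ⟨g, hg⟩ := AVDegPoly.exists_dim (A := A)
    have hgB : topologicalKrullDim B.left = g := ((S4717.result f.left).2 f.left.surjective).symm.trans hg
    have e1 : Scheme.Hom.finrank H.hom s = Scheme.Hom.finrank f.left (η[B].left s) := by
      have sq : IsPullback iH.left (toUnit H).left f.left η[B].left := hker.map (Over.forget _)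
      exact Scheme.Hom.finrank_of_isPullback _ _ _ _ sq s
    have hcov : ∀ b : ↥B.left, Scheme.Hom.finrank f.left b = Scheme.Hom.finrank H.hom s := fun b => by
      rw [e1]
      exact AVDegPoly.finrank_const hg hgB f b _
    have hχ := AVEuler.euler_pullback_isogeny f (Scheme.Hom.finrank H.hom s) hcov (F := M) (AmpleVan.isCoh_invertible hM)
    rw [← AVEuler.chi_cl] at hχ
    change AVEuler.chi A (PicF.pullCl f.left (PicF.cl M)) = _ at hχ
    rw [show PicF.pullCl f.left (PicF.cl M) = PicF.cl L from hcl, AVEuler.chi_cl] at hχ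
    have hKr := KLRank.finrank_isKL hL iK hK s
    have hMr := KLRank.finrank_isKL hM iM hKM s
    rw [hrank, hR] at hMr
    have : ((Scheme.Hom.finrank H.hom s ^ 2 : ℕ) : ℤ) = (Scheme.Hom.finrank K.hom s : ℕ) := by
      rw [hKr, hχ, mul_pow, ← hMr]
      push_cast
      ring
    exact_mod_cast this

end Groth.Agent.AVTheta

end
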