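import Groth.Agent.AVTheta.Perp
import Groth.Agent.AVTheta.KLRank
import Groth.Agent.AVDegPoly.DetVal
import Groth.Agent.S19948
import Groth.Agent.S19949
import Groth.Agent.AssLib.FlatField

/-!
The theta group of a nondegenerate invertible module is nondegenerate.
-/

noncomputable section

set_option autoImplicit false
set_option linter.style.haveILetI false
set_option linter.unusedSectionVars false
set_option backward.isDefEq.respectTransparency false
set_option backward.isDefEq.respectTransparency.types false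
set_option maxHeartbeats 1000000
set_option synthInstance.maxHeartbeats 400000

universe u

open CategoryTheory CategoryTheory.Limits AlgebraicGeometry MonoidalCategory CartesianMonoidalCategory TopologicalSpace
open scoped MonObj Groth.Agent.H23.PicMul

attribute [-instance] CategoryTheory.catToReflQuiver

namespace Groth.Agent.AVTheta

open ThetaGrp

variable {k : Type u} [Field k] {A : Over (Spec (CommRingCat.of k))} [GrpObj A] [IsCommMonObj A] [IsProper A.hom]
  [GeometricallyIntegral A.hom]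

/-- isomorphic modules have the same `K(L)` -/
theorem isKL_congr {L L' : A.left.Modules} (hL : PicF.IsInvertible L) (hL' : PicF.IsInvertible L')
    (h : PicF.cl L' = PicF.cl L) {K : Over (Spec (CommRingCat.of k))} {iK : K ⟶ A} (hK : IsKL A L iK) :
    IsKL A L' iK := by
  haveI : Subsingleton ↥(Spec (CommRingCat.of k)) := inferInstanceAs (Subsingleton (PrimeSpectrum k))
  haveI : Nonempty ↥(Spec (CommRingCat.of k)) := inferInstanceAs (Nonempty (PrimeSpectrum k))
  refine ⟨hK.closed, fun T x => ?_⟩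
  rw [H23.KLBasic.iff_eq_pull hL' x, H23.KLBasic.Eq, h]
  refine Iff.trans ?_ (hK.univ T x)
  rw [H23.KLBasic.iff_eq_pull hL x, H23.KLBasic.Eq]

/-- orthogonality only depends on the isomorphism class of the module -/
theorem isPerpPt_congr {L L' : A.left.Modules} (e : L ≅ L') {N T : Over (Spec (CommRingCat.of k))} {i : N ⟶ A}
    {x : T ⟶ A} (hx : IsPerpPt L i x) : IsPerpPt L' i x := by
  intro T' g m α₁ α₂ h₁ h₂
  let e' : L ≅ (Scheme.Modules.pullback (𝟙 A : A ⟶ A).left).obj L' :=
    e ≪≫ ((Scheme.Modules.pullbackId A.left).app L').symm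
  obtain ⟨F, hF, hFb⟩ := exists_pullMap (𝟙 A) e' T'
  obtain ⟨θ₁, hθ₁, hθ₁'⟩ := exists_pull_pts (𝟙 A) hF hFb (g ≫ x) α₁ (by rw [Category.comp_id]; exact h₁)
  obtain ⟨θ₂, hθ₂, hθ₂'⟩ := exists_pull_pts (𝟙 A) hF hFb (m ≫ i) α₂ (by rw [Category.comp_id]; exact h₂)
  have hc := congrArg (fun z : thetaPts A L T' => z.1.hom ≫ F) (hx T' g m θ₁ θ₂ hθ₁ hθ₂)
  change (θ₂.1.hom ≫ θ₁.1.hom) ≫ F = (θ₁.1.hom ≫ θ₂.1.hom) ≫ F at hc
  rw [Category.assoc, Category.assoc, hθ₁', hθ₂', reassoc_of% hθ₂', reassoc_of% hθ₁'] at hc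
  obtain ⟨G, -, hGF, -⟩ := exists_inv hF (𝟙 _) (by
    rw [hFb, id_whiskerRight]
    rfl) (by
    rw [hFb, id_whiskerRight]
    rfl)
  refine pts_ext ?_
  show α₂.1.hom ≫ α₁.1.hom = α₁.1.hom ≫ α₂.1.hom
  have h' := congrArg (G ≫ ·) hc
  simp only [← Category.assoc] at h'
  simpa only [show G ≫ F = 𝟙 _ from hGF, Category.id_comp] using h'

variable [IsAlgClosed k]

set_option maxHeartbeats 3000000 in
/-- the orthogonal of a finite `K(L)` is trivial -/
theorem eq_one_of_isPerpPt {L : A.left.Modules} (hL : PicF.IsInvertible L) {K : Over (Spec (CommRingCat.of k))}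
    (iK : K ⟶ A) (hK : IsKL A L iK) [IsFinite K.hom] {T : Over (Spec (CommRingCat.of k))} (y : T ⟶ K)
    (hy : IsPerpPt L iK (y ≫ iK)) : y ≫ iK = 1 := by
  haveI : Subsingleton ↥(Spec (CommRingCat.of k)) := inferInstanceAs (Subsingleton (PrimeSpectrum k))
  haveI : Nonempty ↥(Spec (CommRingCat.of k)) := inferInstanceAs (Nonempty (PrimeSpectrum k))
  obtain ⟨s⟩ := (inferInstance : Nonempty ↥(Spec (CommRingCat.of k)))
  haveI := hK.closed
  obtain ⟨Z, sZ, j, hj, hiZ, hZ⟩ := exists_perp_subgroup hL iK hK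
  letI := sZ
  haveI := hj
  haveI := hiZ
  let iZ := j ≫ iK
  haveI : IsClosedImmersion iZ.left := by
    show IsClosedImmersion (j.left ≫ iK.left)
    infer_instance
  haveI : IsFinite Z.hom := by
    rw [← Over.w j]
    infer_instance
  haveI := AVRosati.SubAV.mono_of_closed iZ
  haveI : IsCommMonObj Z := AVRosati.SubAV.isCommMonObj_of_mono iZ
  have hperp : ∀ {T : Over (Spec (CommRingCat.of k))} (z : T ⟶ Z), IsPerpPt L iK (z ≫ iZ) := fun {T} z => by
    have := (hZ T (z ≫ j)).1 ⟨z, rfl⟩
    rwa [Category.assoc] at this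
  obtain ⟨B, sB, f, hf, hff, hfl, hfs, hBp, hBg, hker⟩ := AVRosati.FinQuot.exists_quotient iZ
  letI := sB
  haveI := hf
  haveI := hff
  haveI := hfl
  haveI := hfs
  haveI := hBp
  haveI := hBg
  haveI : IsCommMonObj B := isCommMonObj_of_isProper_of_geometricallyIntegral B
  -- descent
  have hiso : IsIsotropic L iZ := fun T a b β₁ β₂ ha hb =>
    hperp a T (𝟙 T) (b ≫ j) β₁ β₂ (by rw [Category.id_comp]; exact ha) (by rw [Category.assoc]; exact hb)
  obtain ⟨M, hM, ⟨eM⟩⟩ := (S19948.result k A B f hfs Z iZ hker L hL K iK hK).2 ⟨⟨j, rfl⟩, hiso⟩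
  let L' := (Scheme.Modules.pullback f.left).obj M
  have hL' : PicF.IsInvertible L' := PicClLib.isInvertible_pullback f.left hM
  have hcl : PicF.cl L' = PicF.cl L := (PicGrp.cl_eq_cl_iff _ _).2 ⟨eM⟩
  have hK' : IsKL A L' iK := isKL_congr hL hL' hcl hK
  obtain ⟨KM, iM, hKM⟩ := KLExist.exists_isKL B M hM
  haveI := hKM.closed
  haveI := AVRosati.SubAV.mono_of_closed iM
  -- the points
  have hiff : ∀ (T : Over (Spec (CommRingCat.of k))) (x : T ⟶ A),
      (∃ z : T ⟶ KM, z ≫ iM = x ≫ f) ↔ ∃ z : T ⟶ K, z ≫ iK = x := by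
    intro T x
    rw [S19949.result k A B f hfs Z iZ hker M hM K iK hK' KM iM hKM T x]
    refine ⟨fun h => h.1, fun h => ⟨h, ?_⟩⟩
    obtain ⟨z, rfl⟩ := h
    refine isPerpPt_congr eM.symm ?_
    intro T' g m α₁ α₂ h₁ h₂
    exact (hperp m T' (𝟙 T') (g ≫ z) α₂ α₁ (by rw [Category.id_comp]; exact h₂)
      (by rw [Category.assoc]; exact h₁)).symm
  obtain ⟨f', hf'⟩ := (hiff K iK).2 ⟨𝟙 K, Category.id_comp _⟩
  have hsqK : IsPullback iK f' f iM := by
    refine ⟨⟨hf'.symm⟩, ⟨PullbackCone.IsLimit.mk hf'.symm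
      (fun c => ((hiff _ c.fst).1 ⟨c.snd, c.condition.symm⟩).choose)
      (fun c => ((hiff _ c.fst).1 ⟨c.snd, c.condition.symm⟩).choose_spec) (fun c => ?_) (fun c m h₁ _ => ?_)⟩⟩
    · rw [← cancel_mono iM, Category.assoc, hf', ← Category.assoc,
        ((hiff _ c.fst).1 ⟨c.snd, c.condition.symm⟩).choose_spec, c.condition]
    · haveI := AVRosati.SubAV.mono_of_closed iK
      rw [← cancel_mono iK, ((hiff _ c.fst).1 ⟨c.snd, c.condition.symm⟩).choose_spec, h₁]
  have sqK : IsPullback iK.left f'.left f.left iM.left := hsqK.map (Over.forget _)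
  haveI : IsFinite KM.hom := by
    haveI : Surjective f'.left := MorphismProperty.of_isPullback sqK hfs
    haveI : IsProper KM.hom := by
      rw [← Over.w iM]
      infer_instance
    haveI : LocallyOfFiniteType (𝟙_ (Over (Spec (CommRingCat.of k)))).hom :=
      inferInstanceAs (LocallyOfFiniteType (𝟙 (Spec (CommRingCat.of k))))
    haveI : IsSeparated (𝟙_ (Over (Spec (CommRingCat.of k)))).hom :=
      inferInstanceAs (IsSeparated (𝟙 (Spec (CommRingCat.of k))))
    have h : IsFinite (toUnit KM).left := AVPoinc.isFinite_of_finite_points (toUnit KM) fun x => by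
      haveI : Finite ↥K.left := Set.finite_univ_iff.1
        ((IsFinite.finite_preimage_singleton K.hom s).subset fun z _ => Subsingleton.elim _ _)
      haveI : Finite ↥KM.left := Finite.of_surjective _ f'.left.surjective
      refine Set.Finite.of_finite_image (f := fun y => y.left (IsLocalRing.closedPoint k)) (Set.toFinite _) ?_
      exact fun y _ y' _ h => AVEuler.point_injective h
    exact h
  -- the degrees
  obtain ⟨Q, sQ, q, -, hq, hqf, hqs, hQp, hQg, hqfl, hkq, -⟩ := DualQuot.exists_dual_of_isKL hM iM hKM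
  letI := sQ
  haveI := hq
  haveI := hqs
  haveI := hqf
  haveI := hQp
  haveI := hQg
  haveI := hqfl
  haveI : IsIntegral A.left := GeometricallyIntegral.isIntegral_of_subsingleton A.hom
  haveI : IsIntegral B.left := GeometricallyIntegral.isIntegral_of_subsingleton B.hom
  haveI : IsIntegral Q.left := GeometricallyIntegral.isIntegral_of_subsingleton Q.hom
  haveI : IsLocallyNoetherian A.left := LocallyOfFiniteType.isLocallyNoetherian A.hom
  haveI : IsLocallyNoetherian B.left := LocallyOfFiniteType.isLocallyNoetherian B.hom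
  haveI : IsLocallyNoetherian Q.left := LocallyOfFiniteType.isLocallyNoetherian Q.hom
  obtain ⟨g, hg⟩ := AVDegPoly.exists_dim (A := A)
  have hgB : topologicalKrullDim B.left = g := ((S4717.result f.left).2 f.left.surjective).symm.trans hg
  have hgQ : topologicalKrullDim Q.left = g := ((S4717.result q.left).2 q.left.surjective).symm.trans hgB
  haveI : IsFinite (f ≫ q).left := by
    rw [Over.comp_left]
    infer_instance
  haveI : Flat (f ≫ q).left := by
    rw [Over.comp_left]
    infer_instance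
  haveI : IsCommMonObj Q := isCommMonObj_of_isProper_of_geometricallyIntegral Q
  have hmul := AVDegPoly.finrank_comp hg hgB hgQ f q (f ≫ q) rfl (η[B].left s) (η[Q].left s)
  have e1 : Scheme.Hom.finrank Z.hom s = Scheme.Hom.finrank f.left (η[B].left s) := by
    have sq : IsPullback iZ.left (toUnit Z).left f.left η[B].left := hker.map (Over.forget _)
    exact Scheme.Hom.finrank_of_isPullback _ _ _ _ sq s
  have e2 : Scheme.Hom.finrank KM.hom s = Scheme.Hom.finrank q.left (η[Q].left s) := by
    have sq : IsPullback iM.left (toUnit KM).left q.left η[Q].left := hkq.map (Over.forget _)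
    exact Scheme.Hom.finrank_of_isPullback _ _ _ _ sq s
  have e3 : Scheme.Hom.finrank K.hom s = Scheme.Hom.finrank (f ≫ q).left (η[Q].left s) := by
    have sq : IsPullback iK.left (toUnit K).left (f ≫ q).left η[Q].left := by
      have h := (hsqK.paste_vert hkq).map (Over.forget _)
      rw [toUnit_unique (f' ≫ toUnit KM) (toUnit K)] at h
      exact h
    exact Scheme.Hom.finrank_of_isPullback _ _ _ _ sq s
  rw [← e1, ← e2, ← e3] at hmul
  -- the Euler characteristics
  have hcov : ∀ b : ↥B.left, Scheme.Hom.finrank f.left b = Scheme.Hom.finrank Z.hom s := fun b => by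
    rw [e1]
    exact AVDegPoly.finrank_const hg hgB f b _
  have hχ := AVEuler.euler_pullback_isogeny f (Scheme.Hom.finrank Z.hom s) hcov (F := M) (AmpleVan.isCoh_invertible hM)
  rw [← AVEuler.chi_cl] at hχ
  change AVEuler.chi A (PicF.pullCl f.left (PicF.cl M)) = _ at hχ
  rw [show PicF.pullCl f.left (PicF.cl M) = PicF.cl L from hcl, AVEuler.chi_cl] at hχ
  have hKr := KLRank.finrank_isKL hL iK hK s
  have hMr := KLRank.finrank_isKL hM iM hKM s
  have hM0 := KLRank.euler_ne_zero hM iM hKM
  have hZ0 : 0 < Scheme.Hom.finrank Z.hom s := by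
    rw [e1]
    exact AVDegPoly.finrank_pos hg hgB f _
  have hZ1 : Scheme.Hom.finrank Z.hom s = 1 := by
    have h := congrArg (fun n : ℕ => (n : ℤ)) hmul
    simp only [Nat.cast_mul] at h
    rw [hKr, hMr, hχ] at h
    have h' : (Scheme.Hom.finrank Z.hom s : ℤ) = 1 := by
      have h2 : ((Scheme.Hom.finrank Z.hom s : ℤ) - 1) *
          ((Scheme.Hom.finrank Z.hom s : ℤ) * @Curv2.euler k _ B.left ⟨B.hom⟩ M ^ 2) = 0 := by
        linear_combination h
      rcases mul_eq_zero.1 h2 with h3 | h3
      · omega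
      · exact absurd h3 (mul_ne_zero (by exact_mod_cast hZ0.ne') (pow_ne_zero _ hM0))
    exact_mod_cast h'
  haveI : Flat Z.hom := AssLib.flat_over_field Z.hom
  haveI : IsIso Z.hom := (Scheme.Hom.isIso_iff_finrank_eq Z.hom).2 (funext fun x => by rw [Subsingleton.elim x s, hZ1]; rfl)
  haveI : IsIso (toUnit Z).left := by
    show IsIso Z.hom
    infer_instance
  haveI : IsIso ((Over.forget _).map (toUnit Z)) := ‹IsIso (toUnit Z).left›
  haveI : IsIso (toUnit Z) := isIso_of_reflects_iso _ (Over.forget _)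
  obtain ⟨z, hz⟩ := (hZ T y).2 hy
  rw [← hz, Category.assoc, show z = toUnit T ≫ η[Z] from (cancel_mono (toUnit Z)).1 (toUnit_unique _ _),
    Category.assoc, IsMonHom.one_hom]
  rfl

end Groth.Agent.AVTheta

end
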