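import Groth.Agent.AVTheta.Quot
import Groth.Agent.GrpSchLib.Coincidence
import Groth.Agent.Lib.AVPair
import Groth.Agent.H23.KLBasic
import Mathlib.AlgebraicGeometry.AffineSpace

/-!
The orthogonal of `K(L)` inside itself is a closed subgroup scheme.
-/

noncomputable section

set_option autoImplicit false
set_option linter.style.haveILetI false
set_option linter.unusedSectionVars false
set_option backward.isDefEq.respectTransparency false
set_option backward.isDefEq.respectTransparency.types false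
set_option maxHeartbeats 1000000
set_option synthInstance.maxHeartbeats 400000

universe u

open CategoryTheory CategoryTheory.Limits AlgebraicGeometry MonoidalCategory CartesianMonoidalCategory TopologicalSpace
open scoped MonObj Groth.Agent.H23.PicMul

namespace Groth.Agent.AVTheta

open ThetaGrp

variable {k : Type u} [Field k] {A : Over (Spec (CommRingCat.of k))} [GrpObj A] [IsCommMonObj A] [IsProper A.hom]
  [GeometricallyIntegral A.hom] {L : A.left.Modules}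

/-- an element of `K(L)` has lifts commuting locally -/
theorem isPerpPt_mul (hL : PicF.IsInvertible L) {K : Over (Spec (CommRingCat.of k))} {iK : K ⟶ A}
    {T : Over (Spec (CommRingCat.of k))} {x y : T ⟶ A} (hxK : IsMumfordTriv A L x)
    (hyK : IsMumfordTriv A L y) (hx : IsPerpPt L iK x) (hy : IsPerpPt L iK y) : IsPerpPt L iK (x * y) := by
  intro T' g m α₁ α₂ h₁ h₂
  obtain ⟨c, hc, -⟩ := existsUnique_comm hL α₁ α₂
  refine (isComm_one_iff _ _).1 ?_
  suffices hc1 : c = 1 by rwa [hc1] at hc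
  refine eq_of_local fun t => ?_
  obtain ⟨U₁, ht₁, b₁, hb₁⟩ := exists_local_pts hL x hxK (g.left t)
  obtain ⟨U₂, ht₂, b₂, hb₂⟩ := exists_local_pts hL y hyK (g.left t)
  let V := g.left ⁻¹ᵁ (U₁ ⊓ U₂)
  refine ⟨V, ⟨ht₁, ht₂⟩, ?_⟩
  let g' : ovOpen T' V ⟶ ovOpen T (U₁ ⊓ U₂) := Over.homMk (g.left.resLE (U₁ ⊓ U₂) V le_rfl) (by
    show g.left.resLE (U₁ ⊓ U₂) V le_rfl ≫ (U₁ ⊓ U₂).ι ≫ T.hom = V.ι ≫ T'.hom
    rw [Scheme.Hom.resLE_comp_ι_assoc, Over.w])
  have hg' : g' ≫ ovIncl T (U₁ ⊓ U₂) = ovIncl T' V ≫ g := Over.OverMorphism.ext (Scheme.Hom.resLE_comp_ι _ _)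
  have e₁ : g' ≫ ovHomOfLE T (inf_le_left : U₁ ⊓ U₂ ≤ U₁) ≫ ovIncl T U₁ = ovIncl T' V ≫ g := by
    rw [ovHomOfLE_incl, hg']
  have e₂ : g' ≫ ovHomOfLE T (inf_le_right : U₁ ⊓ U₂ ≤ U₂) ≫ ovIncl T U₂ = ovIncl T' V ≫ g := by
    rw [ovHomOfLE_incl, hg']
  obtain ⟨β, hβ, -⟩ := existsUnique_bc (g' ≫ ovHomOfLE T (inf_le_left : U₁ ⊓ U₂ ≤ U₁)) b₁
  obtain ⟨δ, hδ, -⟩ := existsUnique_bc (g' ≫ ovHomOfLE T (inf_le_right : U₁ ⊓ U₂ ≤ U₂)) b₂
  have hβx : IsOverPt β ((ovIncl T' V ≫ g) ≫ x) := by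
    have h := isOverPt_bc hβ hb₁
    simp only [← Category.assoc] at h ⊢
    rw [Category.assoc g', e₁] at h
    exact h
  have hδy : IsOverPt δ ((ovIncl T' V ≫ g) ≫ y) := by
    have h := isOverPt_bc hδ hb₂
    simp only [← Category.assoc] at h ⊢
    rw [Category.assoc g', e₂] at h
    exact h
  obtain ⟨ζ₁, hζ₁, -⟩ := existsUnique_bc (ovIncl T' V) α₁
  obtain ⟨ζ₂, hζ₂, -⟩ := existsUnique_bc (ovIncl T' V) α₂
  have hz₂ : IsOverPt ζ₂ ((ovIncl T' V ≫ m) ≫ iK) := by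
    rw [Category.assoc]
    exact isOverPt_bc hζ₂ h₂
  have c₁ := hx _ (ovIncl T' V ≫ g) (ovIncl T' V ≫ m) β ζ₂ hβx hz₂
  have c₂ := hy _ (ovIncl T' V ≫ g) (ovIncl T' V ≫ m) δ ζ₂ hδy hz₂
  have hcomm : Commute (δ * β) ζ₂ := Commute.mul_left c₂ c₁
  have h₁' : IsOverPt ζ₁ ((ovIncl T' V ≫ g) ≫ (x * y)) := by
    rw [Category.assoc]
    exact isOverPt_bc hζ₁ h₁
  have h₁'' : IsOverPt (δ * β) ((ovIncl T' V ≫ g) ≫ (x * y)) := by
    rw [MonObj.comp_mul]
    exact isOverPt_mul hδy hβx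
  have h := comm_eq_of_same_pts hL h₁'' hz₂ h₁' hz₂ ((isComm_one_iff _ _).2 hcomm.eq) (isComm_bc hζ₁ hζ₂ hc)
  exact h.symm.trans (map_one _).symm

/-- the unit is orthogonal -/
theorem isPerpPt_one (hL : PicF.IsInvertible L) {K : Over (Spec (CommRingCat.of k))} {iK : K ⟶ A}
    {T : Over (Spec (CommRingCat.of k))} : IsPerpPt L iK (1 : T ⟶ A) := by
  intro T' g m α₁ α₂ h₁ h₂
  obtain ⟨c, hc, -⟩ := existsUnique_comm hL α₁ α₂
  refine (isComm_one_iff _ _).1 ?_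
  suffices hc1 : c = 1 by rwa [hc1] at hc
  rw [MonObj.comp_one] at h₁
  exact (comm_eq_of_same_pts hL isOverPt_one h₂ h₁ h₂
    ((isComm_one_iff _ _).2 (by rw [_root_.one_mul, _root_.mul_one])) hc).symm

/-- the inverse of an orthogonal point is orthogonal -/
theorem isPerpPt_inv (hL : PicF.IsInvertible L) {K : Over (Spec (CommRingCat.of k))} {iK : K ⟶ A}
    {T : Over (Spec (CommRingCat.of k))} {x : T ⟶ A} (hxK : IsMumfordTriv A L x) (hx : IsPerpPt L iK x) :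
    IsPerpPt L iK x⁻¹ := by
  intro T' g m α₁ α₂ h₁ h₂
  obtain ⟨c, hc, -⟩ := existsUnique_comm hL α₁ α₂
  refine (isComm_one_iff _ _).1 ?_
  suffices hc1 : c = 1 by rwa [hc1] at hc
  refine eq_of_local fun t => ?_
  obtain ⟨U, ht, b, hb⟩ := exists_local_pts hL x hxK (g.left t)
  let V := g.left ⁻¹ᵁ U
  refine ⟨V, ht, ?_⟩
  let g' : ovOpen T' V ⟶ ovOpen T U := Over.homMk (g.left.resLE U V le_rfl) (by
    show g.left.resLE U V le_rfl ≫ U.ι ≫ T.hom = V.ι ≫ T'.hom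
    rw [Scheme.Hom.resLE_comp_ι_assoc, Over.w])
  have hg' : g' ≫ ovIncl T U = ovIncl T' V ≫ g := Over.OverMorphism.ext (Scheme.Hom.resLE_comp_ι _ _)
  obtain ⟨β, hβ, -⟩ := existsUnique_bc g' b
  have hβx : IsOverPt β ((ovIncl T' V ≫ g) ≫ x) := by
    rw [← hg', Category.assoc]
    exact isOverPt_bc hβ hb
  obtain ⟨ζ₁, hζ₁, -⟩ := existsUnique_bc (ovIncl T' V) α₁
  obtain ⟨ζ₂, hζ₂, -⟩ := existsUnique_bc (ovIncl T' V) α₂
  have hz₂ : IsOverPt ζ₂ ((ovIncl T' V ≫ m) ≫ iK) := by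
    rw [Category.assoc]
    exact isOverPt_bc hζ₂ h₂
  have c₁ : Commute β ζ₂ := hx _ (ovIncl T' V ≫ g) (ovIncl T' V ≫ m) β ζ₂ hβx hz₂
  obtain ⟨w, hw⟩ := exists_pt β⁻¹
  have hw1 : ((ovIncl T' V ≫ g) ≫ x) * w = 1 := by
    have h := isOverPt_mul hw hβx
    rw [inv_mul_cancel] at h
    exact pt_unique h isOverPt_one
  rw [eq_inv_of_mul_eq_one_right hw1] at hw
  have h₁' : IsOverPt ζ₁ ((ovIncl T' V ≫ g) ≫ x)⁻¹ := by
    rw [← GrpObj.comp_inv, Category.assoc]
    exact isOverPt_bc hζ₁ h₁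
  have h := comm_eq_of_same_pts hL hw hz₂ h₁' hz₂ ((isComm_one_iff _ _).2 c₁.inv_left.eq) (isComm_bc hζ₁ hζ₂ hc)
  exact h.symm.trans (map_one _).symm

set_option maxHeartbeats 2000000 in
/-- the orthogonal of `K(L)` in `K(L)` is a closed subgroup scheme -/
theorem exists_perp_subgroup (hL : PicF.IsInvertible L) {K : Over (Spec (CommRingCat.of k))} (iK : K ⟶ A)
    (hK : IsKL A L iK) :
    ∃ (Z : Over (Spec (CommRingCat.of k))) (_ : GrpObj Z) (j : Z ⟶ K), IsClosedImmersion j.left ∧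
      IsMonHom (j ≫ iK) ∧ ∀ (T : Over (Spec (CommRingCat.of k))) (n : T ⟶ K),
        (∃ z : T ⟶ Z, z ≫ j = n) ↔ IsPerpPt L iK (n ≫ iK) := by
  haveI := hK.closed
  haveI : IsCommMonObj A := inferInstance
  have hpt : ∀ {T : Over (Spec (CommRingCat.of k))} (n : T ⟶ K), IsMumfordTriv A L (n ≫ iK) := fun n =>
    (hK.univ _ _).2 ⟨n, rfl⟩
  obtain ⟨e, he⟩ := exists_global_comm hL (snd K K ≫ iK) (fst K K ≫ iK) (hpt _) (hpt _)
  let S := Spec (CommRingCat.of k)
  let Y : Over S := Over.mk (AffineSpace PUnit.{u+1} S ↘ S)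
  let a : K ⊗ K ⟶ Y := Over.homMk (AffineSpace.homOfVector (K ⊗ K).hom fun _ => e) (AffineSpace.homOfVector_over _ _)
  let b : K ⊗ K ⟶ Y := Over.homMk (AffineSpace.homOfVector (K ⊗ K).hom fun _ => 1) (AffineSpace.homOfVector_over _ _)
  haveI : IsSeparated Y.hom := by
    show IsSeparated (pullback.fst _ _)
    infer_instance
  obtain ⟨Z, j, hj, hZ⟩ := GrpSchLib.exists_coincidence_field a b
  haveI := hj
  have hZ' : ∀ (T : Over (Spec (CommRingCat.of k))) (n : T ⟶ K),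
      (∃ z : T ⟶ Z, z ≫ j = n) ↔ IsPerpPt L iK (n ≫ iK) := by
    intro T n
    rw [hZ]
    have hcrit : (K ◁ n) ≫ a = (K ◁ n) ≫ b ↔ (K ◁ n).left.appTop e = 1 := by
      constructor
      · intro h
        have h' := congrArg (fun f : K ⊗ T ⟶ Y => f.left.appTop (AffineSpace.coord S PUnit.unit)) h
        simp only [Over.comp_left, Scheme.Hom.comp_appTop] at h'
        change (K ◁ n).left.appTop ((AffineSpace.homOfVector (K ⊗ K).hom fun _ => e).appTop (AffineSpace.coord S PUnit.unit)) =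
          (K ◁ n).left.appTop ((AffineSpace.homOfVector (K ⊗ K).hom fun _ => 1).appTop (AffineSpace.coord S PUnit.unit)) at h'
        rwa [AffineSpace.homOfVector_appTop_coord, AffineSpace.homOfVector_appTop_coord, map_one] at h'
      · intro h
        apply Over.OverMorphism.ext
        rw [Over.comp_left, Over.comp_left]
        show (K ◁ n).left ≫ AffineSpace.homOfVector _ _ = (K ◁ n).left ≫ AffineSpace.homOfVector _ _
        rw [AffineSpace.comp_homOfVector, AffineSpace.comp_homOfVector]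
        congr 1
        funext i
        show (K ◁ n).left.appTop e = (K ◁ n).left.appTop 1
        rw [h, map_one]
    rw [hcrit]
    constructor
    · intro h T' g m α₁ α₂ h₁ h₂
      have h' := he T' (lift m (g ≫ n)) α₁ α₂ (by rw [lift_snd_assoc, Category.assoc]; exact h₁)
        (by rw [lift_fst_assoc]; exact h₂)
      rw [show lift m (g ≫ n) = lift m g ≫ (K ◁ n) by simp, Over.comp_left, Scheme.Hom.comp_appTop,
        ConcreteCategory.comp_apply, h, map_one] at h'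
      exact (isComm_one_iff _ _).1 h'
    · intro h
      refine eq_of_local fun t => ?_
      obtain ⟨U₁, ht₁, b₁, hb₁⟩ := exists_local_pts hL _ (hpt (snd K T ≫ n)) t
      obtain ⟨U₂, ht₂, b₂, hb₂⟩ := exists_local_pts hL _ (hpt (fst K T)) t
      let V := U₁ ⊓ U₂
      refine ⟨V, ⟨ht₁, ht₂⟩, ?_⟩
      obtain ⟨β₁, hβ₁, -⟩ := existsUnique_bc (ovHomOfLE (K ⊗ T) (inf_le_left : V ≤ U₁)) b₁
      obtain ⟨β₂, hβ₂, -⟩ := existsUnique_bc (ovHomOfLE (K ⊗ T) (inf_le_right : V ≤ U₂)) b₂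
      let g := ovIncl (K ⊗ T) V
      have h₁ : IsOverPt β₁ ((g ≫ snd K T) ≫ n ≫ iK) := by
        have := isOverPt_bc hβ₁ hb₁
        rw [← Category.assoc, ovHomOfLE_incl] at this
        simpa only [Category.assoc] using this
      have h₂ : IsOverPt β₂ ((g ≫ fst K T) ≫ iK) := by
        have := isOverPt_bc hβ₂ hb₂
        rw [← Category.assoc, ovHomOfLE_incl] at this
        simpa only [Category.assoc] using this
      have c₁ := (isComm_one_iff _ _).2 (h _ (g ≫ snd K T) (g ≫ fst K T) β₁ β₂ h₁ h₂)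
      have c₂ := he _ (g ≫ (K ◁ n)) β₁ β₂ (by simpa only [Category.assoc, whiskerLeft_snd_assoc] using h₁)
        (by simpa only [Category.assoc, whiskerLeft_fst_assoc] using h₂)
      have h3 := isComm_unique hL c₂ c₁
      rw [Over.comp_left, Scheme.Hom.comp_appTop, ConcreteCategory.comp_apply] at h3
      exact h3.trans (map_one _).symm
  haveI : IsClosedImmersion (j ≫ iK).left := by
    rw [Over.comp_left]
    infer_instance
  haveI := AVRosati.SubAV.mono_of_closed (j ≫ iK)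
  have hperp : ∀ {T : Over (Spec (CommRingCat.of k))} (z : T ⟶ Z), IsPerpPt L iK (z ≫ j ≫ iK) := fun {T} z => by
    have := (hZ' T (z ≫ j)).1 ⟨z, rfl⟩
    rwa [Category.assoc] at this
  have hfac : ∀ {T : Over (Spec (CommRingCat.of k))} (x : T ⟶ A), IsMumfordTriv A L x → IsPerpPt L iK x →
      ∃ z : T ⟶ Z, z ≫ j ≫ iK = x := fun {T} x hx hp => by
    obtain ⟨n, rfl⟩ := (hK.univ _ _).1 hx
    obtain ⟨z, hz⟩ := (hZ' T n).2 hp
    exact ⟨z, by rw [reassoc_of% hz]⟩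
  have hmum : ∀ {T : Over (Spec (CommRingCat.of k))} (z : T ⟶ Z), IsMumfordTriv A L (z ≫ j ≫ iK) := fun {T} z => by
    have := hpt (z ≫ j)
    rwa [Category.assoc] at this
  obtain ⟨i, hi⟩ := IsogLib.exists_grpObj_of_mono (j ≫ iK)
    (hfac η[A] (by
      rw [show η[A] = (1 : 𝟙_ (Over (Spec (CommRingCat.of k))) ⟶ A) by
        rw [Hom.one_def, toUnit_unique (toUnit _) (𝟙 _), Category.id_comp]]
      exact (H23.KLBasic.mumford_iff hL _).2 ⟨1, AVPair.isInv_one, H23.KLBasic.eq_one _⟩) (by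
      rw [show η[A] = (1 : 𝟙_ (Over (Spec (CommRingCat.of k))) ⟶ A) by
        rw [Hom.one_def, toUnit_unique (toUnit _) (𝟙 _), Category.id_comp]]
      exact isPerpPt_one hL))
    (hfac _ ((H23.KLBasic.mumford_iff hL _).2 ⟨_, H23.PicMul.isInvertibleCl_mul
        (PicClLib.isInvertibleCl_pullCl _ ⟨L, rfl, hL⟩) (PicClLib.isInvertibleCl_pullCl _ ⟨L, rfl, hL⟩),
        H23.KLBasic.eq_mul ((H23.KLBasic.iff_eq_pull hL _).1 (hmum (fst Z Z)))
          ((H23.KLBasic.iff_eq_pull hL _).1 (hmum (snd Z Z)))⟩)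
      (isPerpPt_mul hL (hmum _) (hmum _) (hperp _) (hperp _)))
    (hfac _ (by
      obtain ⟨d, hdi, hd⟩ := AVPair.exists_inv (PicClLib.isInvertibleCl_pullCl (j ≫ iK).left ⟨L, rfl, hL⟩)
      have h0 := hmum (𝟙 Z)
      rw [Category.id_comp] at h0
      exact (H23.KLBasic.mumford_iff hL _).2 ⟨d, hdi, H23.KLBasic.eq_inv ((H23.KLBasic.iff_eq_pull hL _).1 h0) hd⟩)
      (by
        have h0 := hmum (𝟙 Z)
        have h1 := hperp (𝟙 Z)
        rw [Category.id_comp] at h0 h1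
        exact isPerpPt_inv hL h0 h1))
  exact ⟨Z, i, j, hj, hi, hZ'⟩

end Groth.Agent.AVTheta

end
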