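import Groth.Agent.AVTheta.SeesawScheme
import Groth.Agent.Lib.GammaDescent
import Groth.Agent.H23.RigidApply
import Groth.Agent.Lib.CurveDualPrep
import Groth.Agent.Lib.InvEnd
import Groth.Agent.PicGlue.Glue
import Mathlib.AlgebraicGeometry.Morphisms.FinitePresentation

/-!
Triviality locally on the base is being pulled back from the base.
-/

noncomputable section

set_option autoImplicit false
set_option linter.style.haveILetI false
set_option linter.unusedSectionVars false
set_option backward.isDefEq.respectTransparency false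
set_option backward.isDefEq.respectTransparency.types false
set_option maxHeartbeats 1000000

universe u

open CategoryTheory CategoryTheory.Limits AlgebraicGeometry TopologicalSpace

namespace Groth.Agent.AVTheta.SeesawScheme

open Groth.Agent.H23 TrivBasic

variable {X S : Scheme.{u}} (f : X ⟶ S) [IsProper f] [Flat f] [GeometricallyIntegral f] [IsLocallyNoetherian S]

theorem bijective_app_snd {T : Scheme.{u}} (g : T ⟶ S) (W : T.Opens) :
    Function.Bijective ((pullback.snd f g).app W) := by
  haveI : Surjective f := inferInstance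
  haveI : LocallyOfFinitePresentation f := inferInstance
  exact GammaDescent.bijective_app (pullback.snd f g)
    ((RigidApply.constFibres_of_geometricallyIntegral f).baseChange g) W

theorem univInj : UnivInj f := fun g => (bijective_app_snd f g ⊤).1

/-- descending an invertible module trivial locally on the base -/
theorem locTrivOn_iff {L : X.Modules} (hL : PicF.IsInvertible L) {T : Scheme.{u}} (g : T ⟶ S) :
    LocTrivOn f L g ↔ ∃ M : T.Modules, PicF.IsInvertible M ∧
      Nonempty ((Scheme.Modules.pullback (pullback.fst f g)).obj L ≅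
        (Scheme.Modules.pullback (pullback.snd f g)).obj M) := by
  constructor
  · intro h
    choose V hV hT using h
    let p := pullback.snd f g
    let LT := (Scheme.Modules.pullback (pullback.fst f g)).obj L
    have hfr : ∀ t, ∃ s : Γ(LT, p ⁻¹ᵁ V t), InvX.IsFrame s := fun t => by
      let W := p ⁻¹ᵁ V t
      have hw : (W.ι ≫ pullback.fst f g) ≫ f = (p ∣_ V t) ≫ (V t).ι ≫ g := by
        rw [morphismRestrict_ι_assoc, Category.assoc, pullback.condition]
      have h1 : Triv ((Scheme.Modules.pullback (W.ι ≫ pullback.fst f g)).obj L) :=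
        SeesawGlobal.triv_of_factor (pullback.lift (W.ι ≫ pullback.fst f g) (p ∣_ V t) hw)
          (pullback.lift_fst _ _ _) (hT t)
      obtain ⟨s, hs⟩ := SeesawGlobal.exists_frame_of_triv W.ι ((triv_comp_iff W.ι (pullback.fst f g)).2 h1)
      have hW : W.ι.opensRange = W := W.opensRange_ι
      exact ⟨AModX.res LT hW.ge s, hs.res hW.ge⟩
    choose s hs using hfr
    obtain ⟨M, hM, hiso⟩ := PicGlue.exists_glue_of_joint_iso (κ := PUnit.{u + 1}) (fun _ => p) (L := fun _ => LT)
      (fun t => ⟨t, hV t⟩) (e := fun _ t => s t) (fun _ t => hs t) ⊤ (fun _ _ _ => le_top) fun W _ => by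
      refine ⟨fun a b hab => (bijective_app_snd f g W).1 (congrFun hab ⟨⟩), fun c => ?_⟩
      obtain ⟨a, ha⟩ := (bijective_app_snd f g W).2 (c ⟨⟩)
      exact ⟨a, funext fun _ => ha⟩
    exact ⟨M, hM, ⟨(hiso ⟨⟩).some.symm⟩⟩
  · rintro ⟨M, hM, ⟨e⟩⟩ t
    obtain ⟨V, htV, m, hm⟩ := InvX.exists_frame hM t
    refine ⟨V, htV, ?_⟩
    have hV : (⊤ : V.toScheme.Opens) ≤ V.ι ⁻¹ᵁ V := fun z _ => z.2
    have hMV : Triv ((Scheme.Modules.pullback V.ι).obj M) := triv_of_frame ((InvX.isFrame_pullElt V.ι hm).res hV)
    let j : pullback f (V.ι ≫ g) ⟶ pullback f g :=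
      pullback.lift (pullback.fst _ _) (pullback.snd _ _ ≫ V.ι) (by rw [Category.assoc]; exact pullback.condition)
    have h1 : Triv ((Scheme.Modules.pullback j).obj ((Scheme.Modules.pullback (pullback.snd f g)).obj M)) := by
      refine (triv_comp_iff j (pullback.snd f g)).2 ?_
      rw [show j ≫ pullback.snd f g = pullback.snd f (V.ι ≫ g) ≫ V.ι from pullback.lift_snd _ _ _]
      exact (triv_comp_iff (pullback.snd f (V.ι ≫ g)) V.ι).1 (hMV.pullback _)
    have h2 := Triv.of_iso ((Scheme.Modules.pullback j).mapIso e.symm) h1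
    have h3 := (triv_comp_iff j (pullback.fst f g)).1 h2
    exact (triv_congr (show j ≫ pullback.fst f g = pullback.fst f (V.ι ≫ g) from pullback.lift_fst _ _ _)).1 h3

end Groth.Agent.AVTheta.SeesawScheme

end
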