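import Groth.Agent.H23.SeesawGlobal
import Groth.Agent.H28.ClosedSub

/-!
The closed subscheme of a base over which an invertible module is trivial on the fibres, locally on the base.
-/

noncomputable section

set_option autoImplicit false
set_option linter.style.haveILetI false
set_option linter.unusedSectionVars false
set_option backward.isDefEq.respectTransparency false
set_option maxHeartbeats 1000000

universe u

open CategoryTheory CategoryTheory.Limits AlgebraicGeometry TopologicalSpace

namespace Groth.Agent.AVTheta.SeesawScheme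

open Groth.Agent.InvX Groth.Agent.H23 TrivBasic Seesaw

section affine

variable {A : Type u} [CommRing A] {X : Scheme.{u}} [X.Over (Spec (CommRingCat.of A))]

local notation "πX" => (X ↘ Spec (CommRingCat.of A))

/-- Over a base on which the module is trivial, the annihilator of its representing module is zero. -/
theorem annihilator_le_ker {L : X.Modules} {Q : ModuleCat.{u} A} {e : (Q →ₗ[A] A) ≃+ Γ(L, ⊤)}
    (hQ : SecRep.IsRep L Q e) (B : Type u) [CommRing B] [Algebra A B]
    (hinj : Function.Injective (pullback.snd πX (specAlg A B)).appTop)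
    (hT : Triv ((Scheme.Modules.pullback (pullback.fst πX (specAlg A B))).obj L)) :
    Module.annihilator A Q ≤ RingHom.ker (algebraMap A B) := by
  intro a ha
  obtain ⟨eB, he1, -⟩ := hQ B _ _ _ (IsPullback.of_hasPullback πX (specAlg A B))
  obtain ⟨s, hs⟩ := hT.exists_frame
  have h0 : LinearMap.mulLeft A (algebraMap A B a) ∘ₗ eB.symm s = 0 := LinearMap.ext fun q => by
    show algebraMap A B a * eB.symm s q = 0
    rw [← Algebra.smul_def, ← map_smul, Module.mem_annihilator.1 ha q, map_zero]
  have h1 := he1 (algebraMap A B a) (eB.symm s)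
  rw [h0, map_zero, eB.apply_symm_apply] at h1
  have hinj' : Function.Injective (Coh.toGlobal (pullback.snd πX (specAlg A B))) :=
    hinj.comp (ConcreteCategory.bijective_of_isIso (Scheme.ΓSpecIso _).inv).1
  refine hinj' ((hs.coord_unique le_rfl (r' := 0) ?_).trans (map_zero _).symm)
  rw [AModX.res_self, zero_smul]
  exact h1.symm

variable [IsNoetherianRing A] [IsProper (X ↘ Spec (CommRingCat.of A))] [Flat (X ↘ Spec (CommRingCat.of A))]
  [GeometricallyIntegral (X ↘ Spec (CommRingCat.of A))]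

variable {L : X.Modules}

/-- Triviality on a fibre is stable under change of base. -/
theorem fibreTriv_baseChange (A' : Type u) [CommRing A'] [Algebra A A'] (x' : PrimeSpectrum A')
    (h : FibreTriv L (PrimeSpectrum.comap (algebraMap A A') x')) :
    letI : (pullback πX (specAlg A A')).Over (Spec (CommRingCat.of A')) := ⟨pullback.snd πX (specAlg A A')⟩
    FibreTriv ((Scheme.Modules.pullback (pullback.fst πX (specAlg A A'))).obj L) x' := by
  letI : (pullback πX (specAlg A A')).Over (Spec (CommRingCat.of A')) := ⟨pullback.snd πX (specAlg A A')⟩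
  let p := pullback.fst πX (specAlg A A')
  let π' := pullback.snd πX (specAlg A A')
  let x : PrimeSpectrum A := PrimeSpectrum.comap (algebraMap A A') x'
  let K' := x'.asIdeal.ResidueField
  have h1 : x.asIdeal ≤ RingHom.ker (algebraMap A K') := fun a ha => by
    rw [RingHom.mem_ker, IsScalarTower.algebraMap_apply A A' K', Ideal.algebraMap_residueField_eq_zero]
    exact ha
  have h2 : x.asIdeal.primeCompl ≤ (IsUnit.submonoid K').comap (algebraMap A K') := fun a ha => by
    show IsUnit (algebraMap A K' a)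
    rw [isUnit_iff_ne_zero, IsScalarTower.algebraMap_apply A A' K', Ne, Ideal.algebraMap_residueField_eq_zero]
    exact ha
  let σ : x.asIdeal.ResidueField →+* K' := Ideal.ResidueField.lift x.asIdeal (algebraMap A K') h1 h2
  have hσ : Spec.map (CommRingCat.ofHom σ) ≫ specAlg A x.asIdeal.ResidueField = specAlg A' K' ≫ specAlg A A' := by
    rw [← Spec.map_comp, ← Spec.map_comp]
    refine congrArg Spec.map ?_
    ext a
    exact (Ideal.ResidueField.lift_algebraMap x.asIdeal (algebraMap A K') h1 h2 a).trans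
      (IsScalarTower.algebraMap_apply A A' K' a)
  refine (triv_comp_iff (pullback.fst π' (specAlg A' K')) p).2 (SeesawGlobal.triv_of_factor
    (pullback.lift (pullback.fst π' (specAlg A' K') ≫ p)
      (pullback.snd π' (specAlg A' K') ≫ Spec.map (CommRingCat.ofHom σ)) ?_)
    (pullback.lift_fst _ _ _) h)
  rw [Category.assoc, Category.assoc, hσ, ← reassoc_of% (pullback.condition (f := π') (g := specAlg A' K'))]
  exact congrArg (pullback.fst π' _ ≫ ·) pullback.condition

/-- A cyclic representing module with small annihilator gives forms without annihilator. -/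
theorem exists_form_free (A' : Type u) [CommRing A'] [Algebra A A'] {Q : ModuleCat.{u} A}
    {e : (Q →ₗ[A] A) ≃+ Γ(L, ⊤)} (hQ : SecRep.IsRep L Q e) {Q'' : ModuleCat.{u} A'}
    [(pullback πX (specAlg A A')).Over (Spec (CommRingCat.of A'))]
    (hover : (pullback πX (specAlg A A')) ↘ Spec (CommRingCat.of A') = pullback.snd πX (specAlg A A'))
    {e'' : (Q'' →ₗ[A'] A') ≃+ Γ((Scheme.Modules.pullback (pullback.fst πX (specAlg A A'))).obj L, ⊤)}
    (hQ'' : SecRep.IsRep ((Scheme.Modules.pullback (pullback.fst πX (specAlg A A'))).obj L) Q'' e'')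
    (B : Type u) [CommRing B] [Algebra A B] [Algebra A' B] [IsScalarTower A A' B]
    (g : Q →ₗ[A] B) (q₀ : Q) (hg : g q₀ = 1) :
    ∃ g'' : Q'' →ₗ[A'] B, ∀ b : B, b • g'' = 0 → b = 0 := by
  let X' := pullback πX (specAlg A A')
  let p : X' ⟶ X := pullback.fst πX (specAlg A A')
  let π' := X' ↘ Spec (CommRingCat.of A')
  let q'' := pullback.fst π' (specAlg A' B)
  have hpb : IsPullback (q'' ≫ p) (pullback.snd π' (specAlg A' B)) πX (specAlg A B) := by
    have h0 : IsPullback p π' πX (specAlg A A') := by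
      rw [show π' = pullback.snd πX (specAlg A A') from hover]
      exact IsPullback.of_hasPullback πX (specAlg A A')
    have h : IsPullback (q'' ≫ p) (pullback.snd π' (specAlg A' B)) πX (specAlg A' B ≫ specAlg A A') :=
      (IsPullback.of_hasPullback π' (specAlg A' B)).paste_horiz h0
    have h' : specAlg A' B ≫ specAlg A A' = specAlg A B := by
      rw [← Spec.map_comp]
      refine congrArg Spec.map ?_
      ext a
      exact (IsScalarTower.algebraMap_apply A A' B a).symm
    rwa [h'] at h
  obtain ⟨eB, he1, -⟩ := hQ B _ _ _ hpb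
  obtain ⟨eB'', he1'', -⟩ := hQ'' B _ _ _ (IsPullback.of_hasPullback π' (specAlg A' B))
  let ε : (Scheme.Modules.pullback (q'' ≫ p)).obj L ≅
      (Scheme.Modules.pullback q'').obj ((Scheme.Modules.pullback p).obj L) :=
    ((Scheme.Modules.pullbackComp q'' p).app L).symm
  refine ⟨eB''.symm (ε.hom.app ⊤ (eB g)), fun b hb => ?_⟩
  have h3 : LinearMap.mulLeft A' b ∘ₗ eB''.symm (ε.hom.app ⊤ (eB g)) = 0 := by
    rw [← hb]
    exact LinearMap.ext fun q => rfl
  have h4 := (he1'' b (eB''.symm (ε.hom.app ⊤ (eB g)))).symm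
  rw [h3, map_zero, eB''.apply_symm_apply] at h4
  erw [← Scheme.Modules.Hom.app_smul] at h4
  have hεinj : Function.Injective (ε.hom.app ⊤) := Function.LeftInverse.injective (g := ε.inv.app ⊤) fun z => by
    show (ε.hom ≫ ε.inv).app ⊤ z = z
    rw [Iso.hom_inv_id]
    rfl
  have h5 := hεinj (h4.trans (map_zero _).symm)
  rw [← he1] at h5
  have h6 := LinearMap.congr_fun (eB.injective (h5.trans (map_zero eB).symm)) q₀
  simpa [hg] using h6

/-- A module killed after multiplication by a unit of `B` has a form sending a generator to `1`. -/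
theorem exists_form_one {Q : Type u} [AddCommGroup Q] [Module A Q] (q₀ : Q) (c : A) (ψ : Q → A)
    (hψ : ∀ q, c • q = ψ q • q₀) (B : Type u) [CommRing B] [Algebra A B] (hc : IsUnit (algebraMap A B c))
    (hI : Module.annihilator A Q ≤ RingHom.ker (algebraMap A B)) : ∃ g : Q →ₗ[A] B, g q₀ = 1 := by
  obtain ⟨v, hv⟩ := hc
  have hkill : ∀ a : A, a • q₀ = 0 → algebraMap A B a = 0 := fun a ha => by
    have h : algebraMap A B (c * a) = 0 := RingHom.mem_ker.1 (hI (Module.mem_annihilator.2 fun q => by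
      rw [mul_comm, mul_smul, hψ q, smul_comm, ha, smul_zero]))
    rw [map_mul, ← hv] at h
    exact (Units.mul_right_eq_zero v).1 h
  have hcongr : ∀ a a' : A, a • q₀ = a' • q₀ → algebraMap A B a = algebraMap A B a' := fun a a' h =>
    sub_eq_zero.1 (by rw [← map_sub]; exact hkill _ (by rw [sub_smul, h, sub_self]))
  refine ⟨{ toFun := fun q => (v⁻¹ : Bˣ) * algebraMap A B (ψ q)
            map_add' := fun q q' => ?_
            map_smul' := fun r q => ?_ }, ?_⟩
  · rw [← mul_add, ← map_add]
    exact congrArg _ (hcongr _ _ (by rw [← hψ, add_smul, ← hψ, ← hψ, smul_add]))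
  · rw [RingHom.id_apply, Algebra.smul_def, mul_left_comm, ← map_mul]
    exact congrArg _ (hcongr _ _ (by rw [← hψ, mul_smul, ← hψ, smul_comm]))
  · show (v⁻¹ : Bˣ) * algebraMap A B (ψ q₀) = 1
    rw [hcongr (ψ q₀) c (hψ q₀).symm, ← hv, Units.inv_mul]

/-- The module is trivial near each fibre over the base cut out by the two annihilators. -/
theorem exists_frame_of_quot (hL : PicF.IsInvertible L) {D : X.Modules} (hD : PicF.IsInvertible D)
    (φ : CohB1.tensorMod L D ≅ Coh.structureModule X)
    {Q : ModuleCat.{u} A} [Module.Finite A Q] {e : (Q →ₗ[A] A) ≃+ Γ(L, ⊤)} (hQ : SecRep.IsRep L Q e)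
    {Q' : ModuleCat.{u} A} [Module.Finite A Q'] {e' : (Q' →ₗ[A] A) ≃+ Γ(D, ⊤)} (hQ' : SecRep.IsRep D Q' e')
    (A' : Type u) [CommRing A'] [IsNoetherianRing A'] [Algebra A A']
    (hA' : Module.annihilator A Q ⊔ Module.annihilator A Q' ≤ RingHom.ker (algebraMap A A'))
    (x' : PrimeSpectrum A') :
    ∃ U : (Spec (CommRingCat.of A')).Opens, x' ∈ U ∧
      ∃ s : Γ((Scheme.Modules.pullback (pullback.fst πX (specAlg A A'))).obj L,
        (pullback.snd πX (specAlg A A')) ⁻¹ᵁ U), IsFrame s := by
  let X' := pullback πX (specAlg A A')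
  let p : X' ⟶ X := pullback.fst πX (specAlg A A')
  letI : X'.Over (Spec (CommRingCat.of A')) := ⟨pullback.snd πX (specAlg A A')⟩
  haveI : IsProper (X' ↘ Spec (CommRingCat.of A')) := inferInstanceAs (IsProper (pullback.snd πX (specAlg A A')))
  haveI : Flat (X' ↘ Spec (CommRingCat.of A')) := inferInstanceAs (Flat (pullback.snd πX (specAlg A A')))
  haveI : GeometricallyIntegral (X' ↘ Spec (CommRingCat.of A')) :=
    inferInstanceAs (GeometricallyIntegral (pullback.snd πX (specAlg A A')))
  let L' := (Scheme.Modules.pullback p).obj L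
  have hL' : PicF.IsInvertible L' := PicClLib.isInvertible_pullback p hL
  obtain ⟨Q'', _, e'', hQ''⟩ := Seesaw.exists_rep (A := A') L' hL'
  let x : PrimeSpectrum A := PrimeSpectrum.comap (algebraMap A A') x'
  have hIx : RingHom.ker (algebraMap A A') ≤ x.asIdeal := fun a ha => by
    show algebraMap A A' a ∈ x'.asIdeal
    rw [RingHom.mem_ker.1 ha]
    exact zero_mem _
  have hsQ : x ∈ Module.support A Q := Module.mem_support_iff_of_finite.2 ((le_sup_left.trans hA').trans hIx)
  have hsQ' : x ∈ Module.support A Q' := Module.mem_support_iff_of_finite.2 ((le_sup_right.trans hA').trans hIx)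
  have hTx : FibreTriv L x := (fibreTriv_iff_support hL hD φ hQ hQ' x).2 ⟨hsQ, hsQ'⟩
  have h0x : FibreH0 X x := Rigid.bijective_appTop _
  have h0x' : FibreH0 X' x' := Rigid.bijective_appTop _
  have hTx' : FibreTriv L' x' := fibreTriv_baseChange A' x' hTx
  obtain ⟨h1, h2⟩ := line_of_fibreTriv hQ'' x' h0x' hTx'
  obtain ⟨g1, g2⟩ := line_of_fibreTriv hQ x h0x hTx
  obtain ⟨q₀, c, hc, hq⟩ := SeesawMod.exists_generator x (SeesawMod.fibreRank_eq_one x g1 g2)
  choose ψ hψ using hq
  obtain ⟨f, hf⟩ := SeesawMod.exists_form x' h1 h2 fun n => by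
    have hcu : IsUnit (algebraMap A (SeesawMod.Thick x'.asIdeal n) c) := by
      rw [IsScalarTower.algebraMap_apply A A' (SeesawMod.Thick x'.asIdeal n)]
      exact SeesawMod.isUnit_thick x'.asIdeal hc
    obtain ⟨g, hg⟩ := exists_form_one q₀ c ψ hψ (SeesawMod.Thick x'.asIdeal n) hcu fun a ha => by
      rw [RingHom.mem_ker, IsScalarTower.algebraMap_apply A A' (SeesawMod.Thick x'.asIdeal n),
        RingHom.mem_ker.1 (hA' (Ideal.mem_sup_left ha)), map_zero]
    exact exists_form_free A' hQ rfl hQ'' (SeesawMod.Thick x'.asIdeal n) g q₀ hg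
  obtain ⟨U, hx, hU⟩ := exists_frame_of_form hL' hQ'' x' h0x' hTx' f hf
  exact ⟨U, hx, _, hU⟩

end affine

section global'

variable {X S : Scheme.{u}} (f : X ⟶ S) (L : X.Modules)

/-- The module becomes trivial over `T`. -/
def TrivOn {T : Scheme.{u}} (g : T ⟶ S) : Prop :=
  Triv ((Scheme.Modules.pullback (pullback.fst f g)).obj L)

/-- The module becomes trivial locally on `T`. -/
def LocTrivOn {T : Scheme.{u}} (g : T ⟶ S) : Prop :=
  ∀ t : T, ∃ V : T.Opens, t ∈ V ∧ TrivOn f L (V.ι ≫ g)

variable {f L}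

theorem TrivOn.comp {T T' : Scheme.{u}} (t : T' ⟶ T) {g : T ⟶ S} {g' : T' ⟶ S} (ht : t ≫ g = g')
    (h : TrivOn f L g) : TrivOn f L g' :=
  SeesawGlobal.triv_pullback_of_factor t ht h

theorem LocTrivOn.comp {T T' : Scheme.{u}} (t : T' ⟶ T) (g : T ⟶ S) (h : LocTrivOn f L g) :
    LocTrivOn f L (t ≫ g) := by
  intro z
  obtain ⟨V, hV, hT⟩ := h (t z)
  exact ⟨t ⁻¹ᵁ V, hV, hT.comp (t ∣_ V) (morphismRestrict_ι_assoc t V g)⟩

theorem LocTrivOn.of_cover {T : Scheme.{u}} (g : T ⟶ S) (𝒱 : Scheme.OpenCover.{u} T)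
    (h : ∀ i, LocTrivOn f L (𝒱.f i ≫ g)) : LocTrivOn f L g := by
  intro t
  obtain ⟨i, z, rfl⟩ := 𝒱.exists_eq t
  obtain ⟨V, hzV, hT⟩ := h i z
  refine ⟨(V.ι ≫ 𝒱.f i).opensRange, ⟨⟨z, hzV⟩, rfl⟩, hT.comp (Scheme.Hom.isoOpensRange (V.ι ≫ 𝒱.f i)).inv ?_⟩
  rw [← Category.assoc, ← Category.assoc, Category.assoc (Scheme.Hom.isoOpensRange _).inv,
    Scheme.Hom.isoOpensRange_inv_comp]

/-- Injectivity on global functions after any change of base. -/
def UnivInj (f : X ⟶ S) : Prop :=
  ∀ {T : Scheme.{u}} (g : T ⟶ S), Function.Injective (pullback.snd f g).appTop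

variable [IsProper f] [Flat f] [GeometricallyIntegral f] [IsLocallyNoetherian S]

/-- The seesaw scheme. -/
theorem exists_closed_seesaw (hinj : UnivInj f) (hL : PicF.IsInvertible L) :
    ∃ (Z : Scheme.{u}) (i : Z ⟶ S), IsClosedImmersion i ∧
      ∀ {T : Scheme.{u}} (g : T ⟶ S), LocTrivOn f L g ↔ ∃ z, z ≫ i = g := by
  refine H28.ClosedSub.exists_closed (fun g => LocTrivOn f L g) (fun u x h => h.comp u x)
    (fun x 𝒱 h => LocTrivOn.of_cover x 𝒱 h) fun U => ?_
  let A : Type u := Γ(S, U.1)
  haveI : IsNoetherianRing A := IsLocallyNoetherian.component_noetherian U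
  let g : Spec (CommRingCat.of A) ⟶ S := U.2.fromSpec
  haveI : GeometricallyIntegral (SeesawGlobal.chart f A g ↘ Spec (CommRingCat.of A)) :=
    SeesawGlobal.geometricallyIntegral_chart f A g
  let Lc := SeesawGlobal.chartMod f L A g
  have hLc : PicF.IsInvertible Lc := PicClLib.isInvertible_pullback _ hL
  obtain ⟨D, hD, ⟨φ⟩⟩ := PicInv.exists_inverse hLc
  obtain ⟨Q, _, e, hQ⟩ := Seesaw.exists_rep (A := A) Lc hLc
  obtain ⟨Q', _, e', hQ'⟩ := Seesaw.exists_rep (A := A) D hD
  let I : Ideal A := Module.annihilator A Q ⊔ Module.annihilator A Q'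
  have hfr := exists_frame_of_quot hLc hD φ hQ hQ' (A ⧸ I) (Ideal.mk_ker (I := I)).ge
  refine ⟨I, fun R q => ⟨fun h => ?_, fun h => ?_⟩⟩
  · letI : Algebra A R := q.hom.toAlgebra
    intro a ha
    by_contra hne
    have hne' : algebraMap A R a ≠ 0 := hne
    obtain ⟨m, hm, hm'⟩ := Ideal.exists_le_maximal (Module.annihilator R (Submodule.span R {algebraMap A R a}))
      (fun htop => hne' <| by
        have h0 : (1 : R) ∈ Module.annihilator R (Submodule.span R {algebraMap A R a}) := by rw [htop]; exact Submodule.mem_top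
        have h1 := Submodule.mem_annihilator_span_singleton (algebraMap A R a) (1 : R) |>.1 h0
        simpa using h1)
    haveI := hm.isPrime
    obtain ⟨V, hV, hT⟩ := h ⟨m, hm.isPrime⟩
    obtain ⟨_, ⟨b, rfl⟩, hb, hbV⟩ :=
      (PrimeSpectrum.isTopologicalBasis_basic_opens (R := R)).exists_subset_of_mem_open (show (⟨m, hm.isPrime⟩ : PrimeSpectrum R) ∈ V.carrier from hV) V.2
    let Rb := Localization.Away b
    let sb : Spec (CommRingCat.of Rb) ⟶ Spec (CommRingCat.of R) := Spec.map (CommRingCat.ofHom (algebraMap R Rb))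
    haveI : IsOpenImmersion sb := IsOpenImmersion.of_isLocalization (S := Rb) b
    have hrange : Set.range sb ⊆ Set.range V.ι := by
      rw [Scheme.Opens.range_ι]
      intro z hz
      refine hbV ?_
      exact (PrimeSpectrum.localization_away_comap_range Rb b).le hz
    let w := IsOpenImmersion.lift V.ι sb hrange
    have hTb : TrivOn f L (Seesaw.specAlg A Rb ≫ g) := hT.comp w (by
      rw [← Category.assoc, IsOpenImmersion.lift_fac, ← Category.assoc, ← Spec.map_comp]
      refine congrArg (· ≫ g) (congrArg Spec.map ?_)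
      ext z
      rfl)
    have hTc := SeesawGlobal.triv_chart f A g hTb
    have hinjc := SeesawGlobal.inj_chart f A g (hinj (Seesaw.specAlg A Rb ≫ g))
    have hTD : Triv ((Scheme.Modules.pullback
        (pullback.fst (SeesawGlobal.chart f A g ↘ Spec (CommRingCat.of A)) (Seesaw.specAlg A Rb))).obj D) := by
      refine Triv.of_iso ((PicMul.unit _).some) ?_
      refine Triv.of_iso (PicGrp.tensorModIso (Iso.refl _) hTc.some) ?_
      refine Triv.of_iso ((PicMul.comm _ _).some) ?_
      refine Triv.of_iso ((PicMul.pull _ Lc D).some) ?_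
      exact Triv.pullback _ ⟨φ⟩
    have hz : algebraMap A Rb a = 0 :=
      RingHom.mem_ker.1 (sup_le (annihilator_le_ker hQ Rb hinjc hTc) (annihilator_le_ker hQ' Rb hinjc hTD) ha)
    rw [IsScalarTower.algebraMap_apply A R Rb] at hz
    obtain ⟨⟨_, n, rfl⟩, hn⟩ := (IsLocalization.map_eq_zero_iff (Submonoid.powers b) Rb _).1 hz
    have hbm : b ∈ m := hm.isPrime.mem_of_pow_mem n (hm' ((Submodule.mem_annihilator_span_singleton _ _).2 hn))
    exact hb hbm
  · let q' : A ⧸ I →+* R := Ideal.Quotient.lift I q.hom h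
    have hq : Spec.map (CommRingCat.ofHom q') ≫ Seesaw.specAlg A (A ⧸ I) ≫ g = Spec.map q ≫ U.2.fromSpec := by
      rw [← Category.assoc, ← Spec.map_comp]
      refine congrArg (· ≫ g) (congrArg Spec.map ?_)
      ext z
      exact Ideal.Quotient.lift_mk I q.hom h
    rw [← hq]
    refine LocTrivOn.comp _ _ fun x' => ?_
    obtain ⟨V, hV, s, hs⟩ := hfr x'
    refine ⟨V, hV, ?_⟩
    let T₀ := pullback f (V.ι ≫ Seesaw.specAlg A (A ⧸ I) ≫ g)
    let p₁ : T₀ ⟶ SeesawGlobal.chart f A g := pullback.lift (pullback.fst _ _)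
      (pullback.snd _ _ ≫ V.ι ≫ Seesaw.specAlg A (A ⧸ I))
      (by rw [pullback.condition]; simp only [Category.assoc])
    let p₂ : T₀ ⟶ pullback (SeesawGlobal.chart f A g ↘ Spec (CommRingCat.of A)) (Seesaw.specAlg A (A ⧸ I)) :=
      pullback.lift p₁ (pullback.snd _ _ ≫ V.ι) (by
        show pullback.lift _ _ _ ≫ pullback.snd f g = _
        rw [pullback.lift_snd, Category.assoc])
    refine SeesawGlobal.triv_of_factor (b := p₁ ≫ pullback.fst f g) (𝟙 T₀)
      ((Category.id_comp _).trans (pullback.lift_fst _ _ _)) ?_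
    refine (triv_comp_iff p₁ _).1 (SeesawGlobal.triv_of_factor
      (b := p₂ ≫ pullback.fst _ (Seesaw.specAlg A (A ⧸ I))) (𝟙 T₀)
      ((Category.id_comp _).trans (pullback.lift_fst _ _ _)) ?_)
    refine (triv_comp_iff p₂ _).1 ?_
    have hf := isFrame_pullElt p₂ hs
    have hU : (⊤ : T₀.Opens) ≤
        p₂ ⁻¹ᵁ (pullback.snd (SeesawGlobal.chart f A g ↘ Spec (CommRingCat.of A))
          (Seesaw.specAlg A (A ⧸ I)) ⁻¹ᵁ V) := fun z _ => by
      show (p₂ ≫ pullback.snd _ _) z ∈ V
      rw [pullback.lift_snd]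
      exact ((pullback.snd f _) z).2
    exact triv_of_frame (hf.res hU)

end global'

end Groth.Agent.AVTheta.SeesawScheme

end
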