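import Groth.Agent.AVTheta.DescentPow
import Groth.Agent.FinDesc.Biduality
import Groth.Agent.FinDesc.Polarization
import Groth.Agent.AVDegLib.MulN
import Groth.Agent.H23.KLBasic

/-!
# Symmetric homomorphisms to the dual come from line bundles over an algebraically closed field

For a symmetric `lam`, the module `L' = (1, lam)^* P` has `φ_{L'} = 2 lam`; so every point killed by `4` lies in
`K(L' ⊗ L')`, which therefore descends along `[2]` to a module `M` with `φ_M = lam`.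
-/

noncomputable section

set_option autoImplicit false
set_option linter.style.haveILetI false
set_option linter.unusedSectionVars false
set_option backward.isDefEq.respectTransparency false
set_option backward.isDefEq.respectTransparency.types false
set_option maxHeartbeats 1000000
set_option synthInstance.maxHeartbeats 400000

universe u

open CategoryTheory CategoryTheory.Limits AlgebraicGeometry MonoidalCategory CartesianMonoidalCategory TopologicalSpace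
  MonObj

attribute [-instance] CategoryTheory.catToReflQuiver

namespace Groth.Agent.AVTheta.SymHalf

open ThetaGrp Groth.Agent.H23 Groth.Agent.H23.TrivBasic Groth.Agent.AVPair Groth.Agent.AVDual
open scoped Groth.Agent.H23.PicMul

variable {k : Type u} [Field k]

section pow

variable {X Y : Over (Spec (CommRingCat.of k))} [GrpObj X] [IsProper X.hom] [GeometricallyIntegral X.hom]
  [GrpObj Y] [IsProper Y.hom] [GeometricallyIntegral Y.hom]

theorem pl_pow_right {c : PicF.Cl (X ⊗ Y).left} (hc : PicF.IsInvertibleCl c)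
    (h1 : pl (lift (1 : Y ⟶ X) (𝟙 Y)) c = 1) (h2 : pl (lift (𝟙 X) (1 : X ⟶ Y)) c = 1)
    {T : Over (Spec (CommRingCat.of k))} (a : T ⟶ X) (b : T ⟶ Y) (n : ℕ) :
    pl (lift a (b ^ n)) c = pl (lift a b) c ^ n := by
  induction n with
  | zero =>
    rw [pow_zero, pow_zero, show lift a (1 : T ⟶ Y) = a ≫ lift (𝟙 X) (1 : X ⟶ Y) by
      rw [comp_lift, MonObj.comp_one, Category.comp_id], ← pl_pl, h2, map_one]
  | succ n ih => rw [pow_succ, pow_succ, add_right hc h1 h2, ih]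

theorem pl_pow_left {c : PicF.Cl (X ⊗ Y).left} (hc : PicF.IsInvertibleCl c)
    (h1 : pl (lift (1 : Y ⟶ X) (𝟙 Y)) c = 1) (h2 : pl (lift (𝟙 X) (1 : X ⟶ Y)) c = 1)
    {T : Over (Spec (CommRingCat.of k))} (a : T ⟶ X) (b : T ⟶ Y) (n : ℕ) :
    pl (lift (a ^ n) b) c = pl (lift a b) c ^ n := by
  induction n with
  | zero =>
    rw [pow_zero, pow_zero, show lift (1 : T ⟶ X) b = b ≫ lift (1 : Y ⟶ X) (𝟙 Y) by
      rw [comp_lift, MonObj.comp_one, Category.comp_id], ← pl_pl, h1, map_one]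
  | succ n ih => rw [pow_succ, pow_succ, add_left hc h1 h2, ih]

end pow

/-- the main statement over an algebraically closed field -/
theorem main [IsAlgClosed k] (X Xt : Over (Spec (CommRingCat.of k)))
    [GrpObj X] [IsCommMonObj X] [IsProper X.hom] [GeometricallyIntegral X.hom]
    [GrpObj Xt] [IsCommMonObj Xt] [IsProper Xt.hom] [GeometricallyIntegral Xt.hom]
    (φ : AgPol.DualMap X Xt) (hφ : AbDual.IsDualAV Scheme.fppfPrecoverage X Xt φ)
    (φ' : AgPol.DualMap Xt X) (hφ' : AbDual.IsDualAV Scheme.fppfPrecoverage Xt X φ')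
    (ξ : PicF.Cl (PicF.XT X.hom Xt)) (hξ : AbDual.IsPoincareCl X Xt φ ξ)
    (hξ' : AbDual.IsPoincareCl Xt X φ' (PicF.pullCl (pullbackSymmetry Xt.hom X.hom).hom ξ))
    (lam : X ⟶ Xt) [IsMonHom lam] (hsymm : AbDual.IsTranspose lam φ φ' lam) :
    ∃ L : X.left.Modules, PicF.IsInvertible L ∧ AgPol.IsLambda X Xt φ L lam := by
  haveI : IsIntegral X.left := GeometricallyIntegral.isIntegral_of_subsingleton X.hom
  let P : PicF.Cl (X ⊗ Xt).left := ξ
  have hPz : PZ X Xt P := hξ.1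
  have hP : PicF.IsInvertibleCl P := pz_invertible hPz
  obtain ⟨h1, h2⟩ := poincare_axes hφ hξ
  change pl _ P = 1 at h1 h2
  -- the two correspondences agree
  let E : PicF.Cl (X ⊗ X).left := pl (X ◁ lam) P
  let E' : PicF.Cl (X ⊗ X).left := pl (lift (snd X X) (fst X X ≫ lam)) P
  have hE : PZ X X E := pz_pl lam hPz
  have hφE : φ X E = lam := by
    rw [show φ X E = lam ≫ φ Xt P from phi_pl hφ lam hPz, show φ Xt P = 𝟙 Xt from hξ.2.1, Category.comp_id]
  have hE'd : E' = PicF.pullCl (AbDual.bcMap lam X) (PicF.pullCl (pullbackSymmetry Xt.hom X.hom).hom ξ) := by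
    rw [swap_eq, bcMap_eq]
    show pl _ P = pl (lam ▷ X) (pl (lift (snd Xt X) (fst Xt X)) P)
    rw [pl_pl, comp_lift, whiskerRight_snd, whiskerRight_fst]
  have hE' : PZ X X E' := by
    rw [hE'd]
    exact AbDualBase.pz_bc lam hξ'.1
  have hφE' : φ X E' = lam := by
    rw [hE'd, hsymm X _ hξ'.1, hξ'.2.1, Category.id_comp]
  have hEE : E' = E := by
    refine eq_of_phi hφ hE' hE (hφE'.trans hφE.symm) 1 ?_
    rw [pl_pl, pl_pl, comp_lift, lift_snd, lift_fst_assoc, MonObj.one_comp, lift_whiskerLeft, Category.id_comp,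
      h2, show lift (1 : X ⟶ X) lam = lam ≫ lift (1 : Xt ⟶ X) (𝟙 Xt) by
        rw [comp_lift, MonObj.comp_one, Category.comp_id], ← pl_pl, h1, map_one]
  have hEeq : E = pl (lift (fst X X) (snd X X ≫ lam)) P := by
    show pl (X ◁ lam) P = _
    congr 2
  -- the Mumford class of `(1, lam)^* P`
  let c₁ : PicF.Cl X.left := pl (lift (𝟙 X) lam) P
  have hμ : pl μ[X] c₁ = pl (fst X X) c₁ * pl (snd X X) c₁ * (E * E) := by
    have hm : μ[X] = fst X X * snd X X := by rw [Hom.mul_def, lift_fst_snd, Category.id_comp]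
    simp only [c₁, pl_pl, comp_lift, Category.comp_id]
    rw [hm, MonObj.mul_comp, add_left hP h1 h2, add_right hP h1 h2, add_right hP h1 h2, ← hEeq,
      show pl (lift (snd X X) (fst X X ≫ lam)) P = E' from rfl, hEE]
    ac_rfl
  obtain ⟨N, hNc, hN⟩ : PicF.IsInvertibleCl (c₁ * c₁) :=
    PicMul.isInvertibleCl_mul (isInv_pl _ hP) (isInv_pl _ hP)
  have hNμ : pl μ[X] (PicF.cl N) = pl (fst X X) (PicF.cl N) * pl (snd X X) (PicF.cl N) * E ^ 4 := by
    rw [hNc, map_mul, map_mul, map_mul, hμ, show E ^ 4 = E * E * (E * E) by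
      simp only [pow_succ, pow_zero, _root_.one_mul, _root_.mul_assoc]]
    ac_rfl
  have hK : ∀ {T : Over (Spec (CommRingCat.of k))} (z : T ⟶ X), z ^ (2 * 2) = 1 → IsMumfordTriv X N z := by
    intro T z hz
    refine (KLBasic.mumford_iff hN z).2 ⟨pl z (PicF.cl N), isInv_pl z ⟨N, rfl, hN⟩, ?_⟩
    show pl (transl X z ≫ fst X T) (PicF.cl N) = pl (fst X T) (PicF.cl N) * pl (snd X T) (pl z (PicF.cl N))
    have ht : transl X z ≫ fst X T = (X ◁ z) ≫ μ[X] := KLBasic.transl_fst_eq z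
    rw [ht, ← pl_pl, hNμ, map_mul, map_mul, map_pow, pl_pl, pl_pl, whiskerLeft_fst, whiskerLeft_snd, pl_pl,
      show (X ◁ z) ≫ (X ◁ lam) = lift (fst X T) (snd X T ≫ z ≫ lam) by
        apply CartesianMonoidalCategory.hom_ext <;> simp, ← pl_pow_right hP h1 h2,
      show (snd X T ≫ z ≫ lam) ^ 4 = (1 : X ⊗ T ⟶ Xt) by
        rw [← MonObj.comp_pow, ← MonObj.pow_comp, show z ^ 4 = 1 from hz, MonObj.one_comp, MonObj.comp_one],
      show lift (fst X T) (1 : X ⊗ T ⟶ Xt) = fst X T ≫ lift (𝟙 X) (1 : X ⟶ Xt) by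
        rw [comp_lift, MonObj.comp_one, Category.comp_id], ← pl_pl (fst X T) (lift (𝟙 X) (1 : X ⟶ Xt)), h2, map_one,
      _root_.mul_one, pl_pl]
  obtain ⟨M, hM, ⟨e⟩⟩ := exists_descent_pow hN (by norm_num : 1 ≤ 2) hK
  let f : X ⟶ X := 𝟙 X ^ 2
  have hMN : pl f (PicF.cl M) = PicF.cl N := (PicGrp.cl_eq_cl_iff _ _).2 ⟨e⟩
  -- the Mumford class of `M`
  obtain ⟨D, hD, hMD⟩ := AVPair.exists_inv (⟨M, rfl, hM⟩ : PicF.IsInvertibleCl (PicF.cl M))
  obtain ⟨Λ, hΛc, hΛ⟩ : PicF.IsInvertibleCl (pl μ[X] (PicF.cl M) * pl (fst X X) D * pl (snd X X) D) :=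
    PicMul.isInvertibleCl_mul (PicMul.isInvertibleCl_mul (isInv_pl _ ⟨M, rfl, hM⟩) (isInv_pl _ hD)) (isInv_pl _ hD)
  have hΛM : AgPol.IsLambdaSheaf (μ[X].left : PicF.XT X.hom X ⟶ X.left) (fst X X).left (snd X X).left M Λ := by
    refine (PicGrp.cl_eq_cl_iff _ _).1 ?_
    rw [PicMul.cl_tensor, PicMul.cl_tensor]
    show (PicF.cl Λ : PicF.Cl (X ⊗ X).left) * pl (fst X X) (PicF.cl M) * pl (snd X X) (PicF.cl M) =
      pl μ[X] (PicF.cl M)
    rw [hΛc]
    calc _ = pl μ[X] (PicF.cl M) * (pl (fst X X) (PicF.cl M) * pl (fst X X) D) *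
          (pl (snd X X) (PicF.cl M) * pl (snd X X) D) := by ac_rfl
      _ = _ := by rw [← map_mul, ← map_mul, hMD, map_one, map_one, _root_.mul_one, _root_.mul_one]
  have hΛz : PZ X X (PicF.cl Λ) := FinDesc.pz_lambdaSheaf hM hΛ hΛM
  refine ⟨M, hM, Λ, hΛ, hΛM, ?_⟩
  -- the axes
  have hax : ∀ (q : X ⟶ X ⊗ X), q ≫ fst X X = 1 ∧ q ≫ snd X X = 𝟙 X ∨ q ≫ fst X X = 𝟙 X ∧ q ≫ snd X X = 1 →
      pl q (PicF.cl Λ) = 1 := by
    intro q hq
    have hm : μ[X] = fst X X * snd X X := by rw [Hom.mul_def, lift_fst_snd, Category.id_comp]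
    rw [hΛc, map_mul, map_mul, pl_pl, pl_pl, pl_pl, hm, MonObj.comp_mul]
    have hc : pl (1 : X ⟶ X) D = 1 := by rw [Hom.one_def]; exact pl_const hD η
    rcases hq with ⟨a, b⟩ | ⟨a, b⟩ <;>
      simp only [a, b, _root_.one_mul, _root_.mul_one, pl_id, hc, hMD]
  have a1 := hax (lift (1 : X ⟶ X) (𝟙 X)) (Or.inl ⟨lift_fst _ _, lift_snd _ _⟩)
  have a2 := hax (lift (𝟙 X) (1 : X ⟶ X)) (Or.inr ⟨lift_fst _ _, lift_snd _ _⟩)
  have hΛi : PicF.IsInvertibleCl (PicF.cl Λ : PicF.Cl (X ⊗ X).left) := ⟨Λ, rfl, hΛ⟩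
  have hff : pl (f ⊗ₘ f) (PicF.cl Λ) = (PicF.cl Λ : PicF.Cl (X ⊗ X).left) ^ 4 := by
    rw [show f ⊗ₘ f = lift (fst X X ^ 2) (snd X X ^ 2) by
      apply CartesianMonoidalCategory.hom_ext <;> simp [f, MonObj.comp_pow],
      pl_pow_left hΛi a1 a2, pl_pow_right hΛi a1 a2, lift_fst_snd, pl_id, ← pow_mul]
  have hE4 : (PicF.cl Λ : PicF.Cl (X ⊗ X).left) ^ 4 = E ^ 4 := by
    rw [← hff, hΛc, map_mul, map_mul, pl_pl, pl_pl, pl_pl, tensorHom_fst, tensorHom_snd]
    haveI : IsMonHom f := AVDegLib.isMonHom_pow (A := X) 2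
    rw [← IsMonHom.mul_hom f, ← pl_pl, ← pl_pl, ← pl_pl, hMN, hNμ]
    have hfD : PicF.cl N * pl f D = 1 := by rw [← hMN, ← map_mul, hMD, map_one]
    calc pl (fst X X) (PicF.cl N) * pl (snd X X) (PicF.cl N) * E ^ 4 * pl (fst X X) (pl f D) *
          pl (snd X X) (pl f D) = E ^ 4 * (pl (fst X X) (PicF.cl N) * pl (fst X X) (pl f D)) *
          (pl (snd X X) (PicF.cl N) * pl (snd X X) (pl f D)) := by ac_rfl
      _ = _ := by rw [← map_mul, ← map_mul, hfD, map_one, map_one, _root_.mul_one, _root_.mul_one]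
  -- comparing
  have hpow : ∀ {c : PicF.Cl (X ⊗ X).left}, PZ X X c → pl (lift (1 : X ⟶ X) (𝟙 X)) c = 1 →
      pl (lift (𝟙 X) (1 : X ⟶ X)) c = 1 → (𝟙 X ^ 4 : X ⟶ X) ≫ φ X c = φ X (c ^ 4) := by
    intro c hc b1 b2
    rw [← phi_pl hφ _ hc, show X ◁ (𝟙 X ^ 4 : X ⟶ X) = lift (fst X X) (snd X X ^ 4) by
      apply CartesianMonoidalCategory.hom_ext <;> simp [MonObj.comp_pow],
      pl_pow_right (pz_invertible hc) b1 b2, lift_fst_snd, pl_id]
  have e1 : pl (lift (1 : X ⟶ X) (𝟙 X)) E = 1 := by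
    rw [pl_pl, lift_whiskerLeft, Category.id_comp, show lift (1 : X ⟶ X) lam = lam ≫ lift (1 : Xt ⟶ X) (𝟙 Xt) by
      rw [comp_lift, MonObj.comp_one, Category.comp_id], ← pl_pl, h1, map_one]
  have e2 : pl (lift (𝟙 X) (1 : X ⟶ X)) E = 1 := by
    rw [pl_pl, lift_whiskerLeft, MonObj.one_comp, h2]
  haveI : IsMonHom (𝟙 X ^ 4 : X ⟶ X) := AVDegLib.isMonHom_pow (A := X) 4
  haveI : Surjective (𝟙 X ^ 4 : X ⟶ X).left := AVMulN.surjective_pow 4 (by norm_num)
  haveI : Flat (𝟙 X ^ 4 : X ⟶ X).left := AVDegLib.flat_pow 4 (by norm_num)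
  haveI : IsFinite (𝟙 X ^ 4 : X ⟶ X).left := AVMulN.isFinite_pow 4 (by norm_num)
  haveI : Epi (𝟙 X ^ 4 : X ⟶ X).left := Flat.epi_of_flat_of_surjective _
  haveI : Epi (𝟙 X ^ 4 : X ⟶ X) := Over.epi_of_epi_left _
  exact (cancel_epi (𝟙 X ^ 4 : X ⟶ X)).1
    (((hpow hΛz a1 a2).trans ((congrArg (φ X) hE4).trans (hpow hE e1 e2).symm)).trans (congrArg _ hφE))

end Groth.Agent.AVTheta.SymHalf

end
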